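/-
Additive maps of the plane over a finite field which normalize the special linear group and fix a line.
-/
import Mathlib

set_option autoImplicit false

namespace Cfsg.Lib.BlockPair.Line

set_option linter.style.haveILetI false
set_option linter.unusedSectionVars false

open Matrix
open scoped MatrixGroups

variable {F : Type} [Field F]

/-- unitriangular element -/
def uni (a : F) : SL(2, F) := ⟨!![1, a; 0, 1], by simp [det_fin_two]⟩

/-- the Weyl element -/
def wel : SL(2, F) := ⟨!![0, -1; 1, 0], by simp [det_fin_two]⟩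

/-- a point of the first axis -/
abbrev ax (l : F) : Fin 2 → F := ![l, 0]

theorem uni_mulVec (a : F) (v : Fin 2 → F) :
    (uni a : Matrix (Fin 2) (Fin 2) F) *ᵥ v = ![v 0 + a * v 1, v 1] := by
  funext i; fin_cases i <;> simp [uni, mulVec, dotProduct, Fin.sum_univ_two]

theorem wel_mulVec (l : F) : ((wel : SL(2, F)) : Matrix (Fin 2) (Fin 2) F) *ᵥ ax l = ![0, l] := by
  funext i; fin_cases i <;> simp [wel, mulVec, dotProduct, Fin.sum_univ_two]

theorem mulVec_ax (M : Matrix (Fin 2) (Fin 2) F) (l : F) : M *ᵥ ax l = l • ![M 0 0, M 1 0] := by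
  funext i; fin_cases i <;> simp [mulVec, dotProduct, Fin.sum_univ_two, mul_comm]

/-- a matrix fixing a nonzero point of the axis and of determinant one is unitriangular -/
theorem eq_uni {M : SL(2, F)} {l : F} (hl : l ≠ 0) (h : (M : Matrix (Fin 2) (Fin 2) F) *ᵥ ax l = ax l) :
    M = uni ((M : Matrix (Fin 2) (Fin 2) F) 0 1) := by
  rw [mulVec_ax] at h
  have h0 : l * (M : Matrix (Fin 2) (Fin 2) F) 0 0 = l := congrFun h 0
  have h1 : l * (M : Matrix (Fin 2) (Fin 2) F) 1 0 = 0 := congrFun h 1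
  have a0 : (M : Matrix (Fin 2) (Fin 2) F) 0 0 = 1 := mul_left_cancel₀ hl (by rw [h0, mul_one])
  have a1 : (M : Matrix (Fin 2) (Fin 2) F) 1 0 = 0 := (mul_eq_zero.mp h1).resolve_left hl
  have hd : (M : Matrix (Fin 2) (Fin 2) F).det = 1 := M.2
  rw [det_fin_two, a0, a1, one_mul, mul_zero, sub_zero] at hd
  refine Subtype.ext (Matrix.ext fun i j => ?_)
  fin_cases i <;> fin_cases j <;> simp [uni, a0, a1, hd]

/-- an additive bijection normalizing the special linear group -/
def Normalizes (β : (Fin 2 → F) ≃+ (Fin 2 → F)) : Prop :=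
  ∀ g : SL(2, F), ∃ g' : SL(2, F), ∀ v, β ((g : Matrix (Fin 2) (Fin 2) F) *ᵥ v) = (g' : Matrix (Fin 2) (Fin 2) F) *ᵥ β v

/-- it is semilinear and triangular when it fixes the axis -/
theorem form {β : (Fin 2 → F) ≃+ (Fin 2 → F)} (hn : Normalizes β) (hax : ∀ l, β (ax l) 1 = 0) :
    ∃ σ : F →+* F, ∃ d₁ c d₂ : F, d₁ ≠ 0 ∧ d₂ ≠ 0 ∧
      ∀ v : Fin 2 → F, β v = ![σ (v 0) * d₁ + σ (v 1) * c, σ (v 1) * d₂] := by
  classical
  set g : F → F := fun l => β (ax l) 0 with hg
  have hgax : ∀ l, β (ax l) = ax (g l) := fun l => by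
    funext i; fin_cases i
    · rfl
    · exact hax l
  have hgadd : ∀ a b, g (a + b) = g a + g b := fun a b => by
    show β (ax (a + b)) 0 = β (ax a) 0 + β (ax b) 0
    rw [show ax (a + b) = ax a + ax b by funext i; fin_cases i <;> simp, map_add]
    rfl
  have hg0 : g 0 = 0 := by
    show β (ax 0) 0 = 0
    rw [show ax (0 : F) = 0 by funext i; fin_cases i <;> simp, map_zero]; rfl
  have hg1 : g 1 ≠ 0 := by
    intro h
    have := hgax 1
    rw [h, show ax (0 : F) = 0 by funext i; fin_cases i <;> simp, ← map_zero β] at this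
    simpa using congrFun (β.injective this) 0
  obtain ⟨M, hM⟩ := hn wel
  set c := g 1 * (M : Matrix (Fin 2) (Fin 2) F) 0 0 with hc
  set d₂ := g 1 * (M : Matrix (Fin 2) (Fin 2) F) 1 0 with hd₂
  have hsnd : ∀ l, β ![0, l] = ![g l * (M : Matrix (Fin 2) (Fin 2) F) 0 0, g l * (M : Matrix (Fin 2) (Fin 2) F) 1 0] := by
    intro l
    rw [← wel_mulVec, hM, hgax, mulVec_ax]
    funext i; fin_cases i <;> simp
  have hd₂0 : d₂ ≠ 0 := by
    intro h
    have hsurj : ∀ y : Fin 2 → F, y 1 = 0 := by
      intro y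
      obtain ⟨v, rfl⟩ := β.surjective y
      rw [show v = ax (v 0) + ![0, v 1] by funext i; fin_cases i <;> simp, map_add, Pi.add_apply, hax, hsnd]
      have hm : (M : Matrix (Fin 2) (Fin 2) F) 1 0 = 0 := (mul_eq_zero.mp h).resolve_left hg1
      simp [hm]
    exact one_ne_zero (hsurj ![0, 1])
  have hmul : ∀ a l, g (a * l) * g 1 = g a * g l := by
    intro a l
    obtain ⟨U, hU⟩ := hn (uni a)
    have hUfix : (U : Matrix (Fin 2) (Fin 2) F) *ᵥ ax (g 1) = ax (g 1) := by
      rw [← hgax, ← hU, uni_mulVec]; congr 1; funext i; fin_cases i <;> simp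
    rw [eq_uni hg1 hUfix] at hU
    set a' := (U : Matrix (Fin 2) (Fin 2) F) 0 1 with ha'
    have h : ∀ l, g (a * l) = a' * (g l * (M : Matrix (Fin 2) (Fin 2) F) 1 0) := by
      intro l
      have e : (uni a : Matrix (Fin 2) (Fin 2) F) *ᵥ ![0, l] = ax (a * l) + ![0, l] := by
        rw [uni_mulVec]; funext i; fin_cases i <;> simp
      have h := congrFun (hU ![0, l]) 0
      rw [e, map_add, Pi.add_apply, hgax, hsnd, uni_mulVec] at h
      simp only [ax, Matrix.cons_val_zero, Matrix.cons_val_one] at h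
      linear_combination h
    have h1 := h 1
    rw [mul_one] at h1
    rw [h l, h1]; ring
  let σ : F →+* F :=
    { toFun := fun l => g l / g 1
      map_one' := div_self hg1
      map_mul' := fun a b => by field_simp; linear_combination hmul a b
      map_zero' := by rw [hg0, zero_div]
      map_add' := fun a b => by rw [hgadd, add_div] }
  refine ⟨σ, g 1, c, d₂, hg1, hd₂0, fun v => ?_⟩
  conv_lhs => rw [show v = ax (v 0) + ![0, v 1] by funext i; fin_cases i <;> simp, map_add, hgax, hsnd]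
  have e : ∀ x, σ x * g 1 = g x := fun x => div_mul_cancel₀ _ hg1
  funext i
  fin_cases i
  · show g (v 0) + g (v 1) * _ = σ (v 0) * g 1 + σ (v 1) * (g 1 * _)
    rw [← mul_assoc, e, e]
  · show (0 : F) + g (v 1) * _ = σ (v 1) * (g 1 * _)
    rw [zero_add, ← mul_assoc, e]

variable [Fintype F]

/-- the fixed field -/
theorem card_fixed_sq {σ : F →+* F} (h : σ ≠ RingHom.id F) :
    Nat.card {x : F // σ x = x} * Nat.card {x : F // σ x = x} ≤ Fintype.card F := by
  obtain ⟨z, hz⟩ : ∃ z, σ z ≠ z := by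
    by_contra hno
    push Not at hno
    exact h (RingHom.ext hno)
  rw [← Nat.card_prod, ← Nat.card_eq_fintype_card]
  refine Nat.card_le_card_of_injective (fun q => (q.1 : F) + (q.2 : F) * z) ?_
  rintro ⟨⟨a, ha⟩, ⟨b, hb⟩⟩ ⟨⟨a', ha'⟩, ⟨b', hb'⟩⟩ e
  simp only at e
  have e2 := congrArg σ e
  simp only [map_add, map_mul, ha, hb, ha', hb'] at e2
  have hbb : b = b' := by
    by_contra hne
    have : (b - b') * (σ z - z) = 0 := by linear_combination e2 - e
    rcases mul_eq_zero.mp this with h' | h'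
    · exact hne (sub_eq_zero.mp h')
    · exact hz (sub_eq_zero.mp h')
  subst hbb
  simpa using e

/-- solutions of `σ x * d = x * e` -/
theorem card_twisted_le {σ : F →+* F} {d e : F} (hd : d ≠ 0) :
    Nat.card {x : F // σ x * d = x * e} ≤ Nat.card {x : F // σ x = x} := by
  by_cases hex : ∃ x : F, x ≠ 0 ∧ σ x * d = x * e
  · obtain ⟨x₀, hx₀, he⟩ := hex
    refine Nat.card_le_card_of_injective (fun x => ⟨(x : F) / x₀, ?_⟩) ?_
    · rw [map_div₀, div_eq_div_iff ((map_ne_zero σ).2 hx₀) hx₀]
      exact mul_right_cancel₀ hd (by linear_combination x₀ * x.2 - (x : F) * he)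
    · intro a b hab
      have := congrArg Subtype.val hab
      simp only at this
      exact Subtype.ext (by rwa [div_left_inj' hx₀] at this)
  · push Not at hex
    haveI : Subsingleton {x : F // σ x * d = x * e} := ⟨fun a b => by
      have hz : ∀ c : {x : F // σ x * d = x * e}, (c : F) = 0 := fun c => by
        by_contra hc
        exact hex c hc c.2
      exact Subtype.ext ((hz a).trans (hz b).symm)⟩
    refine le_trans (Finite.card_le_one_iff_subsingleton.2 inferInstance) ?_
    haveI : Nonempty {x : F // σ x = x} := ⟨⟨0, map_zero σ⟩⟩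
    exact Nat.one_le_iff_ne_zero.2 Nat.card_pos.ne'

/-- endomorphisms of a finite field are determined by a primitive element -/
theorem exists_determining (F : Type) [Field F] [Fintype F] :
    ∃ z : F, z ≠ 0 ∧ ∀ σ τ : F →+* F, σ z = τ z → σ = τ := by
  classical
  obtain ⟨ζ, hζ⟩ := IsCyclic.exists_generator (α := Fˣ)
  refine ⟨(ζ : F), ζ.ne_zero, fun σ τ h => RingHom.ext fun x => ?_⟩
  by_cases hx : x = 0
  · simp [hx]
  obtain ⟨n, hn⟩ := hζ (Units.mk0 x hx)
  have : x = (ζ : F) ^ n := by
    have := congrArg Units.val hn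
    simpa using this.symm
  rw [this, map_zpow₀, map_zpow₀, h]

end Cfsg.Lib.BlockPair.Line
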