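/-
Automorphisms carry blocks to blocks.
-/
import Cfsg.Agent.Components.Misc.BaumannBlockBasic
import Cfsg.Agent.Components.Amalgam.Graph

set_option autoImplicit false

namespace Cfsg.Lib.BlockPair

set_option linter.style.haveILetI false
set_option linter.unusedSectionVars false

open Subgroup

universe u

variable {G : Type u} [Group G] [Finite G] {p : ℕ} [hp : Fact p.Prime]

theorem map_pResidualOf (e : G ≃* G) (E : Subgroup G) :
    (Cfsg.pResidualOf p E).map e.toMonoidHom = Cfsg.pResidualOf p (E.map e.toMonoidHom) := by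
  simp only [Cfsg.pResidualOf, Cfsg.pResidual, MonoidHom.map_closure]
  congr 1
  ext x
  simp only [Set.mem_image, Set.mem_setOf_eq, Subgroup.coe_subtype, MulEquiv.coe_toMonoidHom]
  constructor
  · rintro ⟨_, ⟨g, hg, rfl⟩, rfl⟩
    refine ⟨⟨e (g : G), Subgroup.mem_map_of_mem e.toMonoidHom g.2⟩, ?_, rfl⟩
    rw [← Subgroup.orderOf_coe] at hg ⊢
    exact (orderOf_injective e.toMonoidHom e.injective _).symm ▸ hg
  · rintro ⟨⟨_, g, hg, rfl⟩, hx, rfl⟩
    refine ⟨g, ⟨⟨g, hg⟩, ?_, rfl⟩, rfl⟩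
    rw [← Subgroup.orderOf_coe] at hx ⊢
    rwa [orderOf_injective e.toMonoidHom e.injective] at hx

theorem map_pCoreOf (e : G ≃* G) (E : Subgroup G) :
    (Cfsg.pCoreOf p E).map e.toMonoidHom = Cfsg.pCoreOf p (E.map e.toMonoidHom) := by
  let f : E ≃* ↥(E.map e.toMonoidHom) := E.equivMapOfInjective _ e.injective
  rw [Cfsg.pCoreOf, Cfsg.pCoreOf, ← Cfsg.Lib.Amalgam.pCore_equiv p f, Subgroup.map_map, Subgroup.map_map]
  rfl

theorem map_omegaOneCenter (e : G ≃* G) (X : Subgroup G) :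
    (Cfsg.omegaOneCenter p X).map e.toMonoidHom = Cfsg.omegaOneCenter p (X.map e.toMonoidHom) := by
  rw [Cfsg.omegaOneCenter, Cfsg.omegaOneCenter, Cfsg.Lib.ZJ.map_omegaOne, Subgroup.map_inf _ _ _ e.injective,
    Cfsg.Lib.ZJ.map_centralizer_equiv]

theorem map_frattiniOf (e : G ≃* G) (X : Subgroup G) :
    ((frattini ↥X).map X.subtype).map e.toMonoidHom =
      (frattini ↥(X.map e.toMonoidHom)).map (X.map e.toMonoidHom).subtype := by
  let f : X ≃* ↥(X.map e.toMonoidHom) := X.equivMapOfInjective _ e.injective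
  have h : (frattini ↥X).map f.toMonoidHom = frattini ↥(X.map e.toMonoidHom) :=
    OrderIso.map_radical f.mapSubgroup
  rw [← h, Subgroup.map_map, Subgroup.map_map]
  rfl

theorem actsSL2_map (e : G ≃* G) {F : Type} [Field F] {R : Subgroup (Matrix.SpecialLinearGroup (Fin 2) F)}
    {E U U₀ : Subgroup G} (h : Cfsg.ActsAsSL2OnSection F R E U U₀) :
    Cfsg.ActsAsSL2OnSection F R (E.map e.toMonoidHom) (U.map e.toMonoidHom) (U₀.map e.toMonoidHom) := by
  obtain ⟨h1, h2, ρ, ψ, hρ, hψs, hψ, hact⟩ := h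
  let fE := E.equivMapOfInjective e.toMonoidHom e.injective
  let fU := U.equivMapOfInjective e.toMonoidHom e.injective
  refine ⟨(Subgroup.map_mono h1).trans (le_normalizer_map e.toMonoidHom), Subgroup.map_mono h2,
    ρ.comp fE.symm.toMonoidHom, ψ.comp fU.symm.toMonoidHom, ?_, hψs.comp fU.symm.surjective, fun u => ?_,
    fun x u => ?_⟩
  · rw [MonoidHom.range_comp, MonoidHom.range_eq_top.mpr fE.symm.surjective, ← MonoidHom.range_eq_map, hρ]
  · obtain ⟨v, rfl⟩ := fU.surjective u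
    rw [show (fU v : G) = e.toMonoidHom v from rfl, Subgroup.mem_map_iff_mem e.injective, ← hψ v,
      MonoidHom.comp_apply, MulEquiv.coe_toMonoidHom, MulEquiv.symm_apply_apply]
  · obtain ⟨y, rfl⟩ := fE.surjective x
    obtain ⟨v, rfl⟩ := fU.surjective u
    obtain ⟨w, hw1, hw2⟩ := hact y v
    refine ⟨fU w, ?_, ?_⟩
    · show e w = e y * e v * (e y)⁻¹
      rw [hw1, map_mul, map_mul, map_inv]
    · simp only [MonoidHom.comp_apply, MulEquiv.coe_toMonoidHom, MulEquiv.symm_apply_apply]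
      exact hw2

theorem actsPerm_map (e : G ≃* G) {n : ℕ} {R : Subgroup (Equiv.Perm (Fin n))}
    {E U U₀ : Subgroup G} (h : Cfsg.ActsAsOddPermModuleOnSection n R E U U₀) :
    Cfsg.ActsAsOddPermModuleOnSection n R (E.map e.toMonoidHom) (U.map e.toMonoidHom) (U₀.map e.toMonoidHom) := by
  obtain ⟨h1, h2, ρ, ψ, hρ, hev, hψs, hψ, hact⟩ := h
  let fE := E.equivMapOfInjective e.toMonoidHom e.injective
  let fU := U.equivMapOfInjective e.toMonoidHom e.injective
  refine ⟨(Subgroup.map_mono h1).trans (le_normalizer_map e.toMonoidHom), Subgroup.map_mono h2,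
    ρ.comp fE.symm.toMonoidHom, ψ.comp fU.symm.toMonoidHom, ?_, fun u => hev _, fun v hv => ?_, fun u => ?_,
    fun x u => ?_⟩
  · rw [MonoidHom.range_comp, MonoidHom.range_eq_top.mpr fE.symm.surjective, ← MonoidHom.range_eq_map, hρ]
  · obtain ⟨u, hu⟩ := hψs v hv
    exact ⟨fU u, by simp only [MonoidHom.comp_apply, MulEquiv.coe_toMonoidHom, MulEquiv.symm_apply_apply]; exact hu⟩
  · obtain ⟨v, rfl⟩ := fU.surjective u
    rw [show (fU v : G) = e.toMonoidHom v from rfl, Subgroup.mem_map_iff_mem e.injective, ← hψ v,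
      MonoidHom.comp_apply, MulEquiv.coe_toMonoidHom, MulEquiv.symm_apply_apply]
  · obtain ⟨y, rfl⟩ := fE.surjective x
    obtain ⟨v, rfl⟩ := fU.surjective u
    obtain ⟨w, hw1, hw2⟩ := hact y v
    refine ⟨fU w, ?_, ?_⟩
    · show e w = e y * e v * (e y)⁻¹
      rw [hw1, map_mul, map_mul, map_inv]
    · simp only [MonoidHom.comp_apply, MulEquiv.coe_toMonoidHom, MulEquiv.symm_apply_apply]
      exact hw2

/-- an automorphism carries a block to a block -/
theorem block_map (e : G ≃* G) {T E : Subgroup G} (h : Cfsg.IsBaumannBlock p T E) :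
    Cfsg.IsBaumannBlock p (T.map e.toMonoidHom) (E.map e.toMonoidHom) := by
  obtain ⟨h1, h2, h3, h4, hcase⟩ := h
  have hB := Cfsg.Lib.BlockBasic.map_baumannSubgroupOf (p := p) e T
  have hQ := map_pCoreOf (p := p) e E
  have hW : (Cfsg.omegaOneCenter p (Cfsg.pCoreOf p E)).map e.toMonoidHom =
      Cfsg.omegaOneCenter p (Cfsg.pCoreOf p (E.map e.toMonoidHom)) := by rw [map_omegaOneCenter, hQ]
  have hC := Cfsg.Lib.ZJ.map_centralizer_equiv e E
  have hZ : (Cfsg.omegaOneCenter p (Cfsg.pCoreOf p E) ⊓ centralizer (E : Set G)).map e.toMonoidHom =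
      Cfsg.omegaOneCenter p (Cfsg.pCoreOf p (E.map e.toMonoidHom)) ⊓
        centralizer ((E.map e.toMonoidHom : Subgroup G) : Set G) := by
    rw [Subgroup.map_inf _ _ _ e.injective, hW, hC]
  let fE := E.equivMapOfInjective e.toMonoidHom e.injective
  have eqv : ↥(E.map e.toMonoidHom) ⧸ Cfsg.pCore p ↥(E.map e.toMonoidHom) ≃* ↥E ⧸ Cfsg.pCore p ↥E :=
    (QuotientGroup.congr (Cfsg.pCore p ↥E) (Cfsg.pCore p ↥(E.map e.toMonoidHom)) fE
      (Cfsg.Lib.Amalgam.pCore_equiv p fE)).symm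
  refine ⟨by rw [← map_pResidualOf, h1], by rw [← hB, ← map_commutator, h2], by rw [← hQ, ← map_commutator, h3],
    ?_, ?_⟩
  · rw [← map_omegaOneCenter, ← map_commutator, Ne, Subgroup.map_eq_bot_iff_of_injective _ e.injective]
    exact h4
  rcases hcase with ⟨F, iF, iFt, n, hF, ⟨hi⟩, hact, hex⟩ | ⟨hp2, m, ⟨hi⟩, hact, hQW⟩
  · refine Or.inl ⟨F, iF, iFt, n, hF, ⟨eqv.trans hi⟩, ?_, ?_⟩
    · have := actsSL2_map e hact
      rwa [hW, hZ] at this
    rcases hex with hex | ⟨hp3, hact2, h5, h6, h7, h8, h9⟩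
    · exact Or.inl (by rw [← hW, ← hQ, ← hex])
    refine Or.inr ⟨hp3, ?_, ?_, ?_, ?_, ?_, ?_⟩
    · have := actsSL2_map e hact2
      rwa [hW, hQ] at this
    · rw [← hQ, ← map_commutator, h5, hZ]
      rw [hQ]
    · rw [← hZ, ← h6, map_frattiniOf, hQ]
    · rw [← hZ, ← h7, Subgroup.map_inf _ _ _ e.injective, hC]
    · rw [← hC, ← Subgroup.map_inf _ _ _ e.injective, card_map_of_injective e.injective]
      exact h8
    · intro b hb hb'
      rw [← hB] at hb
      obtain ⟨b', hb1, rfl⟩ := hb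
      intro hle
      refine h9 b' hb1 (fun hc => hb' ?_) ?_
      · rw [← hW, ← Cfsg.Lib.ZJ.map_centralizer_equiv]
        exact ⟨b', hc, rfl⟩
      · rw [← hQ, ← hC, ← Subgroup.map_inf _ _ _ e.injective, ← MonoidHom.map_zpowers, ← map_commutator,
          ← map_commutator, Subgroup.map_le_map_iff_of_injective e.injective] at hle
        exact hle
  · refine Or.inr ⟨hp2, m, ⟨eqv.trans hi⟩, ?_, by rw [← hW, ← hQ, ← hQW]⟩
    have := actsPerm_map e hact
    rwa [hW, hZ] at this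

end Cfsg.Lib.BlockPair
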