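/-
The groups `E / O_p(E)` occurring for blocks: small proper normal subgroups.
-/
import Mathlib
import Cfsg.Agent.Known.Laws
import Cfsg.Agent.Classical.Misc.SmallFacts
import Cfsg.Agent.Classical.Misc.SLTwoTori
import Cfsg.Agent.S2427

set_option autoImplicit false

namespace Cfsg.Lib.BlockPair

set_option linter.style.haveILetI false
set_option linter.unusedSectionVars false

open Subgroup Matrix
open scoped MatrixGroups commutatorElement

/-- the possible `E / O_p(E)` have only small proper normal subgroups -/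
def Small (p : ℕ) (Y : Type*) [Group Y] : Prop :=
  (p = 2 → IsSimpleGroup Y) ∧
  (p ≠ 2 → 8 ≤ Nat.card Y ∧ (∀ N : Subgroup Y, N.Normal → N ≠ ⊤ → Nat.card N ≤ 4) ∧
    ((commutator Y = ⊤ ∧ ∀ N : Subgroup Y, N.Normal → N ≠ ⊤ → N ≤ center Y) ∨ (p = 3 ∧ Nat.card Y = 8)))

theorem small_of_equiv {p : ℕ} {Y Y' : Type*} [Group Y] [Group Y'] (e : Y ≃* Y') (h : Small p Y) :
    Small p Y' := by
  refine ⟨fun hp => ?_, fun hp => ?_⟩
  · haveI := h.1 hp
    haveI : Nontrivial Y' := e.toEquiv.symm.nontrivial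
    exact IsSimpleGroup.isSimpleGroup_of_surjective e.toMonoidHom e.surjective
  obtain ⟨h1, h2, h3⟩ := h.2 hp
  have key : ∀ N : Subgroup Y', N.Normal → N ≠ ⊤ →
      (N.comap e.toMonoidHom).Normal ∧ N.comap e.toMonoidHom ≠ ⊤ ∧ (N.comap e.toMonoidHom).map e.toMonoidHom = N :=
    fun N hN hNt => ⟨hN.comap _, fun he => hNt (comap_injective e.surjective (he.trans (comap_top _).symm)),
      map_comap_eq_self_of_surjective e.surjective N⟩
  refine ⟨Nat.card_congr e.toEquiv ▸ h1, fun N hN hNt => ?_, ?_⟩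
  · obtain ⟨a, b, c⟩ := key N hN hNt
    rw [← c, card_map_of_injective e.injective]
    exact h2 _ a b
  rcases h3 with ⟨hperf, hc⟩ | ⟨hp3, h8⟩
  · refine Or.inl ⟨?_, fun N hN hNt => ?_⟩
    · rw [_root_.commutator_def, ← map_top_of_surjective e.toMonoidHom e.surjective, ← map_commutator,
        ← _root_.commutator_def, hperf]
    · obtain ⟨a, b, c⟩ := key N hN hNt
      rw [← c]
      rintro _ ⟨x, hx, rfl⟩
      refine mem_center_iff.mpr fun y => ?_
      obtain ⟨y, rfl⟩ := e.surjective y
      show e y * e x = e x * e y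
      rw [← map_mul, ← map_mul, mem_center_iff.mp (hc _ a b hx) y]
  · exact Or.inr ⟨hp3, Nat.card_congr e.toEquiv ▸ h8⟩

theorem isSimpleGroup_prime {Y : Type*} [Group Y] {q : ℕ} (hq : q.Prime) (h : Nat.card Y = q) :
    IsSimpleGroup Y := by
  haveI := Fact.mk hq
  exact isSimpleGroup_of_prime_card h

theorem small_alt {m : ℕ} (hm : 1 ≤ m) : Small 2 (alternatingGroup (Fin (2 * m + 1))) := by
  refine ⟨fun _ => ?_, fun h => absurd rfl h⟩
  rcases eq_or_lt_of_le hm with rfl | hm2
  · refine isSimpleGroup_prime Nat.prime_three ?_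
    rw [nat_card_alternatingGroup, Nat.card_fin]
    rfl
  · exact alternatingGroup.isSimpleGroup (by rw [Nat.card_fin]; omega)

/-- the special linear group of degree two over a field with at least four elements -/
theorem small_top {F : Type} [Field F] [Fintype F] {p n : ℕ} [hp : Fact p.Prime] (hF : Fintype.card F = p ^ n)
    (h4 : 4 ≤ Fintype.card F) : Small p SL(2, F) := by
  classical
  have hperf := Cfsg.Lib.Known.sl2_commutator_eq_top F h4
  have hcard : 8 ≤ Nat.card SL(2, F) := by
    rw [Cfsg.Lib.Classical.SLTwoTori.card_SL2]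
    have : 15 ≤ Fintype.card F ^ 2 - 1 := by
      have := Nat.pow_le_pow_left h4 2
      omega
    calc 8 ≤ 4 * 15 := by norm_num
      _ ≤ _ := Nat.mul_le_mul h4 this
  have hZ : Nat.card (center SL(2, F)) = Nat.gcd 2 (Fintype.card F - 1) := by
    rw [Cfsg.Lib.Classical.card_center_SL, Fintype.card_fin, Nat.card_eq_fintype_card]
  haveI hs : IsSimpleGroup (ProjectiveSpecialLinearGroup (Fin 2) F) :=
    ProjectiveSpecialLinearGroup.rank_two_simple (by rw [Nat.card_eq_fintype_card]; exact h4)
  have hN : ∀ N : Subgroup SL(2, F), N.Normal → N ≠ ⊤ → N ≤ center SL(2, F) := by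
    intro N hN hNt
    rcases hs.eq_bot_or_eq_top_of_normal _ (hN.map (QuotientGroup.mk' (center SL(2, F)))
      (QuotientGroup.mk'_surjective _)) with e | e
    · intro x hx
      exact (QuotientGroup.eq_one_iff x).mp ((eq_bot_iff_forall _).mp e _ (mem_map_of_mem _ hx))
    · exfalso
      apply hNt
      rw [eq_top_iff, ← hperf, _root_.commutator_def, commutator_le]
      have dec : ∀ a : SL(2, F), ∃ y ∈ N, y⁻¹ * a ∈ center SL(2, F) := by
        intro a
        obtain ⟨y, hy, e1⟩ : (QuotientGroup.mk' (center SL(2, F))) a ∈ N.map (QuotientGroup.mk' _) := e ▸ mem_top _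
        exact ⟨y, hy, QuotientGroup.eq.mp e1⟩
      intro a _ b _
      obtain ⟨x, hx, hxa⟩ := dec a
      obtain ⟨y, hy, hyb⟩ := dec b
      have ha : a = x * (x⁻¹ * a) := by group
      have hb : b = y * (y⁻¹ * b) := by group
      have : ⁅a, b⁆ = ⁅x, y⁆ := by
        set u := x⁻¹ * a
        set v := y⁻¹ * b
        have hu : ∀ g, Commute g u := fun g => mem_center_iff.mp hxa g
        have hv : ∀ g, Commute g v := fun g => mem_center_iff.mp hyb g
        rw [ha, hb, commutatorElement_def, commutatorElement_def]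
        simp only [_root_.mul_inv_rev]
        calc x * u * (y * v) * (u⁻¹ * x⁻¹) * (v⁻¹ * y⁻¹) = x * (u * y) * v * u⁻¹ * x⁻¹ * v⁻¹ * y⁻¹ := by group
          _ = x * (y * u) * v * u⁻¹ * x⁻¹ * v⁻¹ * y⁻¹ := by rw [(hu y).eq]
          _ = x * y * ((u * v) * u⁻¹) * (x⁻¹ * v⁻¹) * y⁻¹ := by group
          _ = x * y * ((v * u) * u⁻¹) * (v⁻¹ * x⁻¹) * y⁻¹ := by rw [(hv u).eq, (hv x⁻¹).inv_right.eq]
          _ = x * y * x⁻¹ * y⁻¹ := by group
      rw [this, commutatorElement_def]
      exact mul_mem (mul_mem (mul_mem hx hy) (inv_mem hx)) (inv_mem hy)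
  refine ⟨fun h2 => ?_, fun _ => ⟨hcard, fun N hNn hNt => ?_, Or.inl ⟨hperf, hN⟩⟩⟩
  · subst h2
    have hn : 0 < n := by
      by_contra h0
      rw [Nat.eq_zero_of_not_pos h0, pow_zero] at hF
      omega
    have hodd : Odd (Fintype.card F - 1) := by
      rw [hF]
      exact Nat.Even.sub_odd (Nat.one_le_two_pow) (Nat.even_pow.mpr ⟨even_two, hn.ne'⟩) odd_one
    have hc1 : center SL(2, F) = ⊥ := by
      rw [← Subgroup.card_eq_one, hZ]
      exact (Nat.coprime_two_left.mpr hodd).gcd_eq_one
    haveI : Nontrivial SL(2, F) := Finite.one_lt_card_iff_nontrivial.mp (by omega)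
    exact ⟨fun N hNn => (em (N = ⊤)).elim Or.inr fun h => Or.inl (le_bot_iff.mp ((hN N hNn h).trans hc1.le))⟩
  · calc Nat.card N ≤ Nat.card (center SL(2, F)) := Nat.le_of_dvd Nat.card_pos (card_dvd_of_le (hN N hNn hNt))
      _ ≤ 4 := by
        rw [hZ]
        exact le_trans (Nat.le_of_dvd two_pos (Nat.gcd_dvd_left _ _)) (by norm_num)

theorem small_sl2 {F : Type} [Field F] [Fintype F] {p n : ℕ} [hp : Fact p.Prime]
    (hF : Fintype.card F = p ^ n) : Small p (commutator SL(2, F)) := by
  classical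
  rcases le_or_gt 4 (Fintype.card F) with h4 | h4
  · exact small_of_equiv ((Subgroup.topEquiv).symm.trans
      (MulEquiv.subgroupCongr (Cfsg.Lib.Known.sl2_commutator_eq_top F h4).symm)) (small_top hF h4)
  have h1 := Fintype.one_lt_card (α := F)
  have hn1 : n = 1 := by
    rcases n with _ | _ | n
    · rw [pow_zero] at hF; omega
    · rfl
    · exfalso
      have := Nat.pow_le_pow_left hp.out.two_le (n + 1 + 1)
      have : 2 ^ 2 ≤ 2 ^ (n + 1 + 1) := Nat.pow_le_pow_right two_pos (by omega)
      omega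
  subst hn1
  rw [pow_one] at hF
  obtain hq | hq : Fintype.card F = 2 ∨ Fintype.card F = 3 := by omega
  · -- order two
    have hp2 : p = 2 := hF.symm.trans hq
    subst hp2
    have h6 : Nat.card SL(2, F) = 6 := by rw [Cfsg.Lib.Classical.SLTwoTori.card_SL2, hq]; norm_num
    haveI := Fact.mk Nat.prime_three
    obtain ⟨P⟩ : Nonempty (Sylow 3 SL(2, F)) := inferInstance
    have hP : Nat.card P = 3 := by
      rw [P.card_eq_multiplicity, h6]
      have : (6 : ℕ).factorization 3 = 1 := by
        rw [show (6 : ℕ) = 2 * 3 from rfl, Nat.factorization_mul two_ne_zero three_ne_zero]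
        simp [Nat.prime_two.factorization, Nat.prime_three.factorization]
      rw [this, pow_one]
    have hidx : (P : Subgroup SL(2, F)).index = 2 := by
      have := (P : Subgroup SL(2, F)).card_mul_index
      rw [hP, h6] at this
      omega
    haveI := Subgroup.normal_of_index_eq_two hidx
    have hle : commutator SL(2, F) ≤ (P : Subgroup SL(2, F)) := by
      rw [← QuotientGroup.ker_mk' (P : Subgroup SL(2, F)), _root_.commutator_def, commutator_le]
      intro a _ b _
      rw [MonoidHom.mem_ker, map_commutatorElement, commutatorElement_eq_one_iff_mul_comm]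
      haveI : IsCyclic (SL(2, F) ⧸ (P : Subgroup SL(2, F))) := by
        haveI := Fact.mk Nat.prime_two
        exact isCyclic_of_prime_card (p := 2) (by rw [← Subgroup.index_eq_card, hidx])
      exact (IsCyclic.commGroup (α := SL(2, F) ⧸ (P : Subgroup SL(2, F)))).mul_comm _ _
    have h3 : Nat.card (commutator SL(2, F)) = 3 := by
      refine ((Nat.dvd_prime Nat.prime_three).mp (hP ▸ card_dvd_of_le hle)).resolve_left fun e => ?_
      rw [Subgroup.card_eq_one] at e
      have hab : ∀ a b : SL(2, F), a * b = b * a := fun a b => commutatorElement_eq_one_iff_mul_comm.mp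
        ((eq_bot_iff_forall _).mp e _ (commutator_mem_commutator (mem_top a) (mem_top b)))
      let T1 : SL(2, F) := ⟨!![1, 1; 0, 1], by simp [Matrix.det_fin_two_of]⟩
      let T2 : SL(2, F) := ⟨!![1, 0; 1, 1], by simp [Matrix.det_fin_two_of]⟩
      have h00 := congrArg (fun M : SL(2, F) => (M : Matrix (Fin 2) (Fin 2) F) 0 0) (hab T1 T2)
      change (!![(1 : F), 1; 0, 1] * !![(1 : F), 0; 1, 1]) 0 0 = (!![(1 : F), 0; 1, 1] * !![(1 : F), 1; 0, 1]) 0 0 at h00
      simp at h00
    exact ⟨fun _ => isSimpleGroup_prime Nat.prime_three h3, fun h => absurd rfl h⟩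
  · have hp3 : p = 3 := hF.symm.trans hq
    subst hp3
    let e : F ≃+* ZMod 3 := FiniteField.ringEquivOfCardEq (by rw [hq, ZMod.card])
    let E : SL(2, ZMod 3) ≃* SL(2, F) :=
      MonoidHom.toMulEquiv (SpecialLinearGroup.map e.symm.toRingHom) (SpecialLinearGroup.map e.toRingHom)
        (by ext x i j; simp) (by ext x i j; simp)
    have h8 : Nat.card (commutator SL(2, F)) = 8 := by
      have he : (commutator SL(2, ZMod 3)).map E.toMonoidHom = commutator SL(2, F) := by
        rw [_root_.commutator_def, _root_.commutator_def, map_commutator, map_top_of_surjective E.toMonoidHom E.surjective]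
      rw [← he, Nat.card_congr ((commutator SL(2, ZMod 3)).equivMapOfInjective E.toMonoidHom E.injective).toEquiv.symm]
      exact Cfsg.Agent.S2427.result.2.2.1
    refine ⟨fun h => absurd h (by norm_num), fun _ => ⟨h8.ge, fun N _ hNt => ?_, Or.inr ⟨rfl, h8⟩⟩⟩
    have hd := card_subgroup_dvd_card N
    rw [h8] at hd
    have hne : Nat.card N ≠ 8 := fun e => hNt (eq_top_of_card_eq N (e.trans h8.symm))
    have h4' : Nat.card N ∣ 4 := by
      obtain ⟨i, hi, hi'⟩ := (Nat.dvd_prime_pow Nat.prime_two).mp (show Nat.card N ∣ 2 ^ 3 from hd)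
      rw [hi'] at hne ⊢
      interval_cases i <;> simp_all
    exact Nat.le_of_dvd (by norm_num) h4'

end Cfsg.Lib.BlockPair
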