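/-
Basic facts about blocks and subnormal blocks.
-/
import Cfsg.Agent.BlockPair.Small
import Cfsg.Agent.BlockPair.Conj
import Cfsg.Agent.Components.Misc.BaumannBlockBasic
import Cfsg.Agent.Components.Supplement

set_option autoImplicit false

namespace Cfsg.Lib.BlockPair

set_option linter.style.haveILetI false
set_option linter.unusedSectionVars false

open Subgroup
open scoped commutatorElement MatrixGroups

universe u

variable {G : Type u} [Group G] [Finite G] {p : ℕ} [hp : Fact p.Prime]

/-- a block for some Sylow subgroup -/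
def IsBlk (p : ℕ) (E : Subgroup G) : Prop :=
  ∃ T : Sylow p G, Cfsg.IsBaumannBlock p (T : Subgroup G) E

/-- `O_p(E)` -/
abbrev qOf (p : ℕ) (E : Subgroup G) : Subgroup G := Cfsg.pCoreOf p E

/-- the module of a block -/
abbrev wOf (p : ℕ) (E : Subgroup G) : Subgroup G := Cfsg.omegaOneCenter p (Cfsg.pCoreOf p E)

/-- the centre part of the module -/
abbrev zOf (p : ℕ) (E : Subgroup G) : Subgroup G := wOf p E ⊓ centralizer (E : Set G)

/-- `[W, E]` -/
abbrev w1Of (p : ℕ) (E : Subgroup G) : Subgroup G := ⁅wOf p E, E⁆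

theorem IsBlk.conj {E : Subgroup G} (hE : IsBlk p E) (g : G) :
    IsBlk p (E.map (MulAut.conj g).toMonoidHom) := by
  obtain ⟨T, hT⟩ := hE
  exact ⟨g • T, block_map (MulAut.conj g) hT⟩

theorem qOf_le (E : Subgroup G) : qOf p E ≤ E := map_subtype_le _

theorem isPGroup_qOf (E : Subgroup G) : IsPGroup p (qOf p E) :=
  (Cfsg.Lib.Components.isPGroup_pCore (G := ↥E) p).map _

theorem normal_qOf (E : Subgroup G) : E ≤ normalizer (qOf p E : Set G) :=
  le_normalizer.trans (Cfsg.Lib.Large.normalizer_pCoreOf_le E)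

theorem wOf_le (E : Subgroup G) : wOf p E ≤ qOf p E ⊓ centralizer (qOf p E : Set G) :=
  (closure_le _).2 fun _ hx => hx.1

theorem wOf_comm (E : Subgroup G) {a b : G} (ha : a ∈ wOf p E) (hb : b ∈ wOf p E) : Commute a b :=
  mem_centralizer_iff.1 (mem_inf.1 (wOf_le E hb)).2 a (mem_inf.1 (wOf_le E ha)).1

theorem wOf_pow (E : Subgroup G) {w : G} (hw : w ∈ wOf p E) : w ^ p = 1 := by
  change w ∈ Subgroup.closure _ at hw
  induction hw using closure_induction with
  | mem y hy => exact hy.2
  | one => exact one_pow p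
  | mul a b ha hb iha ihb => rw [(wOf_comm E ha hb).mul_pow, iha, ihb, one_mul]
  | inv a _ ih => rw [inv_pow, ih, inv_one]

theorem isPGroup_wOf (E : Subgroup G) : IsPGroup p (wOf p E) :=
  (isPGroup_qOf E).to_le ((wOf_le E).trans inf_le_left)

/-- a homomorphism with the same image order as `E / O_p(E)` and containing `O_p(E)` in its kernel -/
theorem ker_eq_pCore {E : Subgroup G} {Y : Type*} [Group Y] (f : ↥E →* Y)
    (hle : Cfsg.pCore p ↥E ≤ f.ker) (hcard : Nat.card f.range = Nat.card (↥E ⧸ Cfsg.pCore p ↥E)) :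
    f.ker = Cfsg.pCore p ↥E := by
  refine (eq_of_le_of_card_ge hle ?_).symm
  have h1 := f.ker.card_mul_index
  rw [Subgroup.index_ker, hcard, ← (Cfsg.pCore p ↥E).card_mul_index, ← Subgroup.index_eq_card] at h1
  exact (Nat.eq_of_mul_eq_mul_right (Nat.pos_of_ne_zero index_ne_zero_of_finite) h1).le

/-- the three kinds of blocks, as far as the mutual position of two of them is concerned -/
def Tag (p : ℕ) (E : Subgroup G) : Prop :=
  p ∣ Nat.card (↥E ⧸ Cfsg.pCore p ↥E) ∨
  (p = 2 ∧ Nat.card (↥E ⧸ Cfsg.pCore p ↥E) = 3 ∧ (zOf p E).relIndex (wOf p E) = 4) ∨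
  (p = 3 ∧ Nat.card (↥E ⧸ Cfsg.pCore p ↥E) = 8 ∧
    Cfsg.ActsAsSL2OnSection (ZMod 3) (commutator SL(2, ZMod 3)) E (wOf p E) (zOf p E) ∧
    (qOf p E = wOf p E ∨
      (Cfsg.ActsAsSL2OnSection (ZMod 3) (commutator SL(2, ZMod 3)) E (qOf p E) (wOf p E) ∧
        ⁅qOf p E, qOf p E⁆ = zOf p E ∧ (frattini ↥(qOf p E)).map (qOf p E).subtype = zOf p E ∧
        E ⊓ centralizer (E : Set G) = zOf p E ∧
        ∃ b, b ∈ normalizer (E : Set G) ∧ b ∉ centralizer (wOf p E : Set G) ∧ (∃ i, b ^ p ^ i = 1) ∧
          ¬ ⁅⁅qOf p E, zpowers b⁆, zpowers b⁆ ≤ zOf p E)))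

/-- change of the field of a module structure -/
theorem actsSL2_field {F K : Type} [Field F] [Field K] (e : F ≃+* K) {E U U₀ : Subgroup G}
    (h : Cfsg.ActsAsSL2OnSection F (commutator SL(2, F)) E U U₀) :
    Cfsg.ActsAsSL2OnSection K (commutator SL(2, K)) E U U₀ := by
  obtain ⟨h1, h2, ρ, ψ, hρ, hψs, hψ, hact⟩ := h
  let S : SL(2, F) →* SL(2, K) := Matrix.SpecialLinearGroup.map e.toRingHom
  let V : Multiplicative (Fin 2 → F) ≃* Multiplicative (Fin 2 → K) :=
    AddEquiv.toMultiplicative (AddEquiv.piCongrRight fun _ : Fin 2 => e.toAddEquiv)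
  have hS : Function.Surjective S := fun y =>
    ⟨Matrix.SpecialLinearGroup.map e.symm.toRingHom y, by ext i j; simp [S]⟩
  refine ⟨h1, h2, S.comp ρ, V.toMonoidHom.comp ψ, ?_, V.surjective.comp hψs, fun u => ?_, fun x u => ?_⟩
  · rw [MonoidHom.range_comp, hρ, _root_.commutator_def, _root_.commutator_def, map_commutator,
      map_top_of_surjective S hS]
  · rw [MonoidHom.comp_apply, MulEquiv.coe_toMonoidHom, map_eq_one_iff V V.injective, hψ]
  · obtain ⟨w, hw1, hw2⟩ := hact x u
    refine ⟨w, hw1, funext fun i => ?_⟩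
    show e (Multiplicative.toAdd (ψ w) i) = _
    rw [hw2]
    simp [S, V, Matrix.mulVec, dotProduct, Fin.sum_univ_two]

theorem relIndex_of_surjective {W Z : Subgroup G} {Y : Type*} [Group Y] (f : ↥W →* Y)
    (hs : Function.Surjective f) (hk : ∀ u : ↥W, f u = 1 ↔ (u : G) ∈ Z) : Z.relIndex W = Nat.card Y := by
  have h1 : f.ker = Z.subgroupOf W := by
    ext u; rw [MonoidHom.mem_ker, hk, mem_subgroupOf]
  rw [relIndex, ← h1, Subgroup.index_ker, MonoidHom.range_eq_top.mpr hs, card_top]

theorem card_even3 : (Finset.univ.filter fun v : Multiplicative (Fin (2 * 1 + 1) → ZMod 2) =>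
    ∑ i, Multiplicative.toAdd v i = 0).card = 4 := by decide

/-- structure of `E / O_p(E)`, faithfulness on `W / Z`, and the kind of `E` -/
theorem block_shape {E : Subgroup G} (hE : IsBlk p E) :
    Small p (↥E ⧸ Cfsg.pCore p ↥E) ∧
      (∀ x ∈ E, (∀ u ∈ wOf p E, x * u * x⁻¹ * u⁻¹ ∈ zOf p E) → x ∈ qOf p E) ∧ Tag p E := by
  classical
  obtain ⟨T, hT⟩ := hE
  obtain ⟨-, -, hWZ⟩ := Cfsg.Lib.BlockBasic.block_module hT (wOf p E) (zOf p E) rfl rfl
  obtain ⟨hres, hEB, -, hne, hcase⟩ := hT
  have hQtriv : ∀ x : ↥E, x ∈ Cfsg.pCore p ↥E → ∀ u ∈ wOf p E, (x : G) * u * (x : G)⁻¹ = u := by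
    intro x hx u hu
    rw [mem_centralizer_iff.1 (mem_inf.1 (wOf_le E hu)).2 x ⟨x, hx, rfl⟩, mul_inv_cancel_right]
  rcases hcase with ⟨F, iF, iFt, n, hF, ⟨hi⟩, ⟨hEW, hZW, ρ, ψ, hρ, hψs, hψ, hact⟩, hex⟩ |
    ⟨hp2, m, ⟨hi⟩, ⟨hEW, hZW, ρ, ψ, hρ, hev, hψs, hψ, hact⟩, hQW⟩
  · have hker : ρ.ker = Cfsg.pCore p ↥E := by
      refine ker_eq_pCore ρ (fun x hx => ?_) (by rw [hρ]; exact (Nat.card_congr hi.toEquiv).symm)
      rw [MonoidHom.mem_ker]
      refine Subtype.ext (Matrix.ext_iff_mulVec.mpr fun v => ?_)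
      obtain ⟨u, hu⟩ := hψs (Multiplicative.ofAdd v)
      obtain ⟨w, hw1, hw2⟩ := hact x u
      have hwu : w = u := Subtype.ext (hw1.trans (hQtriv x hx u u.2))
      rw [hwu, hu] at hw2
      simpa using hw2.symm
    refine ⟨small_of_equiv hi.symm (small_sl2 hF), fun x hx hxu => ?_, ?_⟩
    · refine ⟨⟨x, hx⟩, ?_, rfl⟩
      show (⟨x, hx⟩ : ↥E) ∈ Cfsg.pCore p ↥E
      rw [← hker, MonoidHom.mem_ker]
      refine Subtype.ext (Matrix.ext_iff_mulVec.mpr fun v => ?_)
      obtain ⟨u, hu⟩ := hψs (Multiplicative.ofAdd v)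
      obtain ⟨w, hw1, hw2⟩ := hact ⟨x, hx⟩ u
      have hwu : ψ w = ψ u := by
        rw [← mul_inv_eq_one, ← map_inv, ← map_mul, hψ, Subgroup.coe_mul, Subgroup.coe_inv, hw1]
        exact hxu u u.2
      rw [hwu, hu] at hw2
      simpa using hw2.symm
    · by_cases h4 : 4 ≤ Fintype.card F
      · refine Or.inl ?_
        rw [Nat.card_congr hi.toEquiv, Cfsg.Lib.Known.sl2_commutator_eq_top F h4, card_top,
          Cfsg.Lib.Classical.SLTwoTori.card_SL2, hF]
        refine dvd_mul_of_dvd_left (dvd_pow_self p ?_) _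
        rintro rfl
        rw [pow_zero] at hF
        omega
      have h1 := Fintype.one_lt_card (α := F)
      have hn1 : n = 1 := by
        rcases n with _ | _ | n
        · rw [pow_zero] at hF; omega
        · rfl
        · exfalso
          have := Nat.pow_le_pow_left hp.out.two_le (n + 1 + 1)
          have : 2 ^ 2 ≤ 2 ^ (n + 1 + 1) := Nat.pow_le_pow_right two_pos (by omega)
          omega
      subst hn1
      rw [pow_one] at hF
      obtain hq | hq : Fintype.card F = 2 ∨ Fintype.card F = 3 := by omega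
      · obtain rfl : p = 2 := hF.symm.trans hq
        refine Or.inr (Or.inl ⟨rfl, ?_, ?_⟩)
        · rw [Nat.card_congr hi.toEquiv]
          have h6 : Nat.card SL(2, F) = 6 := by rw [Cfsg.Lib.Classical.SLTwoTori.card_SL2, hq]; norm_num
          haveI := (small_sl2 (F := F) (p := 2) (n := 1) (by rw [pow_one]; exact hq)).1 rfl
          have h2 : (commutator SL(2, F)).index ≠ 1 := by
            intro e
            rw [index_eq_one] at e
            have hs := (small_sl2 (F := F) (p := 2) (n := 1) (by rw [pow_one]; exact hq)).1 rfl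
            rw [e] at hs
            haveI := hs
            haveI : IsSimpleGroup SL(2, F) := (Subgroup.topEquiv (G := SL(2, F))).symm.isSimpleGroup
            haveI := Fact.mk Nat.prime_three
            obtain ⟨x, hx⟩ := exists_prime_orderOf_dvd_card' (G := SL(2, F)) 3 (h6 ▸ by norm_num)
            have hi2 : (zpowers x).index = 2 := by
              have := (zpowers x).card_mul_index
              rw [Nat.card_zpowers, hx, h6] at this
              omega
            haveI := Subgroup.normal_of_index_eq_two hi2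
            rcases IsSimpleGroup.eq_bot_or_eq_top_of_normal (zpowers x) inferInstance with e' | e'
            · rw [e', index_bot, h6] at hi2; omega
            · rw [e', index_top] at hi2; omega
          have h := (commutator SL(2, F)).card_mul_index
          rw [h6] at h
          haveI : Nontrivial (commutator SL(2, F)) := (small_sl2 (F := F) (p := 2) (n := 1) (by rw [pow_one]; exact hq)).1 rfl |>.toNontrivial
          have hc1 : 1 < Nat.card (commutator SL(2, F)) := Finite.one_lt_card
          by_contra hne3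
          have hc : Nat.card (commutator SL(2, F)) = 2 := by
            have hd : Nat.card (commutator SL(2, F)) ∣ 6 := ⟨_, h.symm⟩
            have : Nat.card (commutator SL(2, F)) ≤ 6 := Nat.le_of_dvd (by norm_num) hd
            interval_cases hh : Nat.card (commutator SL(2, F)) <;> omega
          have hcen : commutator SL(2, F) ≤ center SL(2, F) := by
            intro x hx
            rw [mem_center_iff]
            intro g
            by_cases hx1 : x = 1
            · simp [hx1]
            have hm : g * x * g⁻¹ ∈ commutator SL(2, F) := Subgroup.Normal.conj_mem inferInstance x hx g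
            have hne1 : g * x * g⁻¹ ≠ 1 := fun e' => hx1 (conj_eq_one_iff.mp e')
            have key : ∀ y : commutator SL(2, F), y ≠ 1 → ∀ z : commutator SL(2, F), z ≠ 1 → y = z := by
              intro y hy z hz
              exact ((Nat.card_eq_two_iff' (1 : commutator SL(2, F))).mp hc).unique hy hz
            have := congrArg Subtype.val (key ⟨_, hm⟩ (fun e' => hne1 (congrArg Subtype.val e')) ⟨x, hx⟩
              (fun e' => hx1 (congrArg Subtype.val e')))
            exact mul_inv_eq_iff_eq_mul.mp this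
          have := card_dvd_of_le hcen
          rw [hc, Cfsg.Lib.Classical.card_center_SL, Fintype.card_fin, Nat.card_eq_fintype_card, hq] at this
          norm_num at this
        · rw [relIndex_of_surjective ψ hψs hψ, Nat.card_congr Multiplicative.toAdd, Nat.card_fun, Nat.card_fin,
            Nat.card_eq_fintype_card, hq]
          rfl
      · obtain rfl : p = 3 := hF.symm.trans hq
        let e : F ≃+* ZMod 3 := FiniteField.ringEquivOfCardEq (by rw [hq, ZMod.card])
        refine Or.inr (Or.inr ⟨rfl, ?_, actsSL2_field e ⟨hEW, hZW, ρ, ψ, hρ, hψs, hψ, hact⟩, ?_⟩)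
        · rw [Nat.card_congr hi.toEquiv]
          rcases ((small_sl2 (F := F) (p := 3) (n := 1) (by rw [pow_one]; exact hq)).2 (by norm_num)).2.2 with
            ⟨hperf, -⟩ | ⟨-, h8⟩
          · exfalso
            let E3 : SL(2, ZMod 3) ≃* SL(2, F) :=
              MonoidHom.toMulEquiv (Matrix.SpecialLinearGroup.map e.symm.toRingHom)
                (Matrix.SpecialLinearGroup.map e.toRingHom) (by ext x i j; simp) (by ext x i j; simp)
            have he : (commutator SL(2, ZMod 3)).map E3.toMonoidHom = commutator SL(2, F) := by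
              rw [_root_.commutator_def, _root_.commutator_def, map_commutator,
                map_top_of_surjective E3.toMonoidHom E3.surjective]
            have h8 : Nat.card (commutator SL(2, F)) = 2 ^ 3 := by
              rw [← he, Nat.card_congr ((commutator SL(2, ZMod 3)).equivMapOfInjective E3.toMonoidHom E3.injective).toEquiv.symm]
              exact Cfsg.Agent.S2427.result.2.2.1
            haveI := Fact.mk Nat.prime_two
            haveI := (IsPGroup.of_card h8).isNilpotent
            haveI : Nontrivial (commutator SL(2, F)) := Finite.one_lt_card_iff_nontrivial.mp (by rw [h8]; norm_num)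
            exact (Group.IsSolvable.commutator_lt_top_of_nontrivial _).ne hperf
          · exact h8
        · rcases hex with hex | ⟨-, hact2, h5, h6, h7, -, h9⟩
          · exact Or.inl hex
          · refine Or.inr ⟨actsSL2_field e hact2, h5, h6, h7, ?_⟩
            have hB : ∃ b ∈ Cfsg.baumannSubgroupOf 3 (T : Subgroup G), b ∉ centralizer (wOf 3 E : Set G) := by
              by_contra hno
              push Not at hno
              apply hWZ
              refine le_antisymm (fun u hu => mem_inf.2 ⟨hu, ?_⟩) inf_le_left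
              have hBC : ∀ c ∈ Cfsg.baumannSubgroupOf 3 (T : Subgroup G), c ∈ centralizer (wOf 3 E : Set G) :=
                fun c hc => hno c hc
              have : E ≤ centralizer (wOf 3 E : Set G) := by
                conv_lhs => rw [← hEB]
                rw [commutator_le]
                intro x hx c hc
                rw [commutatorElement_def]
                refine mul_mem ?_ (inv_mem (hBC c hc))
                rw [mem_centralizer_iff]
                intro w hw
                have hw' : x⁻¹ * w * x ∈ wOf 3 E := by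
                  have := (mem_normalizer_iff.mp (hEW (inv_mem hx)) w).mp hw
                  simpa using this
                have h1 := mem_centralizer_iff.mp (hBC c hc) _ hw'
                calc w * (x * c * x⁻¹) = x * ((x⁻¹ * w * x) * c) * x⁻¹ := by group
                  _ = x * (c * (x⁻¹ * w * x)) * x⁻¹ := by rw [h1]
                  _ = x * c * x⁻¹ * w := by group
              exact mem_centralizer_iff.mpr fun x hx => (mem_centralizer_iff.mp (this hx) u hu).symm
            obtain ⟨b, hb, hb'⟩ := hB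
            refine ⟨b, Cfsg.Lib.BlockBasic.baumann_le_normalizer hEB hb, hb', ?_, fun hle => ?_⟩
            · obtain ⟨i, hi'⟩ := T.2 ⟨b, (mem_inf.1 hb).1⟩
              exact ⟨i, congrArg Subtype.val hi'⟩
            · refine h9 b hb hb' (hle.trans ?_)
              rw [h7]
  · subst hp2
    rcases Nat.eq_zero_or_pos m with rfl | hm
    · exfalso
      apply hne
      have hbot : E = ⊥ := by
        haveI : Subsingleton (Fin (2 * 0 + 1)) := inferInstanceAs (Subsingleton (Fin 1))
        haveI : Subsingleton (Equiv.Perm (Fin (2 * 0 + 1))) := ⟨fun a b => Equiv.ext fun x => Subsingleton.elim _ _⟩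
        have htop : Cfsg.pCore 2 ↥E = ⊤ := by
          haveI : Subsingleton (↥E ⧸ Cfsg.pCore 2 ↥E) := hi.toEquiv.subsingleton
          exact QuotientGroup.subsingleton_iff.1 inferInstance
        rw [← Cfsg.Lib.BlockBasic.closure_coprime_elements hres, closure_eq_bot_iff]
        rintro g ⟨hg, hco⟩
        obtain ⟨k, hk⟩ := Cfsg.Lib.Components.isPGroup_pCore (G := ↥E) 2 ⟨⟨g, hg⟩, htop ▸ mem_top _⟩
        rw [Set.mem_singleton_iff, ← orderOf_eq_one_iff]
        exact Nat.eq_one_of_dvd_coprimes ((Nat.coprime_comm.1 hco).pow_left k)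
          (orderOf_dvd_of_pow_eq_one (congrArg (fun y : Cfsg.pCore 2 ↥E => ((y : ↥E) : G)) hk)) dvd_rfl
      rw [hbot, commutator_bot_left]
    have hker : ρ.ker = Cfsg.pCore 2 ↥E ∧ ∀ x : ↥E,
        (∀ u : ↥(wOf 2 E), (x : G) * u * (x : G)⁻¹ * (u : G)⁻¹ ∈ zOf 2 E) → ρ x = 1 := by
      have hfix : ∀ x : ↥E,
          (∀ u : ↥(wOf 2 E), (x : G) * u * (x : G)⁻¹ * (u : G)⁻¹ ∈ zOf 2 E) → ρ x = 1 := by
        intro x hx
        refine Equiv.ext fun i => ?_
        by_contra hne'
        set j := ρ x i with hj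
        obtain ⟨k, hk1, hk2⟩ : ∃ k : Fin (2 * m + 1), k ≠ i ∧ k ≠ j := by
          obtain ⟨k, -, hk⟩ := Finset.exists_mem_notMem_of_card_lt_card (s := ({i, j} : Finset (Fin (2 * m + 1))))
            (t := Finset.univ) (lt_of_le_of_lt Finset.card_le_two (by simp; omega))
          simp only [Finset.mem_insert, Finset.mem_singleton, not_or] at hk
          exact ⟨k, hk.1, hk.2⟩
        obtain ⟨u, hu⟩ := hψs (Pi.single i 1 + Pi.single k 1) (by
          simp [Finset.sum_add_distrib, CharTwo.add_self_eq_zero])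
        obtain ⟨w, hw1, hw2⟩ := hact x u
        have hwu : ψ w = ψ u := by
          rw [← mul_inv_eq_one, ← map_inv, ← map_mul, hψ, Subgroup.coe_mul, Subgroup.coe_inv, hw1]
          exact hx u
        have h1 := hw2 j
        rw [hwu, hu, hj] at h1
        simp only [Equiv.Perm.inv_def, Equiv.symm_apply_apply] at h1
        have hji : j ≠ i := fun e => hne' e
        simp [Pi.single_apply, hji, Ne.symm hk2, Ne.symm hk1, ← hj] at h1
      refine ⟨ker_eq_pCore ρ (fun x hx => hfix x fun u => ?_)
        (by rw [hρ]; exact (Nat.card_congr hi.toEquiv).symm), hfix⟩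
      rw [hQtriv x hx u u.2, mul_inv_cancel]
      exact one_mem _
    refine ⟨small_of_equiv hi.symm (small_alt hm), fun x hx hxu => ⟨⟨x, hx⟩, ?_, rfl⟩, ?_⟩
    · show (⟨x, hx⟩ : ↥E) ∈ Cfsg.pCore 2 ↥E
      rw [← hker.1, MonoidHom.mem_ker]
      exact hker.2 _ fun u => hxu u u.2
    · rcases eq_or_lt_of_le (show 1 ≤ m from hm) with rfl | hm2
      · refine Or.inr (Or.inl ⟨rfl, ?_, ?_⟩)
        · rw [Nat.card_congr hi.toEquiv, nat_card_alternatingGroup, Nat.card_fin]; rfl
        · let Ev : Subgroup (Multiplicative (Fin (2 * 1 + 1) → ZMod 2)) := ψ.range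
          rw [relIndex_of_surjective ψ.rangeRestrict ψ.rangeRestrict_surjective
            (fun u => by rw [← hψ u]; exact Subtype.ext_iff)]
          have : (ψ.range : Set (Multiplicative (Fin (2 * 1 + 1) → ZMod 2))) =
              ↑(Finset.univ.filter fun v : Multiplicative (Fin (2 * 1 + 1) → ZMod 2) =>
                ∑ i, Multiplicative.toAdd v i = 0) := by
            ext v
            simp only [SetLike.mem_coe, MonoidHom.mem_range, Finset.coe_filter, Finset.mem_univ, true_and,
              Set.mem_setOf_eq]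
            refine ⟨fun ⟨u, hu⟩ => hu ▸ hev u, fun hv => ?_⟩
            obtain ⟨u, hu⟩ := hψs (Multiplicative.toAdd v) hv
            exact ⟨u, Multiplicative.toAdd.injective hu⟩
          rw [← SetLike.coe_sort_coe, this, Nat.card_coe_set_eq, Set.ncard_coe_finset]
          convert card_even3
      · refine Or.inl ?_
        haveI : Nontrivial (Fin (2 * m + 1)) := Fin.nontrivial_iff_two_le.2 (by omega)
        rw [Nat.card_congr hi.toEquiv, nat_card_alternatingGroup, Nat.card_fin]
        refine Nat.dvd_div_of_mul_dvd ?_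
        exact (Nat.dvd_factorial (by norm_num) (show 4 ≤ 2 * m + 1 by omega))

/-! ### subnormal blocks -/

variable {E : Subgroup G}

theorem core_le_normalizer (hE : IsBlk p E) : Cfsg.pCore p G ≤ normalizer (E : Set G) := by
  obtain ⟨T, hT⟩ := hE
  haveI : (Cfsg.pCore p G).Normal := Cfsg.Lib.Components.pCore_normal' p
  exact Cfsg.Lib.BlockBasic.le_normalizer_block T hT.1 hT.2.1 (Cfsg.Lib.Components.isPGroup_pCore p)
    le_normalizer_of_normal le_normalizer_of_normal

theorem res (hE : IsBlk p E) : Cfsg.pResidualOf p E = E := hE.choose_spec.1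

theorem commutator_qOf (hE : IsBlk p E) : ⁅qOf p E, E⁆ = qOf p E := hE.choose_spec.2.2.1

theorem le_of_le_sup_core {F : Subgroup G} (hF : IsBlk p F) (hE : IsBlk p E)
    (h : F ≤ E ⊔ Cfsg.pCore p G) : F ≤ E := by
  rw [← Cfsg.Lib.BlockBasic.closure_coprime_elements (res hF), closure_le]
  exact fun g hg => Cfsg.Lib.PIrr.coprime_mem (Cfsg.Lib.Components.isPGroup_pCore p) (core_le_normalizer hE)
    (h hg.1) hg.2

theorem qOf_le_core (hEs : E.IsSubnormal) : qOf p E ≤ Cfsg.pCore p G := by
  refine Cfsg.Lib.Components.le_pCore_of_subnormal (Subgroup.IsSubnormal.trans (qOf_le E) ?_ hEs) (isPGroup_qOf E)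
  haveI : ((qOf p E).subgroupOf E).Normal := normal_subgroupOf_of_le_normalizer (normal_qOf E)
  exact Subgroup.Normal.isSubnormal inferInstance

theorem inf_core (hEs : E.IsSubnormal) : E ⊓ Cfsg.pCore p G = qOf p E := by
  refine le_antisymm (Cfsg.Lib.Large.le_pCoreOf inf_le_left
    ((Cfsg.Lib.Components.isPGroup_pCore p).to_le inf_le_right) fun x hx => ?_) (le_inf (qOf_le E) (qOf_le_core hEs))
  haveI : (Cfsg.pCore p G).Normal := Cfsg.Lib.Components.pCore_normal' p
  rw [mem_normalizer_iff]
  intro y
  rw [mem_inf, mem_inf]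
  exact and_congr (mem_normalizer_iff.1 (le_normalizer hx) y)
    (mem_normalizer_iff.1 (le_normalizer_of_normal (mem_top x)) y)

theorem commutator_core (hE : IsBlk p E) (hEs : E.IsSubnormal) : ⁅E, Cfsg.pCore p G⁆ = qOf p E := by
  haveI : (Cfsg.pCore p G).Normal := Cfsg.Lib.Components.pCore_normal' p
  refine le_antisymm ?_ ?_
  · rw [← inf_core hEs]
    refine le_inf (le_normalizer_iff_commutator_le_left.mp (core_le_normalizer hE)) ?_
    rw [commutator_comm]
    exact le_normalizer_iff_commutator_le_left.mp le_normalizer_of_normal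
  · conv_lhs => rw [← commutator_qOf hE, commutator_comm]
    exact commutator_mono le_rfl (qOf_le_core hEs)

/-- the image of a block modulo `O_p(G)` -/
abbrev bar (p : ℕ) (E : Subgroup G) [(Cfsg.pCore p G).Normal] : Subgroup (G ⧸ Cfsg.pCore p G) :=
  E.map (QuotientGroup.mk' (Cfsg.pCore p G))

noncomputable def barEquiv [(Cfsg.pCore p G).Normal] (hEs : E.IsSubnormal) :
    ↥E ⧸ Cfsg.pCore p ↥E ≃* ↥(bar p E) :=
  (QuotientGroup.quotientMulEquivOfEq (by
      rw [← MonoidHom.comap_ker, QuotientGroup.ker_mk']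
      ext x
      constructor
      · intro hx
        exact qOf_le_core hEs ⟨x, hx, rfl⟩
      · intro hx
        have : (x : G) ∈ qOf p E := inf_core (p := p) hEs ▸ mem_inf.2 ⟨x.2, hx⟩
        obtain ⟨y, hy, hyx⟩ := this
        exact Subtype.ext hyx ▸ hy)).trans
    ((QuotientGroup.quotientKerEquivRange ((QuotientGroup.mk' (Cfsg.pCore p G)).comp E.subtype)).trans
      (MulEquiv.subgroupCongr (by rw [MonoidHom.range_comp, range_subtype])))

theorem small_bar [(Cfsg.pCore p G).Normal] (hE : IsBlk p E) (hEs : E.IsSubnormal) :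
    Small p ↥(bar p E) :=
  small_of_equiv (barEquiv (p := p) hEs) (block_shape hE).1

/-! ### the module -/

theorem wOf_eq_sup (hE : IsBlk p E) : w1Of p E ⊔ zOf p E = wOf p E ∧ ⁅w1Of p E, E⁆ = w1Of p E := by
  obtain ⟨T, hT⟩ := hE
  have hE' : IsBlk p E := ⟨T, hT⟩
  obtain ⟨hEW, hirr, hWZ⟩ := Cfsg.Lib.BlockBasic.block_module hT (wOf p E) (zOf p E) rfl rfl
  have h1W : w1Of p E ≤ wOf p E := le_normalizer_iff_commutator_le_left.mp hEW
  have hinv : ∀ e ∈ E, ∀ u ∈ w1Of p E ⊔ zOf p E, e * u * e⁻¹ ∈ w1Of p E ⊔ zOf p E := by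
    intro e he
    have h : w1Of p E ⊔ zOf p E ≤ (w1Of p E ⊔ zOf p E).comap (MulAut.conj e).toMonoidHom := by
      refine sup_le (fun a ha => ?_) fun z hz => ?_
      · show e * a * e⁻¹ ∈ w1Of p E ⊔ zOf p E
        exact mem_sup_left ((mem_normalizer_iff.mp (normalizer_commutator_ge_right (wOf p E) E he) a).mp ha)
      · show e * z * e⁻¹ ∈ w1Of p E ⊔ zOf p E
        rw [mem_centralizer_iff.1 (mem_inf.1 hz).2 e he, mul_inv_cancel_right]
        exact mem_sup_right hz
    exact fun u hu => h hu
  rcases hirr _ le_sup_right (sup_le h1W inf_le_left) hinv with h | h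
  · exfalso
    apply hWZ
    refine le_antisymm (fun u hu => mem_inf.2 ⟨hu, mem_centralizer_iff.2 ?_⟩) inf_le_left
    intro x hx
    rw [← Cfsg.Lib.BlockBasic.closure_coprime_elements hT.1] at hx
    induction hx using closure_induction with
    | mem g hg =>
      set z := g * u * g⁻¹ * u⁻¹ with hz
      have hzZ : z ∈ zOf p E := by
        rw [← h]; refine mem_sup_left ?_
        show z ∈ ⁅wOf p E, E⁆
        rw [commutator_comm, hz, ← commutatorElement_def]
        exact commutator_mem_commutator hg.1 hu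
      have hgz : Commute g z := mem_centralizer_iff.1 (mem_inf.1 hzZ).2 g hg.1
      have hit : ∀ k : ℕ, g ^ k * u * (g ^ k)⁻¹ = z ^ k * u := by
        intro k
        induction k with
        | zero => simp
        | succ k ih =>
          calc g ^ (k + 1) * u * (g ^ (k + 1))⁻¹ = g * (g ^ k * u * (g ^ k)⁻¹) * g⁻¹ := by rw [pow_succ']; group
            _ = (g * z ^ k) * u * g⁻¹ := by rw [ih]; group
            _ = (z ^ k * g) * u * g⁻¹ := by rw [(hgz.pow_right k).eq]
            _ = z ^ (k + 1) * u := by rw [pow_succ, hz]; group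
      have h5 := hit (orderOf g)
      rw [pow_orderOf_eq_one, one_mul, inv_one, mul_one, eq_comm, mul_eq_right] at h5
      have hz1 : z = 1 := orderOf_eq_one_iff.mp (Nat.eq_one_of_dvd_coprimes hg.2
        (orderOf_dvd_of_pow_eq_one h5) (orderOf_dvd_of_pow_eq_one (wOf_pow E (mem_inf.1 hzZ).1)))
      exact mul_inv_eq_iff_eq_mul.mp (mul_inv_eq_one.mp hz1)
    | one => simp
    | mul a b _ _ ha hb => exact (Commute.mul_left ha hb).eq
    | inv a _ ha => exact (Commute.inv_left ha).eq
  · refine ⟨h, le_antisymm (le_normalizer_iff_commutator_le_left.mp (normalizer_commutator_ge_right _ _)) ?_⟩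
    conv_lhs => rw [w1Of]
    rw [commutator_le]
    intro a ha e he
    have hn : w1Of p E ≤ normalizer (zOf p E : Set G) := by
      intro w hw
      rw [mem_normalizer_iff]
      intro z
      constructor
      · intro hz
        rwa [(wOf_comm E (h1W hw) (mem_inf.1 hz).1).eq, mul_inv_cancel_right]
      · intro hz
        have h2 : w⁻¹ * (w * z * w⁻¹) * (w⁻¹)⁻¹ = w * z * w⁻¹ := by
          rw [(wOf_comm E (inv_mem (h1W hw)) (mem_inf.1 hz).1).eq, mul_inv_cancel_right]
        have h3 : z = w * z * w⁻¹ := Eq.trans (by group) h2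
        rwa [h3]
    rw [← h, ← SetLike.mem_coe, coe_mul_of_left_le_normalizer_right _ _ hn] at ha
    obtain ⟨w, hw, z, hz, rfl⟩ := Set.mem_mul.1 ha
    have hc : Commute z e := (mem_centralizer_iff.1 (mem_inf.1 hz).2 e he).symm
    have h4 : ⁅w * z, e⁆ = ⁅w, e⁆ := by
      rw [commutatorElement_def, commutatorElement_def, mul_assoc w z e, hc.eq]
      group
    rw [h4]
    exact commutator_mem_commutator hw he

end Cfsg.Lib.BlockPair
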