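/-
Blocks in a group of characteristic p: the module inside `Ω₁Z(O_p(G))`.
-/
import Cfsg.Agent.BlockPair.Facts
import Cfsg.Agent.Components.PxQ

set_option autoImplicit false

namespace Cfsg.Lib.BlockPair

set_option linter.style.haveILetI false
set_option linter.unusedSectionVars false

open Subgroup
open scoped commutatorElement

universe u

variable {G : Type u} [Group G] [Finite G] {p : ℕ} [hp : Fact p.Prime]

/-- `Ω₁Z(O_p(G))` -/
abbrev vOf (p : ℕ) (G : Type u) [Group G] : Subgroup G := Cfsg.omegaOneCenter p (Cfsg.pCore p G)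

theorem vOf_le : vOf p G ≤ Cfsg.pCore p G ⊓ centralizer (Cfsg.pCore p G : Set G) :=
  (closure_le _).2 fun _ hx => hx.1

theorem vOf_pow {v : G} (hv : v ∈ vOf p G) : v ^ p = 1 := by
  change v ∈ Subgroup.closure _ at hv
  induction hv using closure_induction with
  | mem y hy => exact hy.2
  | one => exact one_pow p
  | mul a b ha hb iha ihb =>
    have h : Commute a b := mem_centralizer_iff.1 (mem_inf.1 (vOf_le hb)).2 a (mem_inf.1 (vOf_le ha)).1
    rw [h.mul_pow, iha, ihb, one_mul]
  | inv a _ ih => rw [inv_pow, ih, inv_one]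

theorem vOf_normal : (vOf p G).Normal := by
  refine ⟨fun v hv g => ?_⟩
  have h : (vOf p G).map (MulAut.conj g).toMonoidHom = vOf p G := by
    rw [map_omegaOneCenter]
    congr 1
    haveI : (Cfsg.pCore p G).Normal := Cfsg.Lib.Components.pCore_normal' p
    exact mem_normalizer_iff_map_conj_eq.1 (le_normalizer_of_normal (mem_top g))
  rw [← h]
  exact ⟨v, hv, rfl⟩

theorem core_commute {v r : G} (hv : v ∈ vOf p G) (hr : r ∈ Cfsg.pCore p G) : Commute r v :=
  mem_centralizer_iff.1 (mem_inf.1 (vOf_le hv)).2 r hr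

/-- an element stabilising a chain `O_p(G) ≥ A ≥ B ≥ 1` is a `p`-element -/
theorem pow_eq_one_of_stab (hG : centralizer (Cfsg.pCore p G : Set G) ≤ Cfsg.pCore p G) {A B : Subgroup G}
    (hA : A ≤ Cfsg.pCore p G) (hBA : B ≤ A) {x : G} (h1 : ∀ w ∈ Cfsg.pCore p G, ⁅x, w⁆ ∈ A)
    (h2 : ∀ w ∈ A, ⁅x, w⁆ ∈ B) (h3 : ∀ w ∈ B, Commute x w) : ∃ i, x ^ p ^ i = 1 := by
  haveI : (Cfsg.pCore p G).Normal := Cfsg.Lib.Components.pCore_normal' p
  -- the conditions are kept by powers
  have key : ∀ n : ℕ, (∀ w ∈ Cfsg.pCore p G, ⁅x ^ n, w⁆ ∈ A) ∧ (∀ w ∈ A, ⁅x ^ n, w⁆ ∈ B) ∧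
      ∀ w ∈ B, Commute (x ^ n) w := by
    intro n
    induction n with
    | zero => exact ⟨fun w _ => by simp [one_mem], fun w _ => by simp [one_mem], fun w _ => by simp⟩
    | succ n ih =>
      obtain ⟨i1, i2, i3⟩ := ih
      have e : ∀ w : G, ⁅x ^ (n + 1), w⁆ = x * ⁅x ^ n, w⁆ * x⁻¹ * ⁅x, w⁆ := by
        intro w
        rw [pow_succ', commutatorElement_def, commutatorElement_def, commutatorElement_def]
        group
      have cA : ∀ a ∈ A, x * a * x⁻¹ ∈ A := by
        intro a ha
        have := mul_mem (hBA (h2 a ha)) ha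
        rwa [commutatorElement_def, inv_mul_cancel_right] at this
      have cB : ∀ a ∈ B, x * a * x⁻¹ ∈ B := by
        intro a ha
        rwa [(h3 a ha).eq, mul_inv_cancel_right]
      refine ⟨fun w hw => ?_, fun w hw => ?_, fun w hw => ?_⟩
      · rw [e]; exact mul_mem (cA _ (i1 w hw)) (h1 w hw)
      · rw [e]; exact mul_mem (cB _ (i2 w hw)) (h2 w hw)
      · rw [pow_succ']; exact (h3 w hw).mul_left (i3 w hw)
  refine ⟨(orderOf x).factorization p, ?_⟩
  set k := p ^ (orderOf x).factorization p with hk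
  have hco : (orderOf (x ^ k)).Coprime p := by
    have hdvd : k ∣ orderOf x := Nat.ordProj_dvd _ _
    rw [orderOf_pow, Nat.gcd_eq_right hdvd]
    exact (Nat.coprime_comm.1 (Nat.coprime_ordCompl hp.out (orderOf_pos x).ne'))
  obtain ⟨k1, k2, k3⟩ := key k
  have hn : x ^ k ∈ normalizer (Cfsg.pCore p G : Set G) := le_normalizer_of_normal (mem_top _)
  have hR : IsPGroup p (Cfsg.pCore p G) := Cfsg.Lib.Components.isPGroup_pCore p
  have cfix : ∀ (y : G) (w : G), Commute y w → y * w * y⁻¹ = w := fun y w h => by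
    rw [h.eq, mul_inv_cancel_right]
  have s2 : ∀ w ∈ A, Commute (x ^ k) w := fun w hw =>
    Cfsg.Lib.Components.centralize_of_commutator_fixed hR hco hn (hA hw) (cfix _ _ (k3 _ (k2 w hw)))
  have s1 : ∀ w ∈ Cfsg.pCore p G, Commute (x ^ k) w := fun w hw =>
    Cfsg.Lib.Components.centralize_of_commutator_fixed hR hco hn hw (cfix _ _ (s2 _ (k1 w hw)))
  have hmem : x ^ k ∈ Cfsg.pCore p G := hG (mem_centralizer_iff.2 fun w hw => (s1 w hw).symm.eq)
  obtain ⟨i, hi⟩ := hR ⟨_, hmem⟩
  rw [← orderOf_eq_one_iff]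
  exact Nat.eq_one_of_dvd_coprimes (Nat.Coprime.pow_right i hco) dvd_rfl
    (orderOf_dvd_of_pow_eq_one (congrArg Subtype.val hi))

variable {E F : Subgroup G}

theorem w1_le_vOf (hG : centralizer (Cfsg.pCore p G : Set G) ≤ Cfsg.pCore p G) (hE : IsBlk p E) :
    w1Of p E ≤ vOf p G := (Cfsg.Lib.BlockBasic.block_props hG hE.choose hE.choose_spec).2.1

/-- `[V, E] = [W, E]` -/
theorem commutator_vOf (hG : centralizer (Cfsg.pCore p G : Set G) ≤ Cfsg.pCore p G) (hE : IsBlk p E)
    (hEs : E.IsSubnormal) : ⁅vOf p G, E⁆ = w1Of p E := by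
  haveI := vOf_normal (p := p) (G := G)
  refine le_antisymm ?_ ?_
  · have hVW : ⁅vOf p G, E⁆ ≤ wOf p E := by
      intro d hd
      have hdQ : d ∈ qOf p E := by
        rw [← commutator_core hE hEs, commutator_comm]
        exact commutator_mono (vOf_le.trans inf_le_left) le_rfl hd
      have hdV : d ∈ vOf p G := commutator_le_left _ _ hd
      exact subset_closure ⟨mem_inf.2 ⟨hdQ, mem_centralizer_iff.2 fun q hq =>
        (core_commute hdV (qOf_le_core hEs hq)).eq⟩, vOf_pow hdV⟩
    -- the elements of `E` acting trivially modulo `[W, E]`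
    have hgood : ∀ e ∈ E, ∀ u ∈ vOf p G, ⁅u, e⁆ ∈ w1Of p E := by
      intro e he
      rw [← Cfsg.Lib.BlockBasic.closure_coprime_elements (res hE)] at he
      induction he using closure_induction with
      | mem g hg =>
        intro u hu
        set d := ⁅u, g⁆ with hd
        have hdW : d ∈ wOf p E := hVW (commutator_mem_commutator hu hg.1)
        have hW1W : w1Of p E ≤ wOf p E := le_normalizer_iff_commutator_le_left.mp
          (Cfsg.Lib.BlockBasic.block_module hE.choose_spec (wOf p E) (zOf p E) rfl rfl).1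
        have hn : g ∈ normalizer (w1Of p E : Set G) := normalizer_commutator_ge_right _ _ hg.1
        have hit : ∀ n : ℕ, u * g ^ n * u⁻¹ * (g ^ n)⁻¹ * (d ^ n)⁻¹ ∈ w1Of p E := by
          intro n
          induction n with
          | zero => simp [one_mem]
          | succ n ih =>
            set c := u * g ^ n * u⁻¹ * (g ^ n)⁻¹ * (d ^ n)⁻¹ with hc
            have h1 : u * g ^ (n + 1) * u⁻¹ * (g ^ (n + 1))⁻¹ = d * (g * (c * d ^ n) * g⁻¹) := by
              rw [hc, hd, commutatorElement_def, pow_succ']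
              group
            have h2 : ⁅g, d ^ n⁆ ∈ w1Of p E := by
              have : ⁅d ^ n, g⁆ ∈ w1Of p E := commutator_mem_commutator (pow_mem hdW n) hg.1
              simpa [commutatorElement_inv] using inv_mem this
            have h3 : g * c * g⁻¹ ∈ w1Of p E := (mem_normalizer_iff.1 hn c).1 ih
            have hcm : ∀ a ∈ w1Of p E, d * a * d⁻¹ ∈ w1Of p E := fun a ha => by
              rwa [(wOf_comm E hdW (hW1W ha)).eq, mul_inv_cancel_right]
            have h4 : u * g ^ (n + 1) * u⁻¹ * (g ^ (n + 1))⁻¹ * (d ^ (n + 1))⁻¹ =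
                d * ((g * c * g⁻¹) * ⁅g, d ^ n⁆) * d⁻¹ := by
              rw [h1, pow_succ' d n, commutatorElement_def]
              group
            rw [h4]
            exact hcm _ (mul_mem h3 h2)
        have h5 := hit (orderOf g)
        rw [pow_orderOf_eq_one, mul_one, mul_inv_cancel, inv_one, one_mul, one_mul, inv_mem_iff] at h5
        -- `d ^ n` and `d ^ p = 1`
        obtain ⟨a, ha⟩ := Nat.exists_mul_mod_eq_one_of_coprime hg.2 hp.out.one_lt
        have hdp : d ^ p = 1 := vOf_pow (commutator_le_left _ _ (commutator_mem_commutator hu hg.1))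
        have : d = (d ^ orderOf g) ^ a := by
          rw [← pow_mul, pow_eq_pow_mod _ hdp, ha.2, pow_one]
        rw [this]
        exact pow_mem h5 a
      | one => intro u _; simp [one_mem]
      | mul a b ha hb iha ihb =>
        intro u hu
        have e : ⁅u, a * b⁆ = ⁅u, a⁆ * (a * ⁅u, b⁆ * a⁻¹) := by
          simp only [commutatorElement_def]; group
        rw [e]
        refine mul_mem (iha u hu) ((mem_normalizer_iff.1 (normalizer_commutator_ge_right _ _ ?_) _).1 (ihb u hu))
        rwa [← Cfsg.Lib.BlockBasic.closure_coprime_elements (res hE)]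
      | inv a ha iha =>
        intro u hu
        have e : ⁅u, a⁻¹⁆ = a⁻¹ * ⁅u, a⁆⁻¹ * a⁻¹⁻¹ := by
          simp only [commutatorElement_def]; group
        rw [e]
        refine (mem_normalizer_iff.1 (normalizer_commutator_ge_right _ _ (inv_mem ?_)) _).1 (inv_mem (iha u hu))
        rwa [← Cfsg.Lib.BlockBasic.closure_coprime_elements (res hE)]
    rw [commutator_le]
    exact fun u hu e he => hgood e he u hu
  · conv_lhs => rw [← (wOf_eq_sup hE).2]
    exact commutator_mono (w1_le_vOf hG hE) le_rfl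

/-- an element centralising `[W, E]` acts trivially on `W / Z` -/
theorem mem_qOf_of_commute (hE : IsBlk p E) {x : G} (hx : x ∈ E) (hc : ∀ u ∈ w1Of p E, Commute x u) :
    x ∈ qOf p E := by
  refine (block_shape hE).2.1 x hx fun u hu => ?_
  have h : wOf p E ≤ centralizer ({x} : Set G) := by
    rw [← (wOf_eq_sup hE).1]
    refine sup_le (fun w hw => ?_) fun w hw => ?_
    · exact mem_centralizer_iff.2 fun y hy => by rw [Set.mem_singleton_iff.1 hy, (hc w hw).eq]
    · exact mem_centralizer_iff.2 fun y hy => by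
        rw [Set.mem_singleton_iff.1 hy]; exact mem_centralizer_iff.1 (mem_inf.1 hw).2 x hx
  rw [mem_centralizer_iff.1 (h hu) x rfl, mul_inv_cancel_right, mul_inv_cancel]
  exact one_mem _

theorem map_w1Of (e : G ≃* G) (E : Subgroup G) :
    (w1Of p E).map e.toMonoidHom = w1Of p (E.map e.toMonoidHom) := by
  rw [map_commutator, map_omegaOneCenter, map_pCoreOf]

theorem bar_le [(Cfsg.pCore p G).Normal] (hE : IsBlk p E) (hF : IsBlk p F) (h : bar p F ≤ bar p E) : F ≤ E := by
  refine le_of_le_sup_core hF hE ?_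
  rwa [Subgroup.map_le_map_iff, QuotientGroup.ker_mk'] at h

theorem bar_le_of_normalizer [(Cfsg.pCore p G).Normal] (hF : IsBlk p F) {M : Subgroup G}
    (hM : Cfsg.pCore p G ≤ normalizer (M : Set G))
    (h : bar p F ≤ M.map (QuotientGroup.mk' (Cfsg.pCore p G))) : F ≤ M := by
  rw [Subgroup.map_le_map_iff, QuotientGroup.ker_mk'] at h
  rw [← Cfsg.Lib.BlockBasic.closure_coprime_elements (res hF), closure_le]
  exact fun g hg => Cfsg.Lib.PIrr.coprime_mem (Cfsg.Lib.Components.isPGroup_pCore p) hM (h hg.1) hg.2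

theorem commutator_bar_eq_bot_iff [(Cfsg.pCore p G).Normal] :
    ⁅bar p E, bar p F⁆ = ⊥ ↔ ⁅E, F⁆ ≤ Cfsg.pCore p G := by
  rw [← map_commutator, Subgroup.map_eq_bot_iff, QuotientGroup.ker_mk']

end Cfsg.Lib.BlockPair
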