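/-
Kinds of subnormal blocks; facts about the quaternion group in `SL(2, 3)`.
-/
import Cfsg.Agent.BlockPair.Module

set_option autoImplicit false

namespace Cfsg.Lib.BlockPair

set_option linter.style.haveILetI false
set_option linter.unusedSectionVars false

open Subgroup Matrix
open scoped commutatorElement MatrixGroups

universe u

theorem q8_cases : ∀ x : SL(2, ZMod 3), x ^ 8 = 1 → x = 1 ∨ x = -1 ∨ x * x = -1 := by decide

theorem q8_card : (Finset.univ.filter fun x : SL(2, ZMod 3) => x ^ 8 = 1).card = 8 := by decide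

theorem q8_scalar : ∀ A : Matrix (Fin 2) (Fin 2) (ZMod 3),
    (∀ x : SL(2, ZMod 3), x ^ 8 = 1 → A * (x : Matrix _ _ _) = (x : Matrix _ _ _) * A) →
    ∃ c : ZMod 3, A = c • (1 : Matrix (Fin 2) (Fin 2) (ZMod 3)) := by decide

theorem q8_of_sq : ∀ B : Matrix (Fin 2) (Fin 2) (ZMod 3), B * B = -1 → B.det = 1 ∧
    (B * B) * (B * B) * ((B * B) * (B * B)) = 1 := by decide

variable {G : Type u} [Group G] [Finite G] {p : ℕ} [hp : Fact p.Prime] {E F : Subgroup G}

theorem bar_ne_bot [(Cfsg.pCore p G).Normal] (hE : IsBlk p E) (hEs : E.IsSubnormal) :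
    1 < Nat.card ↥(bar p E) := by
  obtain h := small_bar hE hEs
  by_cases h2 : p = 2
  · haveI := (h.1 h2).toNontrivial
    exact Finite.one_lt_card
  · exact lt_of_lt_of_le (by norm_num) (h.2 h2).1

/-- the three kinds -/
theorem kind [(Cfsg.pCore p G).Normal] (hE : IsBlk p E) (hEs : E.IsSubnormal) :
    (commutator ↥(bar p E) = ⊤ ∧ ∀ N : Subgroup ↥(bar p E), N.Normal → N ≠ ⊤ → N ≤ center _) ∨
      (p = 2 ∧ Nat.card ↥(bar p E) = 3) ∨ (p = 3 ∧ Nat.card ↥(bar p E) = 8) := by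
  have h := small_bar hE hEs
  by_cases h2 : p = 2
  · haveI := h.1 h2
    by_cases hperf : commutator ↥(bar p E) = ⊤
    · refine Or.inl ⟨hperf, fun N hN hNt => ?_⟩
      rw [(IsSimpleGroup.eq_bot_or_eq_top_of_normal N hN).resolve_right hNt]
      exact bot_le
    have hbot := (IsSimpleGroup.eq_bot_or_eq_top_of_normal (commutator ↥(bar p E)) inferInstance).resolve_right hperf
    have hcm : ∀ a b : ↥(bar p E), a * b = b * a := fun a b =>
      commutatorElement_eq_one_iff_mul_comm.mp (Subgroup.mem_bot.mp (hbot ▸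
        commutator_mem_commutator (mem_top a) (mem_top b)))
    haveI : Std.Commutative (α := ↥(bar p E)) (· * ·) := ⟨hcm⟩
    letI : CommGroup ↥(bar p E) := { (inferInstance : Group ↥(bar p E)) with mul_comm := hcm }
    have hpr : (Nat.card ↥(bar p E)).Prime := IsSimpleGroup.prime_card
    refine Or.inr (Or.inl ⟨h2, ?_⟩)
    rcases (block_shape hE).2.2 with hd | ⟨-, h3, -⟩ | ⟨h3, -⟩
    · exfalso
      rw [Nat.card_congr (barEquiv (p := p) hEs).toEquiv] at hd
      have hq : p = Nat.card ↥(bar p E) := (Nat.prime_dvd_prime_iff_eq hp.out hpr).mp hd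
      have hle : E ≤ Cfsg.pCore p G := by
        conv_lhs => rw [← Cfsg.Lib.BlockBasic.closure_coprime_elements (res hE)]
        rw [closure_le]
        rintro g ⟨hg, hco⟩
        let gb : ↥(bar p E) := ⟨QuotientGroup.mk' (Cfsg.pCore p G) g, ⟨g, hg, rfl⟩⟩
        have h1 : orderOf gb ∣ orderOf g := by
          rw [← Subgroup.orderOf_coe gb]
          exact orderOf_map_dvd (QuotientGroup.mk' (Cfsg.pCore p G)) g
        have h3 : orderOf gb ∣ p := (_root_.orderOf_dvd_natCard gb).trans (dvd_of_eq hq.symm)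
        have h4 : gb = 1 := orderOf_eq_one_iff.mp (Nat.eq_one_of_dvd_coprimes hco h1 h3)
        exact (QuotientGroup.eq_one_iff g).mp (congrArg Subtype.val h4)
      have h1 : Nat.card ↥(bar p E) = 1 := by
        rw [Subgroup.card_eq_one, Subgroup.map_eq_bot_iff, QuotientGroup.ker_mk']
        exact hle
      exact absurd h1 (bar_ne_bot hE hEs).ne'
    · rw [← Nat.card_congr (barEquiv (p := p) hEs).toEquiv, h3]
    · omega
  · obtain ⟨-, -, h3⟩ := h.2 h2
    rcases h3 with h3 | h3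
    · exact Or.inl h3
    · exact Or.inr (Or.inr h3)

theorem tiny2 [(Cfsg.pCore p G).Normal] (hE : IsBlk p E) (hEs : E.IsSubnormal)
    (hc : p = 2 ∧ Nat.card ↥(bar p E) = 3) : (zOf p E).relIndex (wOf p E) = 4 := by
  obtain ⟨h2, h3⟩ := hc
  rw [← Nat.card_congr (barEquiv (p := p) hEs).toEquiv] at h3
  rcases (block_shape hE).2.2 with hd | ⟨-, -, h4⟩ | ⟨h, -⟩
  · exfalso
    rw [h3, h2] at hd
    norm_num at hd
  · exact h4
  · omega

/-- the module of a quaternion block -/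
theorem tiny3 [(Cfsg.pCore 3 G).Normal] [Fact (Nat.Prime 3)] {E : Subgroup G} (hE : IsBlk 3 E) (hEs : E.IsSubnormal)
    (hc : Nat.card ↥(bar 3 E) = 8) :
    E ≤ normalizer (wOf 3 E : Set G) ∧ (zOf 3 E).relIndex (wOf 3 E) = 9 ∧
    ∃ (ρ : ↥E →* SL(2, ZMod 3)) (ψ : ↥(wOf 3 E) →* Multiplicative (Fin 2 → ZMod 3)),
      Function.Surjective ψ ∧ (∀ u : ↥(wOf 3 E), ψ u = 1 ↔ (u : G) ∈ zOf 3 E) ∧
      (∀ (e : ↥E) (u : ↥(wOf 3 E)), ∃ w : ↥(wOf 3 E), (w : G) = (e : G) * (u : G) * (e : G)⁻¹ ∧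
        Multiplicative.toAdd (ψ w) = ((ρ e : SL(2, ZMod 3)) : Matrix (Fin 2) (Fin 2) (ZMod 3)).mulVec
          (Multiplicative.toAdd (ψ u))) ∧
      (∀ x : ↥E, ρ x = 1 ↔ (x : G) ∈ qOf 3 E) ∧ (∀ x : ↥E, ρ x ^ 8 = 1) ∧
      (∀ y : SL(2, ZMod 3), y ^ 8 = 1 → ∃ x, ρ x = y) := by
  classical
  rw [← Nat.card_congr (barEquiv (p := 3) hEs).toEquiv] at hc
  rcases (block_shape hE).2.2 with hd | ⟨h, -⟩ | ⟨-, -, ⟨hEW, -, ρ, ψ, hρ, hψs, hψ, hact⟩, -⟩
  · exfalso; rw [hc] at hd; norm_num at hd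
  · omega
  refine ⟨hEW, ?_, ρ, ψ, hψs, hψ, hact, fun x => ⟨fun hx => ?_, fun hx => ?_⟩, fun x => ?_, fun y hy => ?_⟩
  · rw [relIndex_of_surjective ψ hψs hψ, Nat.card_congr Multiplicative.toAdd, Nat.card_fun, Nat.card_fin,
      Nat.card_zmod]
    rfl
  · refine (block_shape hE).2.1 x x.2 fun u hu => ?_
    obtain ⟨w, hw1, hw2⟩ := hact x ⟨u, hu⟩
    rw [hx] at hw2
    replace hw2 : Multiplicative.toAdd (ψ w) = Multiplicative.toAdd (ψ ⟨u, hu⟩) := hw2.trans (one_mulVec _)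
    have h1 := (hψ (w * ⟨u, hu⟩⁻¹)).1 (by
      rw [map_mul, map_inv, mul_inv_eq_one]; exact Multiplicative.toAdd.injective hw2)
    rw [Subgroup.coe_mul, Subgroup.coe_inv, hw1] at h1
    exact h1
  · refine Subtype.ext (Matrix.ext_iff_mulVec.mpr fun v => ?_)
    obtain ⟨u, hu⟩ := hψs (Multiplicative.ofAdd v)
    obtain ⟨w, hw1, hw2⟩ := hact x u
    have hwu : w = u := Subtype.ext (hw1.trans (by
      rw [mem_centralizer_iff.1 (mem_inf.1 (wOf_le E u.2)).2 x hx, mul_inv_cancel_right]))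
    rw [hwu, hu] at hw2
    simpa using hw2.symm
  · have h1 : ρ x ∈ commutator SL(2, ZMod 3) := hρ ▸ ⟨x, rfl⟩
    have h2 := Subgroup.pow_mem (commutator SL(2, ZMod 3)) h1 1
    have h8 : Nat.card (commutator SL(2, ZMod 3)) = 8 := Cfsg.Agent.S2427.result.2.2.1
    have := pow_card_eq_one' (G := ↥(commutator SL(2, ZMod 3))) (x := ⟨ρ x, h1⟩)
    rw [h8] at this
    exact congrArg Subtype.val this
  · have h8 : Nat.card (commutator SL(2, ZMod 3)) = 8 := Cfsg.Agent.S2427.result.2.2.1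
    have hset : (commutator SL(2, ZMod 3) : Set SL(2, ZMod 3)) =
        ↑(Finset.univ.filter fun x : SL(2, ZMod 3) => x ^ 8 = 1) := by
      refine Set.eq_of_subset_of_ncard_le (fun z hz => ?_) ?_ (Set.toFinite _)
      · have := pow_card_eq_one' (G := ↥(commutator SL(2, ZMod 3))) (x := ⟨z, hz⟩)
        rw [h8] at this
        simp only [Finset.coe_filter, Finset.mem_univ, true_and]
        exact congrArg Subtype.val this
      · rw [Set.ncard_coe_finset, q8_card, ← Nat.card_coe_set_eq]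
        exact h8.ge
    have h1 : y ∈ (commutator SL(2, ZMod 3) : Set SL(2, ZMod 3)) := by
      rw [hset]; simpa using hy
    rw [← hρ] at h1
    exact h1

/-- the matrix of an element normalizing an elementary section of rank two -/
theorem exists_matrix {U U₀ : Subgroup G} (ψ : ↥U →* Multiplicative (Fin 2 → ZMod 3))
    (hψs : Function.Surjective ψ) (hψ : ∀ u : ↥U, ψ u = 1 ↔ (u : G) ∈ U₀) {g : G}
    (hgU : ∀ u ∈ U, g * u * g⁻¹ ∈ U) (hg₀ : ∀ u ∈ U₀, g * u * g⁻¹ ∈ U₀) :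
    ∃ A : Matrix (Fin 2) (Fin 2) (ZMod 3), ∀ (u : G) (hu : u ∈ U),
      Multiplicative.toAdd (ψ ⟨g * u * g⁻¹, hgU u hu⟩) = A.mulVec (Multiplicative.toAdd (ψ ⟨u, hu⟩)) := by
  classical
  let c : ↥U →* ↥U :=
    { toFun := fun u => ⟨g * u * g⁻¹, hgU u u.2⟩
      map_one' := Subtype.ext (by simp)
      map_mul' := fun a b => Subtype.ext (by simp [mul_assoc]) }
  have hwd : ∀ a b : ↥U, ψ a = ψ b → ψ (c a) = ψ (c b) := by
    intro a b h
    rw [← div_eq_one, ← map_div, ← map_div, hψ]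
    apply hg₀
    rw [← hψ, map_div, h, div_self']
  choose s hs using hψs
  let f : (Fin 2 → ZMod 3) →+ (Fin 2 → ZMod 3) :=
    { toFun := fun v => Multiplicative.toAdd (ψ (c (s (Multiplicative.ofAdd v))))
      map_zero' := by
        have := hwd (s (Multiplicative.ofAdd 0)) 1 (by rw [hs, map_one]; rfl)
        rw [this, map_one, map_one]; rfl
      map_add' := fun a b => by
        have := hwd (s (Multiplicative.ofAdd (a + b))) (s (Multiplicative.ofAdd a) * s (Multiplicative.ofAdd b))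
          (by rw [hs, map_mul, hs, hs]; rfl)
        rw [this, map_mul, map_mul]; rfl }
  refine ⟨LinearMap.toMatrix' (f.toZModLinearMap 3), fun u hu => ?_⟩
  rw [LinearMap.toMatrix'_mulVec]
  show _ = Multiplicative.toAdd (ψ (c (s (Multiplicative.ofAdd (Multiplicative.toAdd (ψ ⟨u, hu⟩))))))
  rw [hwd _ ⟨u, hu⟩ (by rw [hs]; rfl)]
  rfl

end Cfsg.Lib.BlockPair
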