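/-
Subnormal blocks: equal, commuting, or normalizing each other.
-/
import Cfsg.Agent.BlockPair.Kinds

set_option autoImplicit false

namespace Cfsg.Lib.BlockPair

set_option linter.style.haveILetI false
set_option linter.unusedSectionVars false

open Subgroup
open scoped commutatorElement

universe u

variable {G : Type u} [Group G] [Finite G] {p : ℕ} [hp : Fact p.Prime]

/-- equal or commuting -/
def Pair (E F : Subgroup G) : Prop := E = F ∨ ⁅E, F⁆ = ⊥

theorem Pair.symm {E F : Subgroup G} (h : Pair E F) : Pair F E :=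
  h.imp Eq.symm fun h => by rw [commutator_comm]; exact h

/-- all pairs below proper smaller subnormal subgroups are equal or commuting -/
def Below (p : ℕ) (N : Subgroup G) : Prop :=
  ∀ M : Subgroup G, M.IsSubnormal → Nat.card M < Nat.card N → ∀ A B : Subgroup G, IsBlk p A → IsBlk p B →
    A.IsSubnormal → B.IsSubnormal → A ≤ M → B ≤ M → Pair A B

/-- the conjugate -/
abbrev cj (g : G) (E : Subgroup G) : Subgroup G := E.map (MulAut.conj g).toMonoidHom

theorem cj_mul (a b : G) (E : Subgroup G) : cj a (cj b E) = cj (a * b) E := by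
  rw [cj, cj, cj, Subgroup.map_map]
  congr 1
  ext x
  simp [mul_assoc]

theorem cj_eq_iff (g : G) (E : Subgroup G) : cj g E = E ↔ g ∈ normalizer (E : Set G) :=
  mem_normalizer_iff_map_conj_eq.symm

theorem cj_isSubnormal {E : Subgroup G} (hEs : E.IsSubnormal) (g : G) : (cj g E).IsSubnormal :=
  hEs.map (MulAut.conj g).surjective

/-- a proper subnormal container, invariant under `N`, of a block that is not normal in `N` -/
theorem container {N E : Subgroup G} (hE : IsBlk p E) (hNs : N.IsSubnormal) (hEs : E.IsSubnormal)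
    (hEN : E ≤ N) (hn : ¬ N ≤ normalizer (E : Set G)) :
    ∃ M : Subgroup G, E ≤ M ∧ M ≤ N ∧ M.IsSubnormal ∧ Nat.card M < Nat.card N ∧
      N ≤ normalizer (M : Set G) ∧ Cfsg.pCore p G ≤ normalizer (M : Set G) := by
  have hne : E.subgroupOf N ≠ ⊤ := by
    intro h
    rw [subgroupOf_eq_top] at h
    exact hn (le_antisymm hEN h ▸ le_normalizer)
  obtain ⟨K, hK, hEK, hKt⟩ := (hEs.subgroupOf (K := N)).exists_normal_and_le_and_lt_top_of_ne hne
  set M : Subgroup G := ⨆ n : N, cj (n : G) E with hM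
  have hEM : E ≤ M := le_trans (le_of_eq ((cj_eq_iff (((1 : N) : G)) E).2 (one_mem _)).symm)
    (le_iSup (fun n : N => cj (n : G) E) 1)
  have hMK : M ≤ K.map N.subtype := by
    refine iSup_le fun n => ?_
    rintro _ ⟨x, hx, rfl⟩
    exact ⟨n * ⟨x, hEN hx⟩ * n⁻¹, hK.conj_mem _ (hEK (x := ⟨x, hEN hx⟩) hx) n, rfl⟩
  have hMN : M ≤ N := hMK.trans (map_subtype_le _)
  have hlt : Nat.card M < Nat.card N := by
    refine lt_of_le_of_lt (Nat.le_of_dvd Nat.card_pos (card_dvd_of_le hMK)) ?_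
    rw [card_map_of_injective N.subtype_injective]
    exact lt_of_le_of_ne (card_le_card_group K) fun h => hKt.ne (Subgroup.eq_top_of_card_eq _ h)
  have hle : ∀ g ∈ N, ∀ x ∈ M, g * x * g⁻¹ ∈ M := by
    intro g hg x hx
    refine (iSup_le fun n => ?_ : M ≤ M.comap (MulAut.conj g).toMonoidHom) hx
    rintro _ ⟨y, hy, rfl⟩
    refine le_iSup (fun n : N => cj (n : G) E) (⟨g, hg⟩ * n) ⟨y, hy, ?_⟩
    simp [mul_assoc]
  have hnorm : N ≤ normalizer (M : Set G) := by
    intro g hg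
    rw [mem_normalizer_iff]
    intro x
    refine ⟨hle g hg x, fun h => ?_⟩
    have := hle g⁻¹ (inv_mem hg) _ h
    simpa [mul_assoc] using this
  refine ⟨M, hEM, hMN, ?_, hlt, hnorm, ?_⟩
  · haveI : (M.subgroupOf N).Normal := normal_subgroupOf_of_le_normalizer hnorm
    exact Subgroup.IsSubnormal.trans hMN (Subgroup.Normal.isSubnormal inferInstance) hNs
  · intro r hr
    rw [mem_normalizer_iff_map_conj_eq]
    rw [hM, Subgroup.map_iSup]
    exact iSup_congr fun n => (cj_eq_iff r _).2 (core_le_normalizer (hE.conj (n : G)) hr)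

variable {E F : Subgroup G}

/-- distinct conjugates under `f` inside a container commute -/
theorem moved {N M : Subgroup G} (hN : Below p N) (hM : M.IsSubnormal) (hlt : Nat.card M < Nat.card N)
    (hNM : N ≤ normalizer (M : Set G)) (hE : IsBlk p E) (hEs : E.IsSubnormal) (hEM : E ≤ M)
    {a b : G} (ha : a ∈ N) (hb : b ∈ N) (hne : cj a E ≠ cj b E) : ⁅cj a E, cj b E⁆ = ⊥ := by
  have h : ∀ g ∈ N, cj g E ≤ M := fun g hg => by
    rw [← mem_normalizer_iff_map_conj_eq.1 (hNM hg)]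
    exact map_mono hEM
  exact (hN M hM hlt _ _ (hE.conj a) (hE.conj b) (cj_isSubnormal hEs a) (cj_isSubnormal hEs b) (h a ha)
    (h b hb)).resolve_left hne

/-- commuting blocks meet trivially modulo `O_p(G)` -/
theorem inf_bar (hG : centralizer (Cfsg.pCore p G : Set G) ≤ Cfsg.pCore p G) [(Cfsg.pCore p G).Normal]
    (hE : IsBlk p E) (hEs : E.IsSubnormal) (h : ⁅E, F⁆ = ⊥) : bar p E ⊓ bar p F = ⊥ := by
  rw [Subgroup.eq_bot_iff_forall]
  rintro _ ⟨⟨x, hx, rfl⟩, y, hy, hxy⟩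
  have hr : y⁻¹ * x ∈ Cfsg.pCore p G := QuotientGroup.eq.mp hxy
  refine (QuotientGroup.eq_one_iff x).mpr (qOf_le_core hEs (mem_qOf_of_commute hE hx fun u hu => ?_))
  have huE : u ∈ E := by
    have h1 : w1Of p E ≤ wOf p E := le_normalizer_iff_commutator_le_left.mp
      (Cfsg.Lib.BlockBasic.block_module hE.choose_spec (wOf p E) (zOf p E) rfl rfl).1
    exact qOf_le E ((wOf_le E).trans inf_le_left (h1 hu))
  have hyu : Commute y u :=
    mem_centralizer_iff.1 (commutator_eq_bot_iff_le_centralizer.1 h huE) y hy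
  have hru : Commute (y⁻¹ * x) u := core_commute (w1_le_vOf hG hE hu) hr
  simpa using hyu.mul_left hru

/-- `F` normalized by `E` but moving it lies in the container -/
theorem le_container (hG : centralizer (Cfsg.pCore p G : Set G) ≤ Cfsg.pCore p G) [(Cfsg.pCore p G).Normal]
    {M : Subgroup G} (hE : IsBlk p E) (hEs : E.IsSubnormal) (hF : IsBlk p F) (hFs : F.IsSubnormal)
    (hEM : E ≤ M) (hFM : F ≤ normalizer (M : Set G)) (hRM : Cfsg.pCore p G ≤ normalizer (M : Set G))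
    (hEF : E ≤ normalizer (F : Set G)) {f : G} (hf : f ∈ F) (hcm : ⁅E, cj f E⁆ = ⊥) : F ≤ M := by
  classical
  set π := QuotientGroup.mk' (Cfsg.pCore p G) with hπ
  set K := (bar p F ⊓ M.map π).subgroupOf (bar p F) with hK
  have hFn : bar p F ≤ normalizer ((M.map π : Subgroup _) : Set _) := (map_mono hFM).trans (le_normalizer_map π)
  haveI hKn : K.Normal := by
    rw [hK, inf_subgroupOf_left]
    exact normal_subgroupOf_of_le_normalizer hFn
  by_cases hKt : K = ⊤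
  · refine bar_le_of_normalizer hF hRM ?_
    rw [hK, subgroupOf_eq_top] at hKt
    exact hKt.trans inf_le_right
  exfalso
  -- `x ↦ [x, f]` is injective on the image of `E`
  have hmem : ∀ x : ↥(bar p E), (x : G ⧸ Cfsg.pCore p G) * π f * (x : G ⧸ Cfsg.pCore p G)⁻¹ * (π f)⁻¹ ∈
      bar p F ⊓ M.map π := by
    rintro ⟨_, x, hx, rfl⟩
    rw [mem_inf]
    refine ⟨⟨x * f * x⁻¹ * f⁻¹, mul_mem ((mem_normalizer_iff.1 (hEF hx) f).1 hf) (inv_mem hf), by simp [hπ]⟩,
      ⟨x * f * x⁻¹ * f⁻¹, ?_, by simp [hπ]⟩⟩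
    have : x * (f * x⁻¹ * f⁻¹) ∈ M :=
      mul_mem (hEM hx) ((mem_normalizer_iff.1 (hFM hf) _).1 (inv_mem (hEM hx)))
    simpa [mul_assoc] using this
  let φ : ↥(bar p E) → ↥(bar p F ⊓ M.map π) := fun x => ⟨_, hmem x⟩
  have hinj : Function.Injective φ := by
    rintro ⟨a, ha⟩ ⟨b, hb⟩ hab
    have h1 : a * π f * a⁻¹ * (π f)⁻¹ = b * π f * b⁻¹ * (π f)⁻¹ := congrArg Subtype.val hab
    have h2 : b⁻¹ * a = π f * (b⁻¹ * a) * (π f)⁻¹ := by
      calc b⁻¹ * a = b⁻¹ * (a * π f * a⁻¹ * (π f)⁻¹) * (π f * a * (π f)⁻¹) := by group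
        _ = π f * (b⁻¹ * a) * (π f)⁻¹ := by rw [h1]; group
    have h3 : b⁻¹ * a ∈ bar p E ⊓ bar p (cj f E) := by
      refine mem_inf.2 ⟨mul_mem (inv_mem hb) ha, ?_⟩
      obtain ⟨x, hx, hxe⟩ := mul_mem (inv_mem hb) ha
      exact ⟨f * x * f⁻¹, ⟨x, hx, rfl⟩, by rw [h2, ← hxe]; simp [hπ]⟩
    rw [inf_bar hG hE hEs hcm, Subgroup.mem_bot, inv_mul_eq_one] at h3
    exact Subtype.ext h3.symm
  have h1 : Nat.card ↥(bar p E) ≤ Nat.card K := by
    rw [hK, Nat.card_congr (subgroupOfEquivOfLe inf_le_left).toEquiv]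
    exact Nat.card_le_card_of_injective φ hinj
  have h := small_bar hF hFs
  by_cases h2 : p = 2
  · haveI := h.1 h2
    rw [(IsSimpleGroup.eq_bot_or_eq_top_of_normal K hKn).resolve_right hKt, card_bot] at h1
    exact absurd h1 (not_le.2 (bar_ne_bot hE hEs))
  · have h4 := (h.2 h2).2.1 K hKn hKt
    have h8 := ((small_bar hE hEs).2 h2).1
    omega

/-- a perfect `E` moved by `F` lies in a container of `F` -/
theorem le_of_perfect (hG : centralizer (Cfsg.pCore p G : Set G) ≤ Cfsg.pCore p G) [(Cfsg.pCore p G).Normal]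
    {L : Subgroup G} (hE : IsBlk p E) (hperf : commutator ↥(bar p E) = ⊤) (hEL : E ≤ normalizer (L : Set G))
    (hRL : Cfsg.pCore p G ≤ normalizer (L : Set G)) {f : G} (hf : f ∈ L) (hcm : ⁅E, cj f E⁆ = ⊥) : E ≤ L := by
  set π := QuotientGroup.mk' (Cfsg.pCore p G) with hπ
  refine bar_le_of_normalizer hE hRL ?_
  have h : ⁅bar p E, bar p E⁆ = bar p E := by
    have := congrArg (fun S => S.map (bar p E).subtype) hperf
    simp only [_root_.commutator_def, map_commutator] at this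
    rwa [← MonoidHom.range_eq_map, range_subtype] at this
  conv_lhs => rw [← h]
  rw [← map_commutator]
  refine map_mono (commutator_le.2 fun a ha x hx => ?_)
  have hk : x * f * x⁻¹ * f⁻¹ ∈ L := mul_mem ((mem_normalizer_iff.1 (hEL hx) f).1 hf) (inv_mem hf)
  have hy : f * x⁻¹ * f⁻¹ ∈ cj f E := ⟨x⁻¹, inv_mem hx, rfl⟩
  have hay : Commute a (f * x⁻¹ * f⁻¹) :=
    (mem_centralizer_iff.1 (commutator_eq_bot_iff_le_centralizer.1 hcm ha) _ hy).symm
  have hxy : Commute x (f * x⁻¹ * f⁻¹) :=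
    (mem_centralizer_iff.1 (commutator_eq_bot_iff_le_centralizer.1 hcm hx) _ hy).symm
  have hk' := mul_mem ((mem_normalizer_iff.1 (hEL ha) _).1 hk) (inv_mem hk)
  have he : a * (x * f * x⁻¹ * f⁻¹) * a⁻¹ * (x * f * x⁻¹ * f⁻¹)⁻¹ = ⁅a, x⁆ := by
    set y := f * x⁻¹ * f⁻¹ with hy'
    rw [show x * f * x⁻¹ * f⁻¹ = x * y by rw [hy']; group, commutatorElement_def]
    calc a * (x * y) * a⁻¹ * (x * y)⁻¹ = a * x * (y * a⁻¹) * (y⁻¹ * x⁻¹) := by group
      _ = a * x * (a⁻¹ * y) * (y⁻¹ * x⁻¹) := by rw [hay.inv_left.eq]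
      _ = a * x * a⁻¹ * x⁻¹ := by group
  rwa [he] at hk'

/-- fixed commutators vanish -/
theorem comm_eq_one {f y : G} {n : ℕ} (hy : y ∈ vOf p G) (hn : n.Coprime p) (hfn : f ^ n ∈ Cfsg.pCore p G)
    (hc : Commute ⁅y, f⁆ f) : ⁅y, f⁆ = 1 := by
  haveI := vOf_normal (p := p) (G := G)
  set c := ⁅y, f⁆ with hcdef
  have hcV : c ∈ vOf p G := commutator_le_left (vOf p G) ⊤ (commutator_mem_commutator hy (mem_top f))
  have hit : ∀ k : ℕ, f ^ k * y * (f ^ k)⁻¹ = (c ^ k)⁻¹ * y := by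
    intro k
    induction k with
    | zero => simp
    | succ k ih =>
      have h1 : f * y * f⁻¹ = c⁻¹ * y := by rw [hcdef, commutatorElement_def]; group
      calc f ^ (k + 1) * y * (f ^ (k + 1))⁻¹ = f * (f ^ k * y * (f ^ k)⁻¹) * f⁻¹ := by rw [pow_succ']; group
        _ = (f * (c ^ k)⁻¹) * y * f⁻¹ := by rw [ih]; group
        _ = ((c ^ k)⁻¹ * f) * y * f⁻¹ := by rw [((hc.pow_left k).inv_left).eq]
        _ = (c ^ k)⁻¹ * (f * y * f⁻¹) := by group
        _ = (c ^ (k + 1))⁻¹ * y := by rw [h1, pow_succ']; group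
  have h2 := hit n
  rw [(core_commute hy hfn).eq, mul_inv_cancel_right, eq_comm, mul_eq_right, inv_eq_one] at h2
  exact orderOf_eq_one_iff.mp (Nat.eq_one_of_dvd_coprimes hn (orderOf_dvd_of_pow_eq_one h2)
    (orderOf_dvd_of_pow_eq_one (vOf_pow hcV)))

theorem vOf_comm {a b : G} (ha : a ∈ vOf p G) (hb : b ∈ vOf p G) : Commute a b :=
  core_commute hb (mem_inf.1 (vOf_le ha)).1

/-- two independent modules do not fit into that of `F` -/
theorem count (hG : centralizer (Cfsg.pCore p G : Set G) ≤ Cfsg.pCore p G) {E' : Subgroup G}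
    (hE : IsBlk p E) (hE' : IsBlk p E') (hF : IsBlk p F) (hFs : F.IsSubnormal) {f : G} (hf : f ∈ F) {n : ℕ}
    (hn : n.Coprime p) (hfn : f ^ n ∈ Cfsg.pCore p G)
    (key : ∀ u ∈ w1Of p E, ∀ v ∈ w1Of p E', Commute (u * v) f → u ∈ zOf p E ∧ v ∈ zOf p E') :
    (zOf p E).relIndex (wOf p E) * (zOf p E').relIndex (wOf p E') ≤ (zOf p F).relIndex (wOf p F) := by
  classical
  have rep : ∀ (A : Subgroup G), IsBlk p A → ∀ q : ↥(wOf p A) ⧸ (zOf p A).subgroupOf (wOf p A),
      ∃ w : ↥(wOf p A), (w : G) ∈ w1Of p A ∧ QuotientGroup.mk w = q := by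
    intro A hA q
    obtain ⟨⟨u, hu⟩, rfl⟩ := QuotientGroup.mk_surjective q
    have h1W : w1Of p A ≤ wOf p A := le_normalizer_iff_commutator_le_left.mp
      (Cfsg.Lib.BlockBasic.block_module hA.choose_spec (wOf p A) (zOf p A) rfl rfl).1
    have hn : w1Of p A ≤ normalizer (zOf p A : Set G) := by
      intro w hw
      rw [mem_normalizer_iff]
      intro z
      constructor
      · intro hz
        rwa [(wOf_comm A (h1W hw) (mem_inf.1 hz).1).eq, mul_inv_cancel_right]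
      · intro hz
        have hzW : z ∈ wOf p A := by
          have := mul_mem (mul_mem (inv_mem (h1W hw)) (mem_inf.1 hz).1) (h1W hw)
          simpa [mul_assoc] using this
        rwa [(wOf_comm A (h1W hw) hzW).eq, mul_inv_cancel_right] at hz
    have hu' := hu
    rw [← (wOf_eq_sup hA).1, ← SetLike.mem_coe, coe_mul_of_left_le_normalizer_right _ _ hn] at hu'
    obtain ⟨w, hw, z, hz, hwz⟩ := Set.mem_mul.1 hu'
    refine ⟨⟨w, h1W hw⟩, hw, QuotientGroup.eq.2 ?_⟩
    show w⁻¹ * u ∈ zOf p A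
    rwa [← hwz, inv_mul_cancel_left]
  choose r hr1 hr2 using rep
  have hV : ∀ (q : ↥(wOf p E) ⧸ (zOf p E).subgroupOf (wOf p E))
      (q' : ↥(wOf p E') ⧸ (zOf p E').subgroupOf (wOf p E')),
      ((r E hE q : G) * (r E' hE' q' : G)) ∈ vOf p G := fun q q' =>
    mul_mem (w1_le_vOf hG hE (hr1 E hE q)) (w1_le_vOf hG hE' (hr1 E' hE' q'))
  have hW : ∀ y ∈ vOf p G, ⁅y, f⁆ ∈ wOf p F := fun y hy => by
    have h1W : w1Of p F ≤ wOf p F := le_normalizer_iff_commutator_le_left.mp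
      (Cfsg.Lib.BlockBasic.block_module hF.choose_spec (wOf p F) (zOf p F) rfl rfl).1
    exact h1W (commutator_vOf hG hF hFs ▸ commutator_mem_commutator hy hf)
  let Φ : (↥(wOf p E) ⧸ (zOf p E).subgroupOf (wOf p E)) × (↥(wOf p E') ⧸ (zOf p E').subgroupOf (wOf p E')) →
      ↥(wOf p F) ⧸ (zOf p F).subgroupOf (wOf p F) :=
    fun q => QuotientGroup.mk ⟨_, hW _ (hV q.1 q.2)⟩
  have hinj : Function.Injective Φ := by
    rintro ⟨a, a'⟩ ⟨b, b'⟩ h
    have h1 := mem_subgroupOf.1 (QuotientGroup.eq.1 h)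
    simp only [Subgroup.coe_mul, Subgroup.coe_inv] at h1
    set x := (r E hE a : G) * (r E' hE' a' : G) with hx
    set y := (r E hE b : G) * (r E' hE' b' : G) with hy
    have hxV := hV a a'
    have hyV := hV b b'
    haveI := vOf_normal (p := p) (G := G)
    have hcV : ∀ z ∈ vOf p G, ⁅z, f⁆ ∈ vOf p G := fun z hz =>
      commutator_le_left (vOf p G) ⊤ (commutator_mem_commutator hz (mem_top f))
    have e : ⁅x⁻¹ * y, f⁆ = ⁅x, f⁆⁻¹ * ⁅y, f⁆ := by
      have e1 : ⁅y, f⁆ = x * ⁅x⁻¹ * y, f⁆ * x⁻¹ * ⁅x, f⁆ := by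
        simp only [commutatorElement_def]; group
      have hc := hcV _ (mul_mem (inv_mem hxV) hyV)
      rw [(vOf_comm hxV hc).eq, mul_inv_cancel_right] at e1
      exact eq_inv_mul_iff_mul_eq.2 ((vOf_comm (hcV x hxV) hc).eq.trans e1.symm)
    have hcomm : Commute (x⁻¹ * y) f := by
      have h2 := comm_eq_one (mul_mem (inv_mem hxV) hyV) hn hfn (e ▸
        (mem_centralizer_iff.1 (mem_inf.1 h1).2 f hf).symm)
      exact commutatorElement_eq_one_iff_mul_comm.1 h2
    have e2 : x⁻¹ * y = ((r E hE a : G)⁻¹ * (r E hE b : G)) * ((r E' hE' a' : G)⁻¹ * (r E' hE' b' : G)) := by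
      rw [hx, hy, mul_inv_rev]
      have h1 := (vOf_comm (w1_le_vOf hG hE (hr1 E hE a)) (w1_le_vOf hG hE' (hr1 E' hE' a'))).inv_inv
      have h2 := vOf_comm (inv_mem (w1_le_vOf hG hE' (hr1 E' hE' a'))) (w1_le_vOf hG hE (hr1 E hE b))
      rw [← h1.eq, mul_assoc, ← mul_assoc ((r E' hE' a' : G))⁻¹, h2.eq, mul_assoc, ← mul_assoc]
    rw [e2] at hcomm
    obtain ⟨k1, k2⟩ := key _ (mul_mem (inv_mem (hr1 E hE a)) (hr1 E hE b)) _
      (mul_mem (inv_mem (hr1 E' hE' a')) (hr1 E' hE' b')) hcomm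
    refine Prod.ext ?_ ?_
    · show a = b
      rw [← hr2 E hE a, ← hr2 E hE b]
      exact QuotientGroup.eq.2 k1
    · show a' = b'
      rw [← hr2 E' hE' a', ← hr2 E' hE' b']
      exact QuotientGroup.eq.2 k2
  have := Nat.card_le_card_of_injective Φ hinj
  rwa [Nat.card_prod] at this

/-- conjugation of an element of the module by elements of blocks -/
theorem mem_zOf_of_fixed (hE : IsBlk p E) {u : G} (hu : u ∈ w1Of p E) (h : ∀ e ∈ E, Commute e u) :
    u ∈ zOf p E := by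
  have h1 : w1Of p E ≤ wOf p E := le_normalizer_iff_commutator_le_left.mp
    (Cfsg.Lib.BlockBasic.block_module hE.choose_spec (wOf p E) (zOf p E) rfl rfl).1
  exact mem_inf.2 ⟨h1 hu, mem_centralizer_iff.2 fun e he => (h e he).eq⟩

theorem commute_w1 {E' : Subgroup G} (hE' : IsBlk p E') (h : ⁅E, E'⁆ = ⊥) {e u : G} (he : e ∈ E)
    (hu : u ∈ w1Of p E') : Commute e u := by
  have h1 : w1Of p E' ≤ wOf p E' := le_normalizer_iff_commutator_le_left.mp
    (Cfsg.Lib.BlockBasic.block_module hE'.choose_spec (wOf p E') (zOf p E') rfl rfl).1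
  have : u ∈ E' := qOf_le E' ((wOf_le E').trans inf_le_left (h1 hu))
  exact (mem_centralizer_iff.1 (commutator_eq_bot_iff_le_centralizer.1 h he) u this).symm

theorem conj_w1 (hE : IsBlk p E) {g u : G} (hu : u ∈ w1Of p E) : g * u * g⁻¹ ∈ w1Of p (cj g E) := by
  rw [cj, ← map_w1Of]
  exact ⟨u, hu, rfl⟩

/-- the second half of the independence argument -/
theorem key_snd (hE : IsBlk p E) {f : G} (hE' : IsBlk p (cj f E))
    (hcm : ⁅E, cj f E⁆ = ⊥) {E'' : Subgroup G} (hE'' : IsBlk p E'') (hcm' : ⁅cj f E, E''⁆ = ⊥)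
    (hEq : cj f (cj f E) = E'') {u v : G} (huZ : u ∈ zOf p E) (hu : u ∈ w1Of p E)
    (hv : v ∈ w1Of p (cj f E)) (hc : Commute (u * v) f) : v ∈ zOf p (cj f E) := by
  refine mem_zOf_of_fixed hE' hv fun e he => ?_
  have h0 : v = u⁻¹ * ((f * u * f⁻¹) * (f * v * f⁻¹)) := by
    rw [show (f * u * f⁻¹) * (f * v * f⁻¹) = u * v by
      rw [show (f * u * f⁻¹) * (f * v * f⁻¹) = f * (u * v) * f⁻¹ by group, ← hc.eq, mul_inv_cancel_right],
      inv_mul_cancel_left]
  rw [h0]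
  refine Commute.mul_right ?_ (Commute.mul_right ?_ ?_)
  · exact (commute_w1 hE (commutator_comm E (cj f E) ▸ hcm) he hu).inv_right
  · obtain ⟨x, hx, rfl⟩ := he
    exact Commute.map (show Commute x u from mem_centralizer_iff.1 (mem_inf.1 huZ).2 x hx) (MulAut.conj f)
  · exact commute_w1 hE'' hcm' he (hEq ▸ conj_w1 hE' hv)

end Cfsg.Lib.BlockPair
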