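/-
The top section of an exceptional block; sections acted on by two commuting blocks.
-/
import Cfsg.Agent.BlockPair.Kinds

set_option autoImplicit false

namespace Cfsg.Lib.BlockPair

set_option linter.style.haveILetI false
set_option linter.unusedSectionVars false

open Subgroup Matrix
open scoped commutatorElement MatrixGroups

universe u

variable {G : Type u} [Group G] [Finite G] {p : ℕ} [hp : Fact p.Prime] {E F : Subgroup G}

/-- `E` acts irreducibly and faithfully (modulo `O_p(E)`) on the section `U/U₀` -/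
def Irr (p : ℕ) (E U U₀ : Subgroup G) : Prop :=
  U₀ ≤ U ∧ U ≠ U₀ ∧ E ≤ normalizer (U : Set G) ∧ E ≤ normalizer (U₀ : Set G) ∧
    (∀ M : Subgroup G, U₀ ≤ M → M ≤ U → (∀ e ∈ E, ∀ u ∈ M, e * u * e⁻¹ ∈ M) → M = U₀ ∨ M = U) ∧
    ∀ x ∈ E, (∀ u ∈ U, ⁅u, x⁆ ∈ U₀) → x ∈ qOf p E

/-- a block is linear or has an irreducible top section -/
theorem top_kind (hE : IsBlk p E) :
    qOf p E = wOf p E ∨
      (p = 3 ∧ Irr p E (qOf p E) (wOf p E) ∧ ⁅qOf p E, qOf p E⁆ = zOf p E ∧ zOf p E ≠ ⊥) := by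
  classical
  obtain ⟨T, hT⟩ := hE
  have hWQ : wOf p E ≤ qOf p E := (wOf_le E).trans inf_le_left
  obtain ⟨-, -, -, -, hcase⟩ := hT
  rcases hcase with ⟨F, iF, iFt, n, hF, ⟨hi⟩, ⟨hEW, -⟩, hex⟩ | ⟨-, m, -, -, hQW⟩
  swap
  · exact Or.inl hQW
  rcases hex with hex | ⟨h3, ⟨hEQ, -, ρ, ψ, hρ, hψs, hψ, hact⟩, h5, -, h7, h8, -⟩
  · exact Or.inl hex
  refine Or.inr ⟨h3, ⟨hWQ, ?_, hEQ, hEW, fun M hWM hMQ hinv => ?_, fun x hx hxu => ?_⟩, h5, ?_⟩
  · intro h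
    obtain ⟨u, hu⟩ := hψs (Multiplicative.ofAdd fun _ => (1 : F))
    rw [(hψ u).2 (show (u : G) ∈ wOf p E from h ▸ u.2)] at hu
    exact one_ne_zero (congrFun (congrArg Multiplicative.toAdd hu).symm 0)
  · by_cases hMW : M ≤ wOf p E
    · exact Or.inl (le_antisymm hMW hWM)
    right
    obtain ⟨a, ha, haW⟩ := SetLike.not_le_iff_exists.1 hMW
    set A := Subgroup.toAddSubgroup' ((M.subgroupOf (qOf p E)).map ψ) with hA
    refine le_antisymm hMQ fun q hq => ?_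
    have hall : Multiplicative.toAdd (ψ ⟨q, hq⟩) ∈ A := by
      refine Cfsg.Lib.BlockBasic.sl2_invariant A ?_ (v := Multiplicative.toAdd (ψ ⟨a, hMQ ha⟩)) ⟨⟨a, hMQ ha⟩, ha, rfl⟩ ?_ _
      · intro g hg b hb
        rw [← hρ] at hg
        obtain ⟨e', rfl⟩ := hg
        obtain ⟨u', hu', hb'⟩ := hb
        obtain ⟨w, hw1, hw2⟩ := hact e' u'
        refine ⟨w, ?_, ?_⟩
        · show (w : G) ∈ M
          rw [hw1]
          exact hinv _ e'.2 _ hu'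
        · apply Multiplicative.toAdd.injective
          rw [hw2, hb']
          rfl
      · exact fun e => haW ((hψ ⟨a, hMQ ha⟩).1 (Multiplicative.toAdd.injective e))
    obtain ⟨m, hm, hme⟩ := hall
    have h1 : ψ (m⁻¹ * ⟨q, hq⟩) = 1 := by
      rw [map_mul, map_inv, hme]
      exact inv_mul_cancel _
    have h2 := M.mul_mem hm (hWM ((hψ _).1 h1))
    have e : (m : G) * ((m⁻¹ * ⟨q, hq⟩ : ↥(qOf p E)) : G) = q := by simp
    exact e ▸ h2
  · have hker : ρ.ker = Cfsg.pCore p ↥E := by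
      refine ker_eq_pCore ρ (fun y hy => ?_) (by rw [hρ]; exact (Nat.card_congr hi.toEquiv).symm)
      rw [MonoidHom.mem_ker]
      refine Subtype.ext (Matrix.ext_iff_mulVec.mpr fun v => ?_)
      obtain ⟨u, hu⟩ := hψs (Multiplicative.ofAdd v)
      obtain ⟨w, hw1, hw2⟩ := hact y u
      have hwu : ψ w = ψ u := by
        rw [← mul_inv_eq_one, ← map_inv, ← map_mul, hψ, Subgroup.coe_mul, Subgroup.coe_inv, hw1]
        have hz : ⁅(y : G), (u : G)⁆ ∈ ⁅qOf p E, qOf p E⁆ :=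
          commutator_mem_commutator (⟨y, hy, rfl⟩ : (y : G) ∈ qOf p E) u.2
        rw [h5] at hz
        exact (mem_inf.1 hz).1
      rw [hwu, hu] at hw2
      simpa using hw2.symm
    refine ⟨⟨x, hx⟩, ?_, rfl⟩
    show (⟨x, hx⟩ : ↥E) ∈ Cfsg.pCore p ↥E
    rw [← hker, MonoidHom.mem_ker]
    refine Subtype.ext (Matrix.ext_iff_mulVec.mpr fun v => ?_)
    obtain ⟨u, hu⟩ := hψs (Multiplicative.ofAdd v)
    obtain ⟨w, hw1, hw2⟩ := hact ⟨x, hx⟩ u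
    have hwu : ψ w = ψ u := by
      rw [eq_comm, ← mul_inv_eq_one, ← map_inv, ← map_mul, hψ, Subgroup.coe_mul, Subgroup.coe_inv, hw1]
      have := hxu u u.2
      rw [commutatorElement_def] at this
      simpa [mul_assoc] using this
    rw [hwu, hu] at hw2
    simpa using hw2.symm
  · intro h
    have h' : Nat.card ↥(E ⊓ centralizer (E : Set G)) = 3 ^ n := h8
    rw [h7, show Cfsg.omegaOneCenter p (Cfsg.pCoreOf p E) ⊓ centralizer (E : Set G) = zOf p E from rfl, h,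
      card_bot] at h'
    have hn : n = 0 := (Nat.pow_eq_one.mp h'.symm).resolve_left (by norm_num)
    rw [hn, pow_zero] at hF
    exact absurd hF (Fintype.one_lt_card (α := F)).ne'

theorem sq_add_one_ne : ∀ c : ZMod 3, c * (c * 1) + 1 ≠ 0 := by decide

theorem irr_module (hE : IsBlk p E) : Irr p E (wOf p E) (zOf p E) := by
  obtain ⟨hEW, hirr, hWZ⟩ := Cfsg.Lib.BlockBasic.block_module hE.choose_spec (wOf p E) (zOf p E) rfl rfl
  refine ⟨inf_le_left, hWZ, hEW, fun e he => ?_, hirr, fun x hx h => (block_shape hE).2.1 x hx fun u hu => ?_⟩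
  · rw [mem_normalizer_iff]
    intro y
    constructor
    · intro hy
      rwa [mem_centralizer_iff.1 (mem_inf.1 hy).2 e he, mul_inv_cancel_right]
    · intro hy
      have h1 := mem_centralizer_iff.1 (mem_inf.1 hy).2 e he
      have h2 : y = e * y * e⁻¹ := by
        calc y = e⁻¹ * (e * y * e⁻¹ * e) := by group
          _ = e⁻¹ * (e * (e * y * e⁻¹)) := by rw [h1]
          _ = e * y * e⁻¹ := by group
      rwa [h2]
  · have h1 := inv_mem (h u hu)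
    rwa [commutatorElement_inv, commutatorElement_def] at h1

/-- the elements fixed by `x` modulo `U₀` -/
def fixedMod (U U₀ : Subgroup G) (hn : U ≤ normalizer (U₀ : Set G)) (x : G) : Subgroup G where
  carrier := {u | u ∈ U ∧ ⁅u, x⁆ ∈ U₀}
  one_mem' := ⟨one_mem _, by simp [one_mem]⟩
  mul_mem' := by
    rintro a b ⟨ha, ha'⟩ ⟨hb, hb'⟩
    refine ⟨mul_mem ha hb, ?_⟩
    have e : ⁅a * b, x⁆ = a * ⁅b, x⁆ * a⁻¹ * ⁅a, x⁆ := by simp only [commutatorElement_def]; group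
    rw [e]
    exact mul_mem ((mem_normalizer_iff.1 (hn ha) _).1 hb') ha'
  inv_mem' := by
    rintro a ⟨ha, ha'⟩
    refine ⟨inv_mem ha, ?_⟩
    have e : ⁅a⁻¹, x⁆ = a⁻¹ * ⁅a, x⁆⁻¹ * a⁻¹⁻¹ := by simp only [commutatorElement_def]; group
    rw [e]
    exact (mem_normalizer_iff.1 (hn (inv_mem ha)) _).1 (inv_mem ha')

theorem mem_fixedMod {U U₀ : Subgroup G} {hn : U ≤ normalizer (U₀ : Set G)} {x u : G} :
    u ∈ fixedMod U U₀ hn x ↔ u ∈ U ∧ ⁅u, x⁆ ∈ U₀ := Iff.rfl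

/-- an element of `E` fixing a nontrivial class is trivial, if `F` commutes with it -/
theorem mem_qOf_of_fixed {U U₀ : Subgroup G} (hU : Irr p E U U₀) (hV : Irr p F U U₀)
    (hn : U ≤ normalizer (U₀ : Set G)) {x : G} (hx : x ∈ E) (hx0 : ∀ u ∈ U₀, x * u * x⁻¹ ∈ U₀)
    (hxF : ∀ f ∈ F, ∀ u ∈ U, ⁅u, f⁻¹ * x * f * x⁻¹⁆ ∈ U₀) {u₀ : G} (hu₀ : u₀ ∈ U) (hu₀' : u₀ ∉ U₀)
    (hfix : ⁅u₀, x⁆ ∈ U₀) : x ∈ qOf p E := by
  obtain ⟨hle, -, hFU, hF₀, hirr, -⟩ := hV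
  have hge : U₀ ≤ fixedMod U U₀ hn x := fun u hu => by
    refine mem_fixedMod.2 ⟨hle hu, ?_⟩
    have := mul_mem hu (inv_mem (hx0 u hu))
    rw [commutatorElement_def]
    simpa [mul_assoc] using this
  have hinv : ∀ f ∈ F, ∀ u ∈ fixedMod U U₀ hn x, f * u * f⁻¹ ∈ fixedMod U U₀ hn x := by
    intro f hf u hu
    obtain ⟨hu1, hu2⟩ := mem_fixedMod.1 hu
    refine mem_fixedMod.2 ⟨(mem_normalizer_iff.1 (hFU hf) u).1 hu1, ?_⟩
    have e : ⁅f * u * f⁻¹, x⁆ = f * (⁅u, f⁻¹ * x * f * x⁻¹⁆ * ((f⁻¹ * x * f * x⁻¹) * ⁅u, x⁆ *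
        (f⁻¹ * x * f * x⁻¹)⁻¹)) * f⁻¹ := by
      simp only [commutatorElement_def]; group
    rw [e]
    refine (mem_normalizer_iff.1 (hF₀ hf) _).1 (mul_mem (hxF f hf u hu1) ?_)
    have h1 : x ∈ normalizer (U₀ : Set G) := hU.2.2.2.1 hx
    exact (mem_normalizer_iff.1 (mul_mem (mul_mem (mul_mem (inv_mem (hF₀ hf)) h1) (hF₀ hf)) (inv_mem h1)) _).1 hu2
  rcases hirr (fixedMod U U₀ hn x) hge (fun u hu => (mem_fixedMod.1 hu).1) hinv with h | h
  · exact absurd (h ▸ (mem_fixedMod.2 ⟨hu₀, hfix⟩ : u₀ ∈ fixedMod U U₀ hn x)) hu₀'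
  · exact hU.2.2.2.2.2 x hx fun u hu => (mem_fixedMod.1 (h.ge hu)).2

/-- `p`-elements have fixed points -/
theorem exists_fixed {U U₀ : Subgroup G} (hUp : IsPGroup p U) (hne : ¬ U ≤ U₀) {x : G}
    (hx : x ∈ normalizer (U : Set G)) {i : ℕ} (hxp : x ^ p ^ i = 1) :
    ∃ u ∈ U, u ∉ U₀ ∧ ⁅u, x⁆ ∈ U₀ := by
  suffices H : ∀ (k : ℕ) (D : Subgroup G), Nat.card D = k → D ≤ U → x ∈ normalizer (D : Set G) → ¬ D ≤ U₀ →
      ∃ u ∈ U, u ∉ U₀ ∧ ⁅u, x⁆ ∈ U₀ from H _ U rfl le_rfl hx hne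
  intro k
  induction k using Nat.strong_induction_on with
  | _ k ih =>
    intro D hk hDU hxD hD
    have hxn : zpowers x ≤ normalizer (D : Set G) := zpowers_le.2 hxD
    by_cases h : ⁅D, zpowers x⁆ ≤ U₀
    · obtain ⟨u, hu, hu'⟩ := SetLike.not_le_iff_exists.1 hD
      exact ⟨u, hDU hu, hu', h (commutator_mem_commutator hu (mem_zpowers x))⟩
    have hP : IsPGroup p (zpowers x) := by
      intro y
      refine ⟨i, Subtype.ext ?_⟩
      obtain ⟨j, hj⟩ := y.2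
      rw [Subgroup.coe_pow, ← hj]
      show (x ^ j) ^ p ^ i = 1
      rw [← zpow_natCast, ← _root_.zpow_mul, mul_comm, _root_.zpow_mul, zpow_natCast, hxp, _root_.one_zpow]
    have hDne : D ≠ ⊥ := fun e => hD (e ▸ bot_le)
    have hlt := Cfsg.Lib.Components.commutator_pGroup_lt (hUp.to_le hDU) hP hxn hDne
    refine ih _ ?_ _ rfl (hlt.le.trans hDU) (normalizer_commutator_ge_right _ _ (mem_zpowers x)) h
    subst hk
    refine lt_of_le_of_ne (Nat.le_of_dvd Nat.card_pos (card_dvd_of_le hlt.le)) fun e => hlt.ne ?_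
    exact Subgroup.eq_of_le_of_card_ge hlt.le e.ge

/-- two blocks acting on one section in a commuting way have no `p`-elements -/
theorem not_dvd_of_section [(Cfsg.pCore p G).Normal] (hEs : E.IsSubnormal) {U U₀ : Subgroup G}
    (hU : Irr p E U U₀) (hV : Irr p F U U₀) (hn : U ≤ normalizer (U₀ : Set G)) (hUp : IsPGroup p U)
    (hcomm : ∀ e ∈ E, ∀ f ∈ F, ∀ u ∈ U, ⁅u, f⁻¹ * e * f * e⁻¹⁆ ∈ U₀) :
    ¬ p ∣ Nat.card ↥(bar p E) := by
  intro hd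
  obtain ⟨⟨_, x, hx, rfl⟩, hy⟩ := exists_prime_orderOf_dvd_card' p hd
  set m := orderOf x / p ^ (orderOf x).factorization p with hm
  have hxp : (x ^ m) ^ p ^ (orderOf x).factorization p = 1 := by
    rw [← pow_mul, Nat.div_mul_cancel (Nat.ordProj_dvd _ _), pow_orderOf_eq_one]
  have hU0 : ¬ U ≤ U₀ := fun h => hU.2.1 (le_antisymm h hU.1)
  obtain ⟨u, hu, hu', hfix⟩ := exists_fixed hUp hU0 (hU.2.2.1 (pow_mem hx m)) hxp
  have hmem := mem_qOf_of_fixed hU hV hn (pow_mem hx m)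
    (fun v hv => (mem_normalizer_iff.1 (hU.2.2.2.1 (pow_mem hx m)) v).1 hv)
    (fun f hf => hcomm _ (pow_mem hx m) f hf) hu hu' hfix
  have h1 : QuotientGroup.mk' (Cfsg.pCore p G) x ^ m = 1 := by
    rw [← map_pow]; exact (QuotientGroup.eq_one_iff _).mpr (qOf_le_core hEs hmem)
  have h2 : orderOf (QuotientGroup.mk' (Cfsg.pCore p G) x) = p := by
    exact (Subgroup.orderOf_coe (⟨_, x, hx, rfl⟩ : ↥(bar p E))).trans hy
  have h3 := orderOf_dvd_of_pow_eq_one h1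
  rw [h2] at h3
  exact hp.out.one_lt.ne' (Nat.eq_one_of_dvd_coprimes (Nat.coprime_ordCompl hp.out (orderOf_pos x).ne') dvd_rfl h3)

/-- a quaternion block and a block commuting with it do not share a section -/
theorem no_common_section [Fact (Nat.Prime 3)] {U U₀ : Subgroup G} (ρ : ↥E →* SL(2, ZMod 3))
    (ψ : ↥U →* Multiplicative (Fin 2 → ZMod 3)) (hψs : Function.Surjective ψ)
    (hψ : ∀ u : ↥U, ψ u = 1 ↔ (u : G) ∈ U₀)
    (hact : ∀ (e : ↥E) (u : ↥U), ∃ w : ↥U, (w : G) = (e : G) * (u : G) * (e : G)⁻¹ ∧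
      Multiplicative.toAdd (ψ w) = ((ρ e : SL(2, ZMod 3)) : Matrix (Fin 2) (Fin 2) (ZMod 3)).mulVec
        (Multiplicative.toAdd (ψ u)))
    (hsurj : ∀ y : SL(2, ZMod 3), y ^ 8 = 1 → ∃ x, ρ x = y) {f : G}
    (hfU : ∀ u ∈ U, f * u * f⁻¹ ∈ U) (hf₀ : ∀ u ∈ U₀, f * u * f⁻¹ ∈ U₀)
    (hcomm : ∀ e ∈ E, ∀ u ∈ U, e * (f * u * f⁻¹) * e⁻¹ * (f * (e * u * e⁻¹) * f⁻¹)⁻¹ ∈ U₀)
    (hinv : ∀ u ∈ U, (f * f) * u * (f * f)⁻¹ * u ∈ U₀) : False := by
  obtain ⟨A, hA⟩ := exists_matrix ψ hψs hψ hfU hf₀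
  have hcl : ∀ y : SL(2, ZMod 3), y ^ 8 = 1 → A * (y : Matrix _ _ _) = (y : Matrix _ _ _) * A := by
    intro y hy
    obtain ⟨e, rfl⟩ := hsurj y hy
    refine Matrix.ext_iff_mulVec.mpr fun v => ?_
    obtain ⟨u, hu⟩ := hψs (Multiplicative.ofAdd v)
    obtain ⟨w, hw1, hw2⟩ := hact e u
    obtain ⟨w', hw1', hw2'⟩ := hact e ⟨f * u * f⁻¹, hfU u u.2⟩
    have h1 : ψ ⟨f * w * f⁻¹, hfU w w.2⟩ = ψ w' := by
      rw [eq_comm, ← mul_inv_eq_one, ← map_inv, ← map_mul, hψ, Subgroup.coe_mul, Subgroup.coe_inv, hw1']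
      show _ * (f * (w : G) * f⁻¹)⁻¹ ∈ U₀
      rw [hw1]
      exact hcomm e e.2 u u.2
    have h2 := hA w w.2
    rw [h1, hw2', hA u u.2] at h2
    rw [show (⟨(w : G), w.2⟩ : ↥U) = w from rfl, hw2, show (⟨(u : G), u.2⟩ : ↥U) = u from rfl, hu] at h2
    show (A * _) *ᵥ v = (_ * A) *ᵥ v
    rw [← Matrix.mulVec_mulVec, ← Matrix.mulVec_mulVec]
    exact h2.symm
  obtain ⟨c, rfl⟩ := q8_scalar A hcl
  obtain ⟨u, hu⟩ := hψs (Multiplicative.ofAdd fun _ => (1 : ZMod 3))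
  have h1 := hA u u.2
  have h2 := hA (f * u * f⁻¹) (hfU u u.2)
  rw [h1] at h2
  have hmem : (f * f) * u * (f * f)⁻¹ ∈ U := by
    have := hfU _ (hfU u u.2)
    simpa [mul_assoc] using this
  have h3 : ψ (⟨(f * f) * u * (f * f)⁻¹, hmem⟩ * u) = 1 := (hψ _).2 (hinv u u.2)
  rw [show (⟨(f * f) * u * (f * f)⁻¹, hmem⟩ : ↥U) = ⟨f * (f * u * f⁻¹) * f⁻¹, hfU _ (hfU u u.2)⟩ from
    Subtype.ext (by simp [mul_assoc]), map_mul] at h3
  have h4 := congrArg Multiplicative.toAdd h3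
  rw [toAdd_mul, h2, show (⟨(u : G), u.2⟩ : ↥U) = u from rfl, hu] at h4
  simp only [Matrix.smul_mulVec, Matrix.one_mulVec] at h4
  have h5 := congrFun h4 0
  have h6 := sq_add_one_ne
  exact h6 c (by simpa [Pi.smul_apply, smul_eq_mul] using h5)

end Cfsg.Lib.BlockPair
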