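/-
Two quaternion blocks normalizing each other commute modulo `O_3(G)` or are equal.
-/
import Cfsg.Agent.BlockPair.Top

set_option autoImplicit false

namespace Cfsg.Lib.BlockPair

set_option linter.style.haveILetI false
set_option linter.unusedSectionVars false

open Subgroup Matrix
open scoped commutatorElement MatrixGroups

universe u

theorem q8_mem {y : SL(2, ZMod 3)} (hy : y ^ 8 = 1) : y ∈ commutator SL(2, ZMod 3) := by
  haveI := Fact.mk Nat.prime_three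
  have h8 : Nat.card (commutator SL(2, ZMod 3)) = 8 := Cfsg.Agent.S2427.result.2.2.1
  have hset : (commutator SL(2, ZMod 3) : Set SL(2, ZMod 3)) =
      ↑(Finset.univ.filter fun x : SL(2, ZMod 3) => x ^ 8 = 1) := by
    refine Set.eq_of_subset_of_ncard_le (fun z hz => ?_) ?_ (Set.toFinite _)
    · have := pow_card_eq_one' (G := ↥(commutator SL(2, ZMod 3))) (x := ⟨z, hz⟩)
      rw [h8] at this
      simp only [Finset.coe_filter, Finset.mem_univ, true_and]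
      exact congrArg Subtype.val this
    · rw [Set.ncard_coe_finset, q8_card, ← Nat.card_coe_set_eq]
      exact h8.ge
  show y ∈ (commutator SL(2, ZMod 3) : Set SL(2, ZMod 3))
  rw [hset]; simpa using hy

theorem q8_pow : ∀ x : SL(2, ZMod 3),
    (x : Matrix (Fin 2) (Fin 2) (ZMod 3)) * (x : Matrix (Fin 2) (Fin 2) (ZMod 3)) = -1 → x ^ 8 = 1 := by decide

theorem q8_neg_ne : (-1 : SL(2, ZMod 3)) ≠ 1 := by decide

theorem q8_exists' : ∃ j : SL(2, ZMod 3), j ^ 8 = 1 ∧ j * j = -1 := by decide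

theorem q8_sq_neg {x : SL(2, ZMod 3)} (h : x * x = -1) : x * x ≠ 1 := fun e => q8_neg_ne (h.symm.trans e)

theorem q8_neg_sq' : (-1 : SL(2, ZMod 3)) * -1 = 1 := by decide

theorem triple_zero : ∀ c : ZMod 3, c + c + c = 0 := by decide

theorem q8_neg_smul : ∀ v : Fin 2 → ZMod 3,
    ((-1 : SL(2, ZMod 3)) : Matrix (Fin 2) (Fin 2) (ZMod 3)) *ᵥ v = -v := by decide

theorem zmod3_cases : ∀ c : ZMod 3, c = 0 ∨ c = 1 ∨ c = -1 := by decide

theorem quad_of_cube : ∀ A : Matrix (Fin 2) (Fin 2) (ZMod 3),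
    (A * A * A) * (A * A * A) * (A * A * A) = 1 → A * A * A = 1 ∧ (1 - A) * (1 - A) = 0 := by decide

variable {G : Type u} [Group G] [Finite G] {E F : Subgroup G}

theorem pow_cube_reduce {A : Matrix (Fin 2) (Fin 2) (ZMod 3)} {i : ℕ} (h : A ^ 3 ^ i = 1) :
    (1 - A) * (1 - A) = 0 := by
  have key : ∀ i : ℕ, ∀ B : Matrix (Fin 2) (Fin 2) (ZMod 3), B ^ 3 ^ (i + 1) = 1 → B ^ 3 = 1 := by
    intro i
    induction i with
    | zero => intro B hB; simpa using hB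
    | succ i ih =>
      intro B hB
      have h1 := ih (B ^ 3) (by rw [← pow_mul, ← pow_succ']; exact hB)
      have h2 : (B * B * B) * (B * B * B) * (B * B * B) = 1 := by
        rw [← h1]; simp only [pow_succ, pow_zero, one_mul, mul_assoc]
      have := (quad_of_cube B h2).1
      simpa [pow_succ, mul_assoc] using this
  have h3 : A ^ 3 = 1 := key i A (by rw [pow_succ, pow_mul, h, one_pow])
  refine (quad_of_cube A ?_).2
  have : A * A * A = 1 := by simpa [pow_succ, mul_assoc] using h3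
  rw [this]; simp

/-- the top section of an exceptional quaternion block -/
theorem tiny3_top [Fact (Nat.Prime 3)] [(Cfsg.pCore 3 G).Normal] (hE : IsBlk 3 E) (hEs : E.IsSubnormal)
    (h8E : Nat.card ↥(bar 3 E) = 8) :
    qOf 3 E = wOf 3 E ∨
    (⁅qOf 3 E, qOf 3 E⁆ = zOf 3 E ∧
      (∃ (ρ : ↥E →* SL(2, ZMod 3)) (ψ : ↥(qOf 3 E) →* Multiplicative (Fin 2 → ZMod 3)),
        Function.Surjective ψ ∧ (∀ u : ↥(qOf 3 E), ψ u = 1 ↔ (u : G) ∈ wOf 3 E) ∧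
        (∀ (e : ↥E) (u : ↥(qOf 3 E)), ∃ w : ↥(qOf 3 E), (w : G) = (e : G) * (u : G) * (e : G)⁻¹ ∧
          Multiplicative.toAdd (ψ w) = ((ρ e : SL(2, ZMod 3)) : Matrix (Fin 2) (Fin 2) (ZMod 3)).mulVec
            (Multiplicative.toAdd (ψ u))) ∧
        (∀ x : ↥E, ρ x = 1 ↔ (x : G) ∈ qOf 3 E) ∧ (∀ x : ↥E, ρ x ^ 8 = 1) ∧
        (∀ y : SL(2, ZMod 3), y ^ 8 = 1 → ∃ x, ρ x = y)) ∧
      ∃ b, b ∈ normalizer (E : Set G) ∧ (∃ i, b ^ 3 ^ i = 1) ∧
        ¬ ⁅⁅qOf 3 E, zpowers b⁆, zpowers b⁆ ≤ zOf 3 E) := by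
  classical
  have hc := h8E
  rw [← Nat.card_congr (barEquiv (p := 3) hEs).toEquiv] at hc
  rcases (block_shape hE).2.2 with hd | ⟨h, -⟩ | ⟨-, -, -, hlin |
    ⟨⟨hEQ, -, ρ, ψ, hρ, hψs, hψ, hact⟩, h5, -, -, b, hb, -, hbp, hquad⟩⟩
  · exfalso; rw [hc] at hd; norm_num at hd
  · omega
  · exact Or.inl hlin
  refine Or.inr ⟨h5, ⟨ρ, ψ, hψs, hψ, hact, ?_, fun x => ?_, fun y hy => ?_⟩, b, hb, hbp, hquad⟩
  · have hker : ρ.ker = Cfsg.pCore 3 ↥E := by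
      refine ker_eq_pCore ρ (fun y hy => ?_) ?_
      · rw [MonoidHom.mem_ker]
        refine Subtype.ext (Matrix.ext_iff_mulVec.mpr fun v => ?_)
        obtain ⟨u, hu⟩ := hψs (Multiplicative.ofAdd v)
        obtain ⟨w, hw1, hw2⟩ := hact y u
        have hwu : ψ w = ψ u := by
          rw [← mul_inv_eq_one, ← map_inv, ← map_mul, hψ, Subgroup.coe_mul, Subgroup.coe_inv, hw1]
          have hz : ⁅(y : G), (u : G)⁆ ∈ ⁅qOf 3 E, qOf 3 E⁆ :=
            commutator_mem_commutator (⟨y, hy, rfl⟩ : (y : G) ∈ qOf 3 E) u.2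
          rw [h5] at hz
          exact (mem_inf.1 hz).1
        rw [hwu, hu] at hw2
        simpa using hw2.symm
      · rw [hρ, hc]
        exact Cfsg.Agent.S2427.result.2.2.1
    intro x
    rw [← MonoidHom.mem_ker, hker]
    exact ⟨fun h => ⟨x, h, rfl⟩, fun ⟨y, hy, hyx⟩ => Subtype.ext hyx ▸ hy⟩
  · have h1 : ρ x ∈ commutator SL(2, ZMod 3) := hρ ▸ ⟨x, rfl⟩
    have := pow_card_eq_one' (G := ↥(commutator SL(2, ZMod 3))) (x := ⟨ρ x, h1⟩)
    rw [show Nat.card (commutator SL(2, ZMod 3)) = 8 from Cfsg.Agent.S2427.result.2.2.1] at this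
    exact congrArg Subtype.val this
  · have h1 := q8_mem hy
    rw [← hρ] at h1
    exact h1

/-- the inverted part of the module -/
theorem inverted [Fact (Nat.Prime 3)] {z : G} (hEW : E ≤ normalizer (wOf 3 E : Set G))
    (hz : ∀ w ∈ wOf 3 E, z * w * z⁻¹ * w ∈ zOf 3 E) (hzc : ∀ e ∈ E, z * e * z⁻¹ * e⁻¹ ∈ qOf 3 E) :
    ∀ u ∈ w1Of 3 E, z * u * z⁻¹ = u⁻¹ := by
  let K : Subgroup G :=
    { carrier := {u | u ∈ wOf 3 E ∧ z * u * z⁻¹ = u⁻¹}
      one_mem' := ⟨one_mem _, by simp⟩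
      mul_mem' := by
        rintro a b ⟨ha, ha'⟩ ⟨hb, hb'⟩
        refine ⟨mul_mem ha hb, ?_⟩
        rw [_root_.mul_inv_rev, ← (wOf_comm E (inv_mem ha) (inv_mem hb)).eq, ← ha', ← hb']
        group
      inv_mem' := by
        rintro a ⟨ha, ha'⟩
        refine ⟨inv_mem ha, ?_⟩
        rw [show z * a⁻¹ * z⁻¹ = (z * a * z⁻¹)⁻¹ by group, ha'] }
  suffices h : w1Of 3 E ≤ K from fun u hu => (h hu).2
  rw [w1Of, commutator_le]
  intro w hw e he
  refine ⟨(le_normalizer_iff_commutator_le_left.mp hEW) (commutator_mem_commutator hw he), ?_⟩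
  obtain ⟨hcW, hcC⟩ := mem_inf.1 (hz w hw)
  set c := z * w * z⁻¹ * w with hc
  set q := z * e * z⁻¹ * e⁻¹ with hq
  have hqW : ∀ x ∈ wOf 3 E, Commute q x := fun x hx =>
    mem_centralizer_iff.1 (mem_inf.1 (wOf_le E hx)).2 q (hzc e he)
  have hwe : e * w⁻¹ * e⁻¹ ∈ wOf 3 E := (mem_normalizer_iff.1 (hEW he) _).1 (inv_mem hw)
  have hce : Commute e c⁻¹ := Commute.inv_right (mem_centralizer_iff.1 hcC e he)
  have hwe2 : e * w * e⁻¹ ∈ wOf 3 E := (mem_normalizer_iff.1 (hEW he) _).1 hw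
  calc z * ⁅w, e⁆ * z⁻¹ = (c * w⁻¹) * (q * e) * (w * c⁻¹) * e⁻¹ * q⁻¹ := by
        rw [hc, hq, commutatorElement_def]; group
    _ = (c * w⁻¹) * q * (e * w * (e⁻¹ * e) * c⁻¹ * e⁻¹) * q⁻¹ := by group
    _ = (c * w⁻¹) * q * ((e * w * e⁻¹) * (e * c⁻¹ * e⁻¹)) * q⁻¹ := by group
    _ = (c * w⁻¹) * q * ((e * w * e⁻¹) * c⁻¹) * q⁻¹ := by rw [hce.eq, mul_inv_cancel_right c⁻¹ e]
    _ = (c * w⁻¹) * ((e * w * e⁻¹) * c⁻¹) := by
        rw [mul_assoc (c * w⁻¹) q, (hqW _ (mul_mem hwe2 (inv_mem hcW))).eq]; group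
    _ = c * (w⁻¹ * (e * w * e⁻¹)) * c⁻¹ := by group
    _ = w⁻¹ * (e * w * e⁻¹) := by
        rw [(wOf_comm E hcW (mul_mem (inv_mem hw) hwe2)).eq, mul_inv_cancel_right]
    _ = ⁅w, e⁆⁻¹ := by
        rw [(wOf_comm E (inv_mem hw) hwe2).eq, commutatorElement_def]; group

theorem w1_inf_zOf [Fact (Nat.Prime 3)] {z : G} (hzE : z ∈ E) (hinv : ∀ u ∈ w1Of 3 E, z * u * z⁻¹ = u⁻¹)
    {u : G} (hu : u ∈ w1Of 3 E) (hu' : u ∈ zOf 3 E) : u = 1 := by
  have h1 := hinv u hu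
  rw [mem_centralizer_iff.1 (mem_inf.1 hu').2 z hzE, mul_inv_cancel_right] at h1
  have h2 := wOf_pow E (mem_inf.1 hu').1
  calc u = u ^ 3 * (u * u⁻¹⁻¹)⁻¹ := by group
    _ = (u * u⁻¹⁻¹)⁻¹ := by rw [h2, one_mul]
    _ = 1 := by rw [← h1]; simp

theorem mem_core_of [Fact (Nat.Prime 3)] [(Cfsg.pCore 3 G).Normal] {k : G} {i : ℕ} (hk : k ^ 3 ^ i = 1)
    (h2 : QuotientGroup.mk' (Cfsg.pCore 3 G) k ∈ Cfsg.pCore 2 (G ⧸ Cfsg.pCore 3 G)) : k ∈ Cfsg.pCore 3 G := by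
  haveI := Fact.mk Nat.prime_two
  obtain ⟨j, hj⟩ := Cfsg.Lib.Components.isPGroup_pCore (G := G ⧸ Cfsg.pCore 3 G) 2 ⟨_, h2⟩
  have h3 : (QuotientGroup.mk' (Cfsg.pCore 3 G) k) ^ 2 ^ j = 1 := congrArg Subtype.val hj
  have h4 : (QuotientGroup.mk' (Cfsg.pCore 3 G) k) ^ 3 ^ i = 1 := by rw [← map_pow, hk, map_one]
  refine (QuotientGroup.eq_one_iff k).mp (orderOf_eq_one_iff.mp ?_)
  exact Nat.eq_one_of_dvd_coprimes (Nat.Coprime.pow j i (show Nat.Coprime 2 3 by norm_num))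
    (orderOf_dvd_of_pow_eq_one h3) (orderOf_dvd_of_pow_eq_one h4)

/-- a `3`-element acting on a section of rank two is quadratic -/
theorem quad_mod [Fact (Nat.Prime 3)] {U U₀ : Subgroup G} (ψ : ↥U →* Multiplicative (Fin 2 → ZMod 3))
    (hψs : Function.Surjective ψ) (hψ : ∀ u : ↥U, ψ u = 1 ↔ (u : G) ∈ U₀) {g : G} {j : ℕ}
    (hgU : ∀ u ∈ U, g * u * g⁻¹ ∈ U) (hg₀ : ∀ u ∈ U₀, g * u * g⁻¹ ∈ U₀) (hj : g ^ 3 ^ j = 1) :
    ∀ u ∈ U, ⁅⁅u, g⁆, g⁆ ∈ U₀ := by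
  obtain ⟨A, hA⟩ := exists_matrix ψ hψs hψ hgU hg₀
  have hpow : ∀ (n : ℕ) (u : G) (hu : u ∈ U), ∃ h : g ^ n * u * (g ^ n)⁻¹ ∈ U,
      Multiplicative.toAdd (ψ ⟨_, h⟩) = (A ^ n).mulVec (Multiplicative.toAdd (ψ ⟨u, hu⟩)) := by
    intro n
    induction n with
    | zero => intro u hu; refine ⟨by simpa using hu, ?_⟩; simp
    | succ n ih =>
      intro u hu
      obtain ⟨h, he⟩ := ih u hu
      have e : g ^ (n + 1) * u * (g ^ (n + 1))⁻¹ = g * (g ^ n * u * (g ^ n)⁻¹) * g⁻¹ := by rw [pow_succ']; group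
      refine ⟨e ▸ hgU _ h, ?_⟩
      have h2 := hA _ h
      rw [he, Matrix.mulVec_mulVec, ← pow_succ'] at h2
      rw [← h2]
      simp only [e]
  have hA1 : A ^ 3 ^ j = 1 := by
    refine Matrix.ext_iff_mulVec.mpr fun v => ?_
    obtain ⟨u, hu⟩ := hψs (Multiplicative.ofAdd v)
    obtain ⟨h, he⟩ := hpow (3 ^ j) u u.2
    have e : g ^ 3 ^ j * (u : G) * (g ^ 3 ^ j)⁻¹ = u := by rw [hj]; simp
    rw [show (⟨_, h⟩ : ↥U) = u from Subtype.ext e, show (⟨(u : G), u.2⟩ : ↥U) = u from rfl, hu] at he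
    rw [Matrix.one_mulVec]
    exact he.symm
  have hq := pow_cube_reduce hA1
  intro u hu
  have h1 : ∀ (x : G) (hx : x ∈ U), ∃ h : ⁅x, g⁆ ∈ U,
      Multiplicative.toAdd (ψ ⟨_, h⟩) = (1 - A).mulVec (Multiplicative.toAdd (ψ ⟨x, hx⟩)) := by
    intro x hx
    have e : ⁅x, g⁆ = x * (g * x * g⁻¹)⁻¹ := by rw [commutatorElement_def]; group
    refine ⟨e ▸ mul_mem hx (inv_mem (hgU x hx)), ?_⟩
    rw [show (⟨⁅x, g⁆, _⟩ : ↥U) = ⟨x, hx⟩ * ⟨g * x * g⁻¹, hgU x hx⟩⁻¹ from Subtype.ext e, map_mul, map_inv,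
      toAdd_mul, toAdd_inv, hA x hx, Matrix.sub_mulVec, Matrix.one_mulVec, sub_eq_add_neg]
  obtain ⟨ha, hae⟩ := h1 u hu
  obtain ⟨hb, hbe⟩ := h1 _ ha
  refine (hψ ⟨_, hb⟩).1 (Multiplicative.toAdd.injective ?_)
  rw [hbe, hae, Matrix.mulVec_mulVec, hq, Matrix.zero_mulVec, toAdd_one]

/-- the conclusion in the exceptional case -/
theorem k_false [Fact (Nat.Prime 3)] [(Cfsg.pCore 3 G).Normal]
    (hG : centralizer (Cfsg.pCore 3 G : Set G) ≤ Cfsg.pCore 3 G) (hE : IsBlk 3 E) (hEs : E.IsSubnormal)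
    {Q W Z : Subgroup G} (hQdef : Q = qOf 3 E) (hWdef : W = wOf 3 E) (hZdef : Z = zOf 3 E) (h5 : ⁅Q, Q⁆ = Z)
    (ψ : ↥(W) →* Multiplicative (Fin 2 → ZMod 3)) (hψs : Function.Surjective ψ)
    (hψ : ∀ u : ↥(W), ψ u = 1 ↔ (u : G) ∈ Z)
    (φ : ↥(Q) →* Multiplicative (Fin 2 → ZMod 3)) (hφs : Function.Surjective φ)
    (hφ : ∀ u : ↥(Q), φ u = 1 ↔ (u : G) ∈ W) {b : G} {j : ℕ}
    (hb : b ∈ normalizer (E : Set G)) (hbj : b ^ 3 ^ j = 1)
    (hquad : ¬ ⁅⁅Q, zpowers b⁆, zpowers b⁆ ≤ Z) {k : G}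
    (hst : ∀ w ∈ Cfsg.pCore 3 G, ⁅k, w⁆ ∈ Q) (hkinv : ∀ q ∈ Q, k * q * k⁻¹ * q ∈ W)
    (hkW : ∀ u ∈ W, Commute k u)
    (hkO : QuotientGroup.mk' (Cfsg.pCore 3 G) k ∈ Cfsg.pCore 2 (G ⧸ Cfsg.pCore 3 G)) : False := by
  set R := Cfsg.pCore 3 G with hR
  have hRn : R.Normal := inferInstance
  have hWQ : W ≤ Q := by rw [hQdef, hWdef]; exact (wOf_le E).trans inf_le_left
  have hZW : Z ≤ W := by rw [hZdef, hWdef]; exact inf_le_left
  have hQR : Q ≤ R := hQdef ▸ qOf_le_core hEs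
  have hWc : ∀ q ∈ Q, ∀ w ∈ W, Commute q w := fun q hq w hw =>
    mem_centralizer_iff.1 (mem_inf.1 (wOf_le E (hWdef ▸ hw))).2 q (hQdef ▸ hq)
  have hcomQ : ∀ a ∈ Q, ∀ c ∈ Q, ⁅a, c⁆ ∈ Z := fun a ha c hc => by
    have h : ⁅a, c⁆ ∈ ⁅Q, Q⁆ := commutator_mem_commutator ha hc
    rw [h5] at h
    exact h
  have hroot : ∀ w ∈ W, w * w ∈ Z → w ∈ Z := by
    intro w hw h
    have e : w * w * (w * w) = w := by
      calc w * w * (w * w) = w ^ 3 * w := by rw [pow_succ, pow_two]; simp only [mul_assoc]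
        _ = w := by rw [wOf_pow E (hWdef ▸ hw), one_mul]
    exact e ▸ mul_mem h h
  have hEb : E.map (MulAut.conj b).toMonoidHom = E := mem_normalizer_iff_map_conj_eq.1 hb
  have hQb : Q.map (MulAut.conj b).toMonoidHom = Q := by rw [hQdef, map_pCoreOf, hEb]
  have hWb : W.map (MulAut.conj b).toMonoidHom = W := by rw [hWdef, map_omegaOneCenter, map_pCoreOf, hEb]
  have hZb : Z.map (MulAut.conj b).toMonoidHom = Z := by
    rw [hZdef, Subgroup.map_inf _ _ _ (MulAut.conj b).injective, Cfsg.Lib.ZJ.map_centralizer_equiv, hEb,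
      ← hWdef, hWb, hWdef]
  have cQ : ∀ q ∈ Q, b * q * b⁻¹ ∈ Q := fun q hq => hQb.le ⟨q, hq, rfl⟩
  have cW : ∀ q ∈ W, b * q * b⁻¹ ∈ W := fun q hq => hWb.le ⟨q, hq, rfl⟩
  have cZ : ∀ q ∈ Z, b * q * b⁻¹ ∈ Z := fun q hq => hZb.le ⟨q, hq, rfl⟩
  have dQ : ∀ q ∈ Q, ∃ q0 ∈ Q, b * q0 * b⁻¹ = q := fun q hq => hQb.ge hq
  have dW : ∀ q ∈ W, ∃ q0 ∈ W, b * q0 * b⁻¹ = q := fun q hq => hWb.ge hq
  set k' := b * k * b⁻¹ with hk'
  have hk'W : ∀ u ∈ W, Commute k' u := by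
    intro u hu
    obtain ⟨u0, hu0, rfl⟩ := dW u hu
    exact Commute.map (hkW u0 hu0) (MulAut.conj b)
  have hk'inv : ∀ q ∈ Q, k' * q * k'⁻¹ * q ∈ W := by
    intro q hq
    obtain ⟨q0, hq0, rfl⟩ := dQ q hq
    rw [show k' * (b * q0 * b⁻¹) * k'⁻¹ * (b * q0 * b⁻¹) = b * (k * q0 * k⁻¹ * q0) * b⁻¹ by rw [hk']; group]
    exact cW _ (hkinv q0 hq0)
  set r := k⁻¹ * k' with hr
  have hrW : ∀ u ∈ W, Commute r u := fun u hu => ((hkW u hu).inv_left).mul_left (hk'W u hu)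
  have hkQn : ∀ w ∈ R, k * w * k⁻¹ ∈ R := fun w hw => (hRn).conj_mem w hw k
  have hrQ : ∀ q ∈ Q, ⁅r, q⁆ ∈ W := by
    intro q hq
    have hkq : k⁻¹ * q * k ∈ Q := by
      have h1 : ⁅k, k⁻¹ * q * k⁆ ∈ Q := hst _ (by
        have := (hRn).conj_mem q (hQR hq) k⁻¹
        rwa [inv_inv] at this)
      have := mul_mem (inv_mem h1) hq
      have e : ⁅k, k⁻¹ * q * k⁆⁻¹ * q = k⁻¹ * q * k := by rw [commutatorElement_def]; group
      rwa [e] at this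
    have h1 := hkinv _ hkq
    rw [show k * (k⁻¹ * q * k) * k⁻¹ = q by group] at h1
    have h2 := hk'inv q hq
    -- `r q r⁻¹ q⁻¹ = k⁻¹ (k' q k'⁻¹) k q⁻¹`
    have h3 : ⁅r, q⁆ = (k⁻¹ * (k' * q * k'⁻¹ * q) * k⁻¹⁻¹) * (q * (k⁻¹ * q * k))⁻¹ := by
      rw [hr, commutatorElement_def]; group
    rw [h3]
    refine mul_mem ?_ ?_
    · rw [((hkW _ h2).inv_left).eq, inv_inv, inv_mul_cancel_right]; exact h2
    · exact inv_mem h1
  have hrR : r ∈ R := by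
    have hrA : ∀ w ∈ R, ⁅r, w⁆ ∈ Q := by
      intro w hw
      have h1 : ⁅k', w⁆ ∈ Q := by
        have h0 := cQ _ (hst (b⁻¹ * w * b) (by
          have := (hRn).conj_mem w hw b⁻¹
          rwa [inv_inv] at this))
        have e : b * ⁅k, b⁻¹ * w * b⁆ * b⁻¹ = ⁅k', w⁆ := by rw [hk']; simp only [commutatorElement_def]; group
        rwa [e] at h0
      have h2 : k⁻¹ * w * k ∈ R := by
        have := (hRn).conj_mem w hw k⁻¹
        rwa [inv_inv] at this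
      have h3 := hst _ h2
      have h4 : ⁅k, k⁻¹ * ⁅k', w⁆ * k⁆ ∈ Q := hst _ (by
        have := (hRn).conj_mem _ (hQR h1) k⁻¹
        rwa [inv_inv] at this)
      have e : ⁅r, w⁆ = (⁅k, k⁻¹ * ⁅k', w⁆ * k⁆⁻¹ * ⁅k', w⁆) * ⁅k, k⁻¹ * w * k⁆⁻¹ := by
        rw [hr]; simp only [commutatorElement_def]; group
      rw [e]
      exact mul_mem (mul_mem (inv_mem h4) h1) (inv_mem h3)
    obtain ⟨i, hi⟩ := pow_eq_one_of_stab hG hQR hWQ hrA hrQ hrW
    refine mem_core_of hi ?_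
    rw [hr, hk', map_mul, map_inv, map_mul, map_mul, map_inv]
    haveI := Cfsg.Lib.Components.pCore_normal' (G := G ⧸ R) 2
    exact mul_mem (inv_mem hkO) (Subgroup.Normal.conj_mem inferInstance _ hkO _)
  -- the decomposition `Q = Q₁ W`
  have hdec : ∀ q ∈ Q, ∃ q1 ∈ Q, k * q1 * k⁻¹ * q1 ∈ Z ∧ ∃ w ∈ W, q = q1 * w := by
    intro q hq
    set d := k * q * k⁻¹ * q with hd
    have hdW : d ∈ W := hkinv q hq
    refine ⟨q * d, mul_mem hq (hWQ hdW), ?_, d⁻¹, inv_mem hdW, by group⟩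
    have e : k * (q * d) * k⁻¹ * (q * d) = 1 := by
      calc k * (q * d) * k⁻¹ * (q * d) = (k * q * k⁻¹) * (k * d * k⁻¹) * (q * d) := by group
        _ = (k * q * k⁻¹) * (d * q) * d := by rw [(hkW d hdW).eq]; group
        _ = (k * q * k⁻¹) * (q * d) * d := by rw [(hWc q hq d hdW).eq]
        _ = d * d * d := by rw [hd]; group
        _ = d ^ 3 := by simp [pow_succ]
        _ = 1 := wOf_pow E (hWdef ▸ hdW)
    rw [e]; exact one_mem _
  have hrZ : ∀ q ∈ Q, ⁅r, q⁆ ∈ Z := by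
    intro q hq
    obtain ⟨q1, hq1, hq1k, w, hw, rfl⟩ := hdec q hq
    have e : ⁅r, q1 * w⁆ = ⁅r, q1⁆ * (q1 * ⁅r, w⁆ * q1⁻¹) := by simp only [commutatorElement_def]; group
    rw [e, commutatorElement_eq_one_iff_mul_comm.2 (hrW w hw).eq, mul_one, mul_inv_cancel, mul_one]
    set t := ⁅r, q1⁆ with ht
    have htW : t ∈ W := hrQ q1 hq1
    refine hroot t htW ?_
    set z1 := k * q1 * k⁻¹ * q1 with hz1
    set a := r⁻¹ * (k * r * k⁻¹) with ha
    have haQ : a ∈ Q := by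
      have h1 : ⁅k, r⁆ ∈ Q := hst r hrR
      have hn : r⁻¹ ∈ normalizer (Q : Set G) :=
        inv_mem (hQdef ▸ (core_le_normalizer hE).trans (Cfsg.Lib.Large.normalizer_pCoreOf_le E) hrR)
      have := (mem_normalizer_iff.1 hn _).1 h1
      have e : r⁻¹ * ⁅k, r⁆ * r⁻¹⁻¹ = a := by rw [ha, commutatorElement_def]; group
      rwa [e] at this
    have hu : ⁅a, q1⁻¹⁆ ∈ Z := hcomQ a haQ _ (inv_mem hq1)
    have hz1Q : z1 ∈ W := hZW hq1k
    have h1 : k * t * k⁻¹ = r * ⁅a, q1⁻¹⁆ * r⁻¹ * (q1⁻¹ * t⁻¹ * q1) := by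
      have hkq : k * q1 * k⁻¹ = z1 * q1⁻¹ := by rw [hz1]; group
      have hc1 : Commute z1 (r * a) := (hrW z1 hz1Q).symm.mul_right (hWc a haQ z1 hz1Q).symm
      have hc2 : Commute z1 q1⁻¹ := (hWc _ (inv_mem hq1) z1 hz1Q).symm
      calc k * t * k⁻¹ = (r * a) * (k * q1 * k⁻¹) * (r * a)⁻¹ * (k * q1 * k⁻¹)⁻¹ := by
            rw [ht, ha, commutatorElement_def]; group
        _ = ((r * a) * z1) * q1⁻¹ * (r * a)⁻¹ * (q1 * z1⁻¹) := by rw [hkq]; group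
        _ = z1 * ((r * a) * q1⁻¹ * (r * a)⁻¹ * q1) * z1⁻¹ := by rw [← hc1.eq]; group
        _ = z1 * (r * ⁅a, q1⁻¹⁆ * r⁻¹ * (q1⁻¹ * t⁻¹ * q1)) * z1⁻¹ := by
            rw [ht]; simp only [commutatorElement_def]; group
        _ = r * ⁅a, q1⁻¹⁆ * r⁻¹ * (q1⁻¹ * t⁻¹ * q1) := by
            have hm : r * ⁅a, q1⁻¹⁆ * r⁻¹ * (q1⁻¹ * t⁻¹ * q1) ∈ W := by
              rw [(hrW _ (hZW hu)).eq, mul_inv_cancel_right, (hWc _ (inv_mem hq1) _ (inv_mem htW)).eq,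
                inv_mul_cancel_right]
              exact mul_mem (hZW hu) (inv_mem htW)
            rw [hWdef] at hz1Q hm
            rw [(wOf_comm E hz1Q hm).eq, mul_inv_cancel_right]
    rw [(hkW t htW).eq, mul_inv_cancel_right, (hrW _ (hZW hu)).eq, mul_inv_cancel_right,
      (hWc _ (inv_mem hq1) _ (inv_mem htW)).eq, inv_mul_cancel_right] at h1
    have h2 : t * t = ⁅a, q1⁻¹⁆ := by
      calc t * t = ⁅a, q1⁻¹⁆ * t⁻¹ * t := by rw [← h1]
        _ = ⁅a, q1⁻¹⁆ := by group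
    rw [h2]; exact hu
  have hQ1b : ∀ q ∈ Q, k * q * k⁻¹ * q ∈ Z → k * (b * q * b⁻¹) * k⁻¹ * (b * q * b⁻¹) ∈ Z := by
    intro q hq hqk
    have h1 : k' * (b * q * b⁻¹) * k'⁻¹ * (b * q * b⁻¹) ∈ Z := by
      rw [show k' * (b * q * b⁻¹) * k'⁻¹ * (b * q * b⁻¹) = b * (k * q * k⁻¹ * q) * b⁻¹ by rw [hk']; group]
      exact cZ _ hqk
    have h2 := hrZ _ (cQ q hq)
    set c := ⁅r, b * q * b⁻¹⁆ with hc
    have e : k' * (b * q * b⁻¹) * k'⁻¹ * (b * q * b⁻¹) = k * c * k⁻¹ * (k * (b * q * b⁻¹) * k⁻¹ * (b * q * b⁻¹)) := by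
      rw [hc, hr, commutatorElement_def]; group
    rw [e, (hkW c (hZW h2)).eq, mul_inv_cancel_right] at h1
    exact (Subgroup.mul_mem_cancel_left _ h2).1 h1
  have hn : Q ≤ normalizer (Z : Set G) := fun q hq => by
    rw [mem_normalizer_iff]
    intro z
    constructor
    · intro hz
      rwa [(hWc q hq z (hZW hz)).eq, mul_inv_cancel_right]
    · intro hz
      have h := (hWc q hq _ (hZW hz)).eq
      have e : z = q * z * q⁻¹ := by
        calc z = q⁻¹ * ((q * z * q⁻¹) * q) := by group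
          _ = q⁻¹ * (q * (q * z * q⁻¹)) := by rw [← h]
          _ = q * z * q⁻¹ := by group
      rwa [e]
  set S := fixedMod Q Z hn b with hS
  have hSW : ∀ w ∈ W, ⁅w, b⁆ ∈ S := fun w hw => by
    have hwb : ⁅w, b⁆ ∈ W := by
      rw [commutatorElement_def, show w * b * w⁻¹ * b⁻¹ = w * (b * w * b⁻¹)⁻¹ by group]
      exact mul_mem hw (inv_mem (cW w hw))
    exact mem_fixedMod.2 ⟨hWQ hwb, quad_mod ψ hψs hψ cW cZ hbj w hw⟩
  have hS1 : ∀ q ∈ Q, ⁅q, b⁆ ∈ S := by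
    intro q hq
    obtain ⟨q1, hq1, hq1k, w, hw, rfl⟩ := hdec q hq
    have e : ⁅q1 * w, b⁆ = q1 * ⁅w, b⁆ * q1⁻¹ * ⁅q1, b⁆ := by simp only [commutatorElement_def]; group
    have hwb : ⁅w, b⁆ ∈ W := by
      rw [commutatorElement_def, show w * b * w⁻¹ * b⁻¹ = w * (b * w * b⁻¹)⁻¹ by group]
      exact mul_mem hw (inv_mem (cW w hw))
    rw [e, (hWc q1 hq1 _ hwb).eq, mul_inv_cancel_right]
    refine mul_mem (hSW w hw) ?_
    -- the inverted part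
    have h3 := quad_mod φ hφs hφ cQ cW hbj q1 hq1
    have inv1 : ∀ x ∈ Q, k * x * k⁻¹ * x ∈ Z → k * ⁅x, b⁆ * k⁻¹ * ⁅x, b⁆ ∈ Z := by
      intro x hx hxk
      set y := b * x * b⁻¹ with hy
      have hyQ : y ∈ Q := cQ x hx
      have hyk := hQ1b x hx hxk
      have e : ⁅x, b⁆ = x * y⁻¹ := by rw [hy, commutatorElement_def]; group
      rw [e]
      have hky : k * y * k⁻¹ ∈ Q := by
        have := mul_mem (hWQ (hZW hyk)) (inv_mem hyQ)
        rwa [mul_inv_cancel_right] at this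
      -- modulo `Z` everything in `Q` commutes
      have e2 : k * (x * y⁻¹) * k⁻¹ * (x * y⁻¹) =
          (k * x * k⁻¹ * x) * ⁅x⁻¹, (k * y * k⁻¹)⁻¹⁆ * ((k * y * k⁻¹)⁻¹ * y⁻¹) := by
        simp only [commutatorElement_def]; group
      rw [e2]
      refine mul_mem (mul_mem hxk (hcomQ _ (inv_mem hx) _ (inv_mem hky))) ?_
      rw [show (k * y * k⁻¹)⁻¹ * y⁻¹ = (⁅y, k * y * k⁻¹⁆ * (k * y * k⁻¹ * y))⁻¹ by
        rw [commutatorElement_def]; group]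
      exact inv_mem (mul_mem (hcomQ _ hyQ _ hky) hyk)
    have hq1b : ⁅q1, b⁆ ∈ Q := by
      rw [commutatorElement_def, show q1 * b * q1⁻¹ * b⁻¹ = q1 * (b * q1 * b⁻¹)⁻¹ by group]
      exact mul_mem hq1 (inv_mem (cQ q1 hq1))
    have h4 := inv1 _ hq1b (inv1 q1 hq1 hq1k)
    refine mem_fixedMod.2 ⟨hq1b, hroot _ h3 ?_⟩
    rwa [(hkW _ h3).eq, mul_inv_cancel_right] at h4
  -- pass to the powers of `b`
  have cS : ∀ s ∈ S, b * s * b⁻¹ ∈ S := fun s hs => by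
    obtain ⟨h1, h2⟩ := mem_fixedMod.1 hs
    refine mem_fixedMod.2 ⟨cQ s h1, ?_⟩
    have := cZ _ h2
    have e : b * ⁅s, b⁆ * b⁻¹ = ⁅b * s * b⁻¹, b⁆ := by simp only [commutatorElement_def]; group
    rwa [e] at this
  have gen : ∀ (A : Subgroup G) (B : Subgroup G), (∀ a ∈ A, ⁅a, b⁆ ∈ B) → (∀ x ∈ B, b * x * b⁻¹ ∈ B) →
      ⁅A, zpowers b⁆ ≤ B := by
    intro A B h1 h2
    rw [commutator_le]
    intro a ha c hc
    obtain ⟨n, rfl⟩ := ((isOfFinOrder_of_finite b).mem_powers_iff_mem_zpowers.symm).1 hc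
    show ⁅a, b ^ n⁆ ∈ B
    induction n with
    | zero => simp [one_mem]
    | succ n ih =>
      have e : ⁅a, b ^ (n + 1)⁆ = ⁅a, b⁆ * (b * ⁅a, b ^ n⁆ * b⁻¹) := by
        rw [pow_succ']; simp only [commutatorElement_def]; group
      rw [e]
      exact mul_mem (h1 a ha) (h2 _ (ih (Subgroup.pow_mem _ (mem_zpowers b) n)))
  exact hquad ((commutator_mono (gen Q S hS1 cS) le_rfl).trans (gen S Z (fun s hs => (mem_fixedMod.1 hs).2) cZ))

/-- two quaternion blocks with images meeting nontrivially are equal -/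
theorem quat_pair [Fact (Nat.Prime 3)] [(Cfsg.pCore 3 G).Normal]
    (hG : centralizer (Cfsg.pCore 3 G : Set G) ≤ Cfsg.pCore 3 G)
    (hE : IsBlk 3 E) (hEs : E.IsSubnormal) (hF : IsBlk 3 F) (hFs : F.IsSubnormal)
    (h8E : Nat.card ↥(bar 3 E) = 8) (h8F : Nat.card ↥(bar 3 F) = 8)
    (hFE : F ≤ normalizer (E : Set G)) (hI : bar 3 E ⊓ bar 3 F ≠ ⊥) : bar 3 F ≤ bar 3 E := by
  classical
  set R := Cfsg.pCore 3 G with hR
  set π := QuotientGroup.mk' R with hπ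
  haveI := Fact.mk Nat.prime_two
  obtain ⟨hEW, -, ρ, ψ, hψs, hψ, hact, hker, h8, hsurj⟩ := tiny3 hE hEs h8E
  obtain ⟨hFW, -, ρ', ψ', hψs', hψ', hact', hker', h8', hsurj'⟩ := tiny3 hF hFs h8F
  have hO2E : bar 3 E ≤ Cfsg.pCore 2 (G ⧸ R) :=
    Cfsg.Lib.Components.le_pCore_of_subnormal (hEs.map (QuotientGroup.mk'_surjective R)) (IsPGroup.of_card (n := 3) h8E)
  have hO2F : bar 3 F ≤ Cfsg.pCore 2 (G ⧸ R) :=
    Cfsg.Lib.Components.le_pCore_of_subnormal (hFs.map (QuotientGroup.mk'_surjective R)) (IsPGroup.of_card (n := 3) h8F)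
  -- a common involution
  obtain ⟨z, hzE, hzF, hρz, hρz'⟩ : ∃ (z : G) (hzE : z ∈ E) (hzF : z ∈ F),
      ρ ⟨z, hzE⟩ = -1 ∧ ρ' ⟨z, hzF⟩ = -1 := by
    have hI2 : IsPGroup 2 ↥(bar 3 E ⊓ bar 3 F) := (IsPGroup.of_card (n := 3) h8E).to_le inf_le_left
    haveI : Nontrivial ↥(bar 3 E ⊓ bar 3 F) := (nontrivial_iff_ne_bot _).2 hI
    obtain ⟨k, hk⟩ := IsPGroup.iff_card.mp hI2
    have hk0 : 0 < k := by
      rcases Nat.eq_zero_or_pos k with rfl | h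
      · exact absurd hk (Finite.one_lt_card (α := ↥(bar 3 E ⊓ bar 3 F))).ne'
      · exact h
    obtain ⟨⟨t, ⟨x, hx, hxt⟩, y, hy, hyt⟩, hord⟩ :=
      exists_prime_orderOf_dvd_card' 2 (hk ▸ dvd_pow_self 2 hk0.ne')
    rw [← Subgroup.orderOf_coe] at hord
    replace hord : orderOf (π x) = 2 := by rw [hπ, hxt]; exact hord
    have hyx : π y = π x := hyt.trans hxt.symm
    set n := 3 ^ (orderOf x).factorization 3 with hn
    have hco : (orderOf (x ^ n)).Coprime 3 := by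
      rw [orderOf_pow, Nat.gcd_eq_right (Nat.ordProj_dvd _ _)]
      exact Nat.coprime_comm.1 (Nat.coprime_ordCompl Nat.prime_three (orderOf_pos x).ne')
    have hodd : n % 2 = 1 := by rw [hn, Nat.pow_mod]; norm_num
    have himg : π (x ^ n) = π x := by
      rw [map_pow, pow_eq_pow_mod n (n := 2) (by rw [← hord]; exact pow_orderOf_eq_one _), hodd, pow_one]
    have hz : x ^ n ∈ F := by
      refine Cfsg.Lib.PIrr.coprime_mem (Cfsg.Lib.Components.isPGroup_pCore 3) (core_le_normalizer hF) ?_ hco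
      have h1 : π (x ^ n) = π y := himg.trans hyx.symm
      have h2 : (x ^ n)⁻¹ * y ∈ R := QuotientGroup.eq.mp h1
      have h3 : x ^ n = y * ((x ^ n)⁻¹ * y)⁻¹ := by group
      rw [h3]
      exact mul_mem (mem_sup_left hy) (mem_sup_right (inv_mem h2))
    have key : ∀ {K : Subgroup G} (σ : ↥K →* SL(2, ZMod 3)), K.IsSubnormal → IsBlk 3 K →
        (∀ a : ↥K, σ a = 1 ↔ (a : G) ∈ qOf 3 K) → (∀ a : ↥K, σ a ^ 8 = 1) →
        ∀ hzK : x ^ n ∈ K, σ ⟨x ^ n, hzK⟩ = -1 := by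
      intro K σ hKs hK hk' hk8 hzK
      have hnot : π (x ^ n) ≠ 1 := by
        rw [himg]; intro h; rw [h, orderOf_one] at hord; norm_num at hord
      rcases q8_cases _ (hk8 ⟨x ^ n, hzK⟩) with h | h | h
      · exact absurd ((QuotientGroup.eq_one_iff _).mpr (qOf_le_core hKs ((hk' _).1 h))) hnot
      · exact h
      · exfalso
        have h2 : (x ^ n * x ^ n) ∈ qOf 3 K := by
          rw [← inf_core hKs]
          refine mem_inf.2 ⟨mul_mem hzK hzK, (QuotientGroup.eq_one_iff _).mp ?_⟩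
          show π (x ^ n * x ^ n) = 1
          rw [map_mul, himg, ← pow_two, ← hord, pow_orderOf_eq_one]
        have h3 : σ (⟨x ^ n, hzK⟩ * ⟨x ^ n, hzK⟩) = 1 := (hk' _).2 h2
        rw [map_mul] at h3
        exact q8_sq_neg h h3
    exact ⟨x ^ n, pow_mem hx n, hz, key ρ hEs hE hker h8 _, key ρ' hFs hF hker' h8' _⟩
  have hzmod : ∀ {K : Subgroup G} (σ : ↥K →* SL(2, ZMod 3)) (φ : ↥(wOf 3 K) →* Multiplicative (Fin 2 → ZMod 3))
      (_ : ∀ u : ↥(wOf 3 K), φ u = 1 ↔ (u : G) ∈ zOf 3 K)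
      (_ : ∀ (e : ↥K) (u : ↥(wOf 3 K)), ∃ w : ↥(wOf 3 K), (w : G) = (e : G) * (u : G) * (e : G)⁻¹ ∧
        Multiplicative.toAdd (φ w) = ((σ e : SL(2, ZMod 3)) : Matrix (Fin 2) (Fin 2) (ZMod 3)).mulVec
          (Multiplicative.toAdd (φ u)))
      (y : ↥K), σ y = -1 → ∀ w ∈ wOf 3 K, (y : G) * w * (y : G)⁻¹ * w ∈ zOf 3 K := by
    intro K σ φ hφ hφact y hy w hw
    obtain ⟨w', hw1, hw2⟩ := hφact y ⟨w, hw⟩
    have h := (hφ (w' * ⟨w, hw⟩)).1 (by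
      apply Multiplicative.toAdd.injective
      rw [map_mul, toAdd_mul, hw2, hy, q8_neg_smul, toAdd_one, neg_add_cancel])
    rwa [Subgroup.coe_mul, hw1] at h
  have hcentral : ∀ {K : Subgroup G} (σ : ↥K →* SL(2, ZMod 3)), (∀ a : ↥K, σ a = 1 ↔ (a : G) ∈ qOf 3 K) →
      ∀ y : ↥K, σ y = -1 → ∀ e ∈ K, (y : G) * e * (y : G)⁻¹ * e⁻¹ ∈ qOf 3 K := by
    intro K σ hk' y hy e he
    refine (hk' (y * ⟨e, he⟩ * y⁻¹ * ⟨e, he⟩⁻¹)).1 ?_
    rw [map_mul, map_mul, map_mul, map_inv, map_inv, hy]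
    have : ∀ a : SL(2, ZMod 3), (-1) * a * (-1)⁻¹ = a := by
      intro a; rw [neg_one_mul, inv_neg, inv_one, mul_neg, neg_mul, mul_one, neg_neg]
    rw [this, mul_inv_cancel]
  have hinvE := inverted hEW (hzmod ρ ψ hψ hact ⟨z, hzE⟩ hρz) (hcentral ρ hker ⟨z, hzE⟩ hρz)
  have hinvF := inverted hFW (hzmod ρ' ψ' hψ' hact' ⟨z, hzF⟩ hρz') (hcentral ρ' hker' ⟨z, hzF⟩ hρz')
  have back : ∀ {K : Subgroup G}, IsBlk 3 K → K.IsSubnormal → z ∈ K →
      ∀ u ∈ vOf 3 G, z * u * z⁻¹ = u⁻¹ → u ∈ w1Of 3 K := by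
    intro K hK hKs hzK u hu hzu
    have h1 : ⁅u, z⁆ ∈ w1Of 3 K := commutator_vOf hG hK hKs ▸ commutator_mem_commutator hu hzK
    have h2 : ⁅u, z⁆ = u * u := by
      rw [commutatorElement_def, show u * z * u⁻¹ * z⁻¹ = u * (z * u * z⁻¹)⁻¹ by group, hzu, inv_inv]
    rw [h2] at h1
    have h3 : u * u * (u * u) = u := by
      calc u * u * (u * u) = u ^ 3 * u := by rw [pow_succ, pow_two]; simp only [mul_assoc]
        _ = u := by rw [vOf_pow hu, one_mul]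
    exact h3 ▸ mul_mem h1 h1
  have hU : w1Of 3 E = w1Of 3 F := le_antisymm
    (fun u hu => back hF hFs hzF u (w1_le_vOf hG hE hu) (hinvE u hu))
    (fun u hu => back hE hEs hzE u (w1_le_vOf hG hF hu) (hinvF u hu))
  -- the cores coincide
  have qle : ∀ {A B : Subgroup G}, IsBlk 3 A → A.IsSubnormal → IsBlk 3 B → B.IsSubnormal → ∀ hzA : z ∈ A,
      ∀ σ : ↥A →* SL(2, ZMod 3), σ ⟨z, hzA⟩ = -1 → (∀ a : ↥A, σ a = 1 ↔ (a : G) ∈ qOf 3 A) →
      z ∈ B → w1Of 3 A = w1Of 3 B → Nat.card ↥(bar 3 A) = 8 → qOf 3 A ≤ qOf 3 B := by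
    intro A B hA hAs hB hBs hzA σ hσz hσker hzB hAB h8A
    have hc : ∀ q ∈ qOf 3 A, ⁅q, z⁆ ∈ qOf 3 B := fun q hq => by
      rw [← commutator_core hB hBs, commutator_comm]
      exact commutator_mem_commutator (qOf_le_core hAs hq) hzB
    rcases tiny3_top hA hAs h8A with hlin | ⟨h5, ⟨σ2, φ, hφs, hφ, hφact, hk2, h82, -⟩, -⟩
    · intro q hq
      have hq1 : q ∈ w1Of 3 A := by
        rw [w1Of, ← hlin, commutator_qOf hA]
        exact hq
      have : q ∈ w1Of 3 B := hAB ▸ hq1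
      exact (wOf_le B).trans inf_le_left ((le_normalizer_iff_commutator_le_left.mp
        (Cfsg.Lib.BlockBasic.block_module hB.choose_spec (wOf 3 B) (zOf 3 B) rfl rfl).1) this)
    · -- `z` inverts `Q / W`
      have hne : σ2 ⟨z, hzA⟩ ≠ 1 := fun h => q8_neg_ne (hσz ▸ (hσker _).2 ((hk2 _).1 h))
      have hsq : σ2 ⟨z, hzA⟩ * σ2 ⟨z, hzA⟩ = 1 := by
        rw [← map_mul]
        refine (hk2 _).2 ((hσker _).1 ?_)
        rw [map_mul, hσz]
        exact q8_neg_sq'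
      have hz2 : σ2 ⟨z, hzA⟩ = -1 := by
        rcases q8_cases _ (h82 ⟨z, hzA⟩) with h | h | h
        · exact absurd h hne
        · exact h
        · exact absurd hsq (q8_sq_neg h)
      have hzq : ∀ q ∈ qOf 3 A, z * q * z⁻¹ * q ∈ wOf 3 A := by
        intro q hq
        obtain ⟨w', hw1, hw2⟩ := hφact ⟨z, hzA⟩ ⟨q, hq⟩
        have h := (hφ (w' * ⟨q, hq⟩)).1 (by
          apply Multiplicative.toAdd.injective
          rw [map_mul, toAdd_mul, hw2, hz2, q8_neg_smul, toAdd_one, neg_add_cancel])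
        rwa [Subgroup.coe_mul, hw1] at h
      have hWA : wOf 3 A ≤ qOf 3 A := (wOf_le A).trans inf_le_left
      -- modulo `W` everything lies in the core of `B`
      have hdec : ∀ q ∈ qOf 3 A, ∃ a, a ∈ qOf 3 B ∧ a ∈ qOf 3 A ∧ a⁻¹ * q ∈ wOf 3 A := by
        intro q hq
        refine ⟨⁅q, z⁆⁻¹, inv_mem (hc q hq), inv_mem ?_, ?_⟩
        · rw [commutatorElement_def, show q * z * q⁻¹ * z⁻¹ = q * (z * q * z⁻¹)⁻¹ by group]
          exact mul_mem hq (inv_mem ((mem_normalizer_iff.1 (normal_qOf A hzA) q).1 hq))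
        · -- `[q, z] q = q ((z q z⁻¹)⁻¹ q)`
          have h1 := hzq q hq
          have hcube : q * q * q ∈ wOf 3 A := by
            have : φ ⟨q, hq⟩ * φ ⟨q, hq⟩ * φ ⟨q, hq⟩ = 1 := by
              apply Multiplicative.toAdd.injective
              rw [toAdd_mul, toAdd_mul, toAdd_one]
              funext i
              exact triple_zero _
            exact (hφ (⟨q, hq⟩ * ⟨q, hq⟩ * ⟨q, hq⟩)).1 (by rw [map_mul, map_mul]; exact this)
          have hn : q ∈ normalizer (wOf 3 A : Set G) :=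
            (Cfsg.Lib.BlockBasic.block_module hA.choose_spec (wOf 3 A) (zOf 3 A) rfl rfl).1 (qOf_le A hq)
          rw [inv_inv, commutatorElement_def]
          have e : q * z * q⁻¹ * z⁻¹ * q =
              (q * q * (z * q * z⁻¹ * q)⁻¹ * (q * q)⁻¹) * (q * q * q) * ((q⁻¹ * q⁻¹) * 1 * (q * q)) := by
            group
          rw [e]
          refine mul_mem (mul_mem ?_ hcube) (by rw [mul_one]; group; exact one_mem _)
          exact (mem_normalizer_iff.1 (mul_mem hn hn) _).1 (inv_mem h1)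
      have hZ : zOf 3 A ≤ qOf 3 B := by
        rw [← h5, commutator_le]
        intro x hx y hy
        obtain ⟨a, haB, haA, haw⟩ := hdec x hx
        obtain ⟨b, hbB, hbA, hbw⟩ := hdec y hy
        have hcen : ∀ u ∈ qOf 3 A, ∀ w ∈ wOf 3 A, Commute u w := fun u hu w hw =>
          mem_centralizer_iff.1 (mem_inf.1 (wOf_le A hw)).2 u hu
        have : ⁅x, y⁆ = ⁅a, b⁆ := by
          have hyA : y ∈ qOf 3 A := hy
          calc ⁅x, y⁆ = (a * (a⁻¹ * x)) * y * ((a⁻¹ * x)⁻¹ * a⁻¹) * y⁻¹ := by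
                rw [commutatorElement_def]; group
            _ = a * ((a⁻¹ * x) * y) * ((a⁻¹ * x)⁻¹ * a⁻¹) * y⁻¹ := by group
            _ = a * (y * (a⁻¹ * x)) * ((a⁻¹ * x)⁻¹ * a⁻¹) * y⁻¹ := by rw [(hcen y hyA _ haw).eq]
            _ = a * (b * (b⁻¹ * y)) * a⁻¹ * ((b⁻¹ * y)⁻¹ * b⁻¹) := by group
            _ = a * b * ((b⁻¹ * y) * a⁻¹) * ((b⁻¹ * y)⁻¹ * b⁻¹) := by group
            _ = a * b * (a⁻¹ * (b⁻¹ * y)) * ((b⁻¹ * y)⁻¹ * b⁻¹) := by
                rw [(hcen a⁻¹ (inv_mem haA) _ hbw).eq]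
            _ = ⁅a, b⁆ := by rw [commutatorElement_def]; group
        rw [this]
        exact commutator_le.1 (le_normalizer_iff_commutator_le_left.mp le_normalizer) a haB b hbB
      have hW : wOf 3 A ≤ qOf 3 B := by
        rw [← (wOf_eq_sup hA).1]
        refine sup_le ?_ hZ
        rw [hAB]
        exact (le_normalizer_iff_commutator_le_left.mp
          (Cfsg.Lib.BlockBasic.block_module hB.choose_spec (wOf 3 B) (zOf 3 B) rfl rfl).1).trans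
            ((wOf_le B).trans inf_le_left)
      intro q hq
      obtain ⟨a, haB, -, haw⟩ := hdec q hq
      have := mul_mem haB (hW haw)
      rwa [mul_inv_cancel_left] at this
  have hQ : qOf 3 E = qOf 3 F := le_antisymm (qle hE hEs hF hFs hzE ρ hρz hker hzF hU h8E)
    (qle hF hFs hE hEs hzF ρ' hρz' hker' hzE hU.symm h8F)
  have hW : wOf 3 E = wOf 3 F := by
    show Cfsg.omegaOneCenter 3 (qOf 3 E) = Cfsg.omegaOneCenter 3 (qOf 3 F)
    rw [hQ]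
  have hWQ : wOf 3 E ≤ qOf 3 E := (wOf_le E).trans inf_le_left
  have hW1 : w1Of 3 E ≤ wOf 3 E := le_normalizer_iff_commutator_le_left.mp hEW
  have hU1 : ∀ u ∈ w1Of 3 E, u ∈ zOf 3 E → u = 1 := fun u hu hu' => w1_inf_zOf hzE hinvE hu hu'
  have hlinF : qOf 3 E = wOf 3 E ↔ qOf 3 F = wOf 3 F := by rw [← hW, ← hQ]
  have hU1F : ∀ u ∈ w1Of 3 F, u ∈ zOf 3 F → u = 1 := fun u hu hu' => w1_inf_zOf hzF hinvF hu hu'
  have hZ : zOf 3 E = zOf 3 F := by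
    by_cases hlE : qOf 3 E = wOf 3 E
    · have hlF := hlinF.1 hlE
      have hWU : wOf 3 E ≤ w1Of 3 E := by
        conv_lhs => rw [← hlE, ← commutator_qOf hE]
        rw [hlE]
      have hWU' : wOf 3 F ≤ w1Of 3 F := by rw [← hW, ← hU]; exact hWU
      rw [(Subgroup.eq_bot_iff_forall (zOf 3 E)).2 fun u hu => hU1 u (hWU (mem_inf.1 hu).1) hu,
        (Subgroup.eq_bot_iff_forall (zOf 3 F)).2 fun u hu => hU1F u (hWU' (mem_inf.1 hu).1) hu]
    · have hlF : ¬ qOf 3 F = wOf 3 F := fun h => hlE (hlinF.2 h)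
      rw [← ((tiny3_top hE hEs h8E).resolve_left hlE).1, ← ((tiny3_top hF hFs h8F).resolve_left hlF).1, hQ]
  have hcenE : ∀ u ∈ zOf 3 E, ∀ e ∈ E, Commute e u := fun u hu e he => mem_centralizer_iff.1 (mem_inf.1 hu).2 e he
  have hcenF : ∀ u ∈ zOf 3 E, ∀ x ∈ F, Commute x u := fun u hu x hx =>
    mem_centralizer_iff.1 (mem_inf.1 (hZ ▸ hu)).2 x hx
  have hRE := commutator_core hE hEs
  have hRF := commutator_core hF hFs
  have hRn : R.Normal := inferInstance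
  -- elements of `F` act on the module like elements of `E`
  have hmatch : ∀ x : ↥F, ρ' x * ρ' x = -1 → ∃ e : ↥E, ∀ u ∈ wOf 3 E,
      Commute ((e : G)⁻¹ * (x : G)) u := by
    intro x hx
    have hxW : ∀ u ∈ wOf 3 E, (x : G) * u * (x : G)⁻¹ ∈ wOf 3 E := by
      intro u hu
      rw [hW] at hu ⊢
      exact (mem_normalizer_iff.1 (hFW x.2) u).1 hu
    obtain ⟨A, hA⟩ := exists_matrix ψ hψs hψ hxW fun u hu => by
      rw [(hcenF u hu x x.2).eq, mul_inv_cancel_right]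
      exact hu
    have hAA : A * A = -1 := by
      refine Matrix.ext_iff_mulVec.mpr fun v => ?_
      obtain ⟨u, hu⟩ := hψs (Multiplicative.ofAdd v)
      have h1 := hA u u.2
      have h2 := hA ((x : G) * u * (x : G)⁻¹) (hxW u u.2)
      rw [h1, show (⟨(u : G), u.2⟩ : ↥(wOf 3 E)) = u from rfl, hu] at h2
      have h3 := hzmod ρ' ψ' hψ' hact' (x * x) (by rw [map_mul]; exact hx) u (hW ▸ u.2)
      rw [← hZ] at h3
      have h4 := (hψ (⟨_, hxW _ (hxW u u.2)⟩ * u)).2 (by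
        show (x : G) * ((x : G) * u * (x : G)⁻¹) * (x : G)⁻¹ * u ∈ zOf 3 E
        simpa [mul_assoc] using h3)
      have h5 := congrArg Multiplicative.toAdd h4
      rw [map_mul, toAdd_mul, h2, hu, toAdd_one] at h5
      rw [Matrix.neg_mulVec, Matrix.one_mulVec, ← Matrix.mulVec_mulVec]
      exact eq_neg_of_add_eq_zero_left h5
    have hdet := (q8_of_sq A hAA).1
    obtain ⟨e, he⟩ := hsurj ⟨A, hdet⟩ (q8_pow _ hAA)
    refine ⟨e, fun u hu => ?_⟩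
    -- it suffices to look at `[W, E]`
    have hW1c : ∀ v ∈ w1Of 3 E, Commute ((e : G)⁻¹ * (x : G)) v := by
      intro v hv
      obtain ⟨w, hw1, hw2⟩ := hact e ⟨v, hW1 hv⟩
      have h1 := hA v (hW1 hv)
      rw [he] at hw2
      have h2 : ψ ⟨(x : G) * v * (x : G)⁻¹, hxW v (hW1 hv)⟩ = ψ w :=
        Multiplicative.toAdd.injective (h1.trans hw2.symm)
      rw [← mul_inv_eq_one, ← map_inv, ← map_mul, hψ] at h2
      simp only [Subgroup.coe_mul, Subgroup.coe_inv, hw1] at h2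
      have h3 : (x : G) * v * (x : G)⁻¹ * ((e : G) * v * (e : G)⁻¹)⁻¹ ∈ w1Of 3 E := by
        refine mul_mem ?_ (inv_mem ?_)
        · rw [hU] at hv ⊢
          exact (mem_normalizer_iff.1 (normalizer_commutator_ge_right _ _ x.2) v).1 hv
        · exact (mem_normalizer_iff.1 (normalizer_commutator_ge_right _ _ e.2) v).1 hv
      have h4 : (x : G) * v * (x : G)⁻¹ = (e : G) * v * (e : G)⁻¹ := mul_inv_eq_one.1 (hU1 _ h3 h2)
      show (e : G)⁻¹ * x * v = v * ((e : G)⁻¹ * x)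
      calc (e : G)⁻¹ * x * v = (e : G)⁻¹ * ((x : G) * v * (x : G)⁻¹) * x := by group
        _ = v * ((e : G)⁻¹ * x) := by rw [h4]; group
    have hle : w1Of 3 E ⊔ zOf 3 E ≤ centralizer ({(e : G)⁻¹ * (x : G)} : Set G) := by
      refine sup_le (fun v hv => ?_) fun v hv => ?_
      · exact mem_centralizer_iff.2 fun y hy => by rw [Set.mem_singleton_iff.1 hy]; exact (hW1c v hv).eq
      · exact mem_centralizer_iff.2 fun y hy => by
          rw [Set.mem_singleton_iff.1 hy]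
          exact (((hcenE v hv e e.2).inv_left).mul_left (hcenF v hv x x.2)).eq
    rw [(wOf_eq_sup hE).1] at hle
    exact mem_centralizer_iff.1 (hle hu) _ rfl
  by_contra hnot
  obtain ⟨x, hx, hxk⟩ : ∃ x : ↥F, ρ' x * ρ' x = -1 ∧ π (x : G) ∉ bar 3 E := by
    by_contra hno
    push Not at hno
    refine hnot ?_
    rintro _ ⟨x, hx, rfl⟩
    rcases q8_cases _ (h8' ⟨x, hx⟩) with h | h | h
    · rw [show QuotientGroup.mk' (Cfsg.pCore 3 G) x = 1 from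
        (QuotientGroup.eq_one_iff x).mpr (qOf_le_core hFs ((hker' _).1 h))]
      exact one_mem _
    · have h1 : x * z⁻¹ ∈ qOf 3 F := (hker' (⟨x, hx⟩ * ⟨z, hzF⟩⁻¹)).1 (by
        rw [map_mul, map_inv, h, hρz', mul_inv_cancel])
      have h2 : π x = π z := by
        rw [← mul_inv_eq_one, ← map_inv, ← map_mul]
        exact (QuotientGroup.eq_one_iff _).mpr (qOf_le_core hFs h1)
      rw [h2]
      exact ⟨z, hzE, rfl⟩
    · exact hno ⟨x, hx⟩ h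
  obtain ⟨e, he⟩ := hmatch x hx
  set k := (e : G)⁻¹ * (x : G) with hk
  have hkR : k ∉ R := fun h => hxk ⟨(e : G), e.2, (QuotientGroup.eq.2 h)⟩
  have hkO : π k ∈ Cfsg.pCore 2 (G ⧸ R) := by
    rw [hk, map_mul]
    exact mul_mem (hO2E ⟨_, inv_mem e.2, rfl⟩) (hO2F ⟨_, x.2, rfl⟩)
  have hQR : qOf 3 E ≤ R := qOf_le_core hEs
  have hxQn : (x : G) ∈ normalizer (qOf 3 E : Set G) := hQ ▸ normal_qOf F x.2
  have hkQn : k ∈ normalizer (qOf 3 E : Set G) := mul_mem (normal_qOf E (inv_mem e.2)) hxQn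
  have hkn : k ∈ normalizer (E : Set G) := mul_mem (le_normalizer (inv_mem e.2)) (hFE x.2)
  have hst : ∀ w ∈ R, ⁅k, w⁆ ∈ qOf 3 E := by
    intro w hw
    have h1 : ⁅(e : G)⁻¹, w⁆ ∈ qOf 3 E := hRE ▸ commutator_mem_commutator (inv_mem e.2) hw
    have h2 : ⁅(x : G), w⁆ ∈ qOf 3 E := by rw [hQ, ← hRF]; exact commutator_mem_commutator x.2 hw
    rw [show ⁅k, w⁆ = (e : G)⁻¹ * ⁅(x : G), w⁆ * ((e : G)⁻¹)⁻¹ * ⁅(e : G)⁻¹, w⁆ by
      simp only [hk, commutatorElement_def]; group]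
    exact mul_mem ((mem_normalizer_iff.1 (normal_qOf E (inv_mem e.2)) _).1 h2) h1
  by_cases hlin : qOf 3 E = wOf 3 E
  · obtain ⟨i, hi⟩ := pow_eq_one_of_stab hG hQR (bot_le (a := qOf 3 E)) hst
      (fun w hw => Subgroup.mem_bot.2 (commutatorElement_eq_one_iff_mul_comm.2 (he w (hlin ▸ hw)).eq))
      (fun w hw => by rw [Subgroup.mem_bot.1 hw]; exact Commute.one_right k)
    exact hkR (mem_core_of hi hkO)
  obtain ⟨h5, ⟨ρ₂, φ, hφs, hφ, hφact, hk2, -, hsurj2⟩, b, hb, ⟨j, hbj⟩, hquad⟩ :=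
    (tiny3_top hE hEs h8E).resolve_left hlin
  have hQc : ∀ a ∈ qOf 3 E, ∀ c ∈ qOf 3 E, ⁅a, c⁆ ∈ wOf 3 E := fun a ha c hc => by
    have h : ⁅a, c⁆ ∈ ⁅qOf 3 E, qOf 3 E⁆ := commutator_mem_commutator ha hc
    rw [h5] at h
    exact (mem_inf.1 h).1
  have hkW : ∀ u ∈ wOf 3 E, k * u * k⁻¹ = u := fun u hu => by rw [(he u hu).eq, mul_inv_cancel_right]
  have hkQ : ∀ q ∈ qOf 3 E, k * q * k⁻¹ ∈ qOf 3 E := fun q hq => (mem_normalizer_iff.1 hkQn q).1 hq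
  obtain ⟨A, hA⟩ := exists_matrix φ hφs hφ hkQ fun u hu => by rw [hkW u hu]; exact hu
  have hcl : ∀ y : SL(2, ZMod 3), y ^ 8 = 1 → A * (y : Matrix _ _ _) = (y : Matrix _ _ _) * A := by
    intro y hy
    obtain ⟨d, rfl⟩ := hsurj2 y hy
    refine Matrix.ext_iff_mulVec.mpr fun v => ?_
    obtain ⟨u, hu⟩ := hφs (Multiplicative.ofAdd v)
    obtain ⟨w, hw1, hw2⟩ := hφact d u
    obtain ⟨w', hw1', hw2'⟩ := hφact d ⟨k * u * k⁻¹, hkQ u u.2⟩
    have hs : k * (d : G) * k⁻¹ * (d : G)⁻¹ ∈ qOf 3 E := by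
      have hm : k * (d : G) * k⁻¹ * (d : G)⁻¹ ∈ E :=
        mul_mem ((mem_normalizer_iff.1 hkn _).1 d.2) (inv_mem d.2)
      refine mem_qOf_of_commute hE hm fun v hv => ?_
      have hdv : (d : G)⁻¹ * v * (d : G) ∈ wOf 3 E := by
        have := (mem_normalizer_iff.1 (hEW (inv_mem d.2)) v).1 (hW1 hv)
        simpa using this
      show k * (d : G) * k⁻¹ * (d : G)⁻¹ * v = v * (k * (d : G) * k⁻¹ * (d : G)⁻¹)
      calc k * (d : G) * k⁻¹ * (d : G)⁻¹ * v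
          = k * (d : G) * (k⁻¹ * ((d : G)⁻¹ * v * (d : G))) * (d : G)⁻¹ := by group
        _ = k * (d : G) * (((d : G)⁻¹ * v * (d : G)) * k⁻¹) * (d : G)⁻¹ := by rw [((he _ hdv).inv_left).eq]
        _ = (k * v) * (d : G) * k⁻¹ * (d : G)⁻¹ := by group
        _ = (v * k) * (d : G) * k⁻¹ * (d : G)⁻¹ := by rw [(he v (hW1 hv)).eq]
        _ = v * (k * (d : G) * k⁻¹ * (d : G)⁻¹) := by group
    have h1 : φ ⟨k * w * k⁻¹, hkQ w w.2⟩ = φ w' := by
      rw [← mul_inv_eq_one, ← map_inv, ← map_mul, hφ]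
      simp only [Subgroup.coe_mul, Subgroup.coe_inv, hw1', hw1]
      set s := k * (d : G) * k⁻¹ * (d : G)⁻¹ with hs'
      have e2 : k * ((d : G) * (u : G) * (d : G)⁻¹) * k⁻¹ * ((d : G) * (k * (u : G) * k⁻¹) * (d : G)⁻¹)⁻¹ =
          ⁅s, (d : G) * (k * (u : G) * k⁻¹) * (d : G)⁻¹⁆ := by
        rw [hs', commutatorElement_def]; group
      rw [e2]
      exact hQc _ hs _ ((mem_normalizer_iff.1 (normal_qOf E d.2) _).1 (hkQ u u.2))
    have h2 := hA w w.2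
    rw [h1, hw2', hA u u.2] at h2
    rw [show (⟨(w : G), w.2⟩ : ↥(qOf 3 E)) = w from rfl, hw2,
      show (⟨(u : G), u.2⟩ : ↥(qOf 3 E)) = u from rfl, hu] at h2
    show (A * _) *ᵥ v = (_ * A) *ᵥ v
    rw [← Matrix.mulVec_mulVec, ← Matrix.mulVec_mulVec]
    exact h2.symm
  obtain ⟨c, rfl⟩ := q8_scalar A hcl
  have hcv : ∀ q (hq : q ∈ qOf 3 E), φ ⟨k * q * k⁻¹, hkQ q hq⟩ =
      Multiplicative.ofAdd (c • Multiplicative.toAdd (φ ⟨q, hq⟩)) := fun q hq => by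
    apply Multiplicative.toAdd.injective
    rw [hA q hq, Matrix.smul_mulVec, Matrix.one_mulVec]
    rfl
  obtain rfl : c = -1 := by
    rcases zmod3_cases c with rfl | rfl | rfl
    · exfalso
      have hQW : qOf 3 E ≤ wOf 3 E := fun q hq => by
        have h := hcv q hq
        rw [zero_smul] at h
        have h1 := (hφ _).1 (h.trans rfl)
        have h2 := hkW _ h1
        have : k * q * k⁻¹ = q := by
          have h3 : k * (k * q * k⁻¹) * k⁻¹ = k * q * k⁻¹ := h2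
          calc k * q * k⁻¹ = k⁻¹ * (k * (k * q * k⁻¹) * k⁻¹) * k := by group
            _ = k⁻¹ * (k * q * k⁻¹) * k := by rw [h3]
            _ = q := by group
        exact this ▸ h1
      exact hlin (le_antisymm hQW hWQ)
    · exfalso
      obtain ⟨i, hi⟩ := pow_eq_one_of_stab hG hQR hWQ hst
        (fun w hw => by
          have h := hcv w hw
          rw [one_smul] at h
          have h1 := (hφ (⟨k * w * k⁻¹, hkQ w hw⟩ * ⟨w, hw⟩⁻¹)).1 (by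
            rw [map_mul, map_inv, h]; exact mul_inv_cancel _)
          simpa [commutatorElement_def] using h1)
        (fun w hw => he w hw)
      exact hkR (mem_core_of hi hkO)
    · rfl
  have hkinv : ∀ q ∈ qOf 3 E, k * q * k⁻¹ * q ∈ wOf 3 E := fun q hq => by
    refine (hφ (⟨k * q * k⁻¹, hkQ q hq⟩ * ⟨q, hq⟩)).1 ?_
    apply Multiplicative.toAdd.injective
    rw [map_mul, toAdd_mul, hcv q hq, toAdd_one]
    simp
  exact k_false hG hE hEs rfl rfl rfl h5 ψ hψs hψ φ hφs hφ hb hbj hquad hst hkinv he hkO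

end Cfsg.Lib.BlockPair
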