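/-
Subnormal blocks commuting modulo `O_p(G)` commute or are equal.
-/
import Cfsg.Agent.BlockPair.QuatPair
import Cfsg.Agent.BlockPair.Normalize

set_option autoImplicit false

namespace Cfsg.Lib.BlockPair

set_option linter.style.haveILetI false
set_option linter.unusedSectionVars false

open Subgroup Matrix
open scoped commutatorElement MatrixGroups

universe u

variable {G : Type u} [Group G] [Finite G] {p : ℕ} [hp : Fact p.Prime] {E F : Subgroup G}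

theorem w1_le_wOf (hE : IsBlk p E) : w1Of p E ≤ wOf p E :=
  le_normalizer_iff_commutator_le_left.mp (irr_module hE).2.2.1

theorem conj_w1_self (hE : IsBlk p E) {g : G} (hg : g ∈ normalizer (E : Set G)) {u : G} (hu : u ∈ w1Of p E) :
    g * u * g⁻¹ ∈ w1Of p E := by
  have := conj_w1 (g := g) hE hu
  rwa [(cj_eq_iff g E).2 hg] at this

theorem conj_zOf {g : G} (hg : g ∈ normalizer (E : Set G)) {u : G} (hu : u ∈ zOf p E) :
    g * u * g⁻¹ ∈ zOf p E := by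
  have hEg : E.map (MulAut.conj g).toMonoidHom = E := mem_normalizer_iff_map_conj_eq.1 hg
  have h : (zOf p E).map (MulAut.conj g).toMonoidHom = zOf p E := by
    rw [Subgroup.map_inf _ _ _ (MulAut.conj g).injective, Cfsg.Lib.ZJ.map_centralizer_equiv, hEg,
      map_omegaOneCenter, map_pCoreOf, hEg]
  rw [← h]
  exact ⟨u, hu, rfl⟩

theorem conj_wOf {g : G} (hg : g ∈ normalizer (E : Set G)) {u : G} (hu : u ∈ wOf p E) :
    g * u * g⁻¹ ∈ wOf p E := by
  have hEg : E.map (MulAut.conj g).toMonoidHom = E := mem_normalizer_iff_map_conj_eq.1 hg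
  have h : (wOf p E).map (MulAut.conj g).toMonoidHom = wOf p E := by
    rw [map_omegaOneCenter, map_pCoreOf, hEg]
  rw [← h]
  exact ⟨u, hu, rfl⟩

theorem w1_normalizer_zOf (hE : IsBlk p E) {A : Subgroup G} (hA : A ≤ wOf p E) :
    A ≤ normalizer (zOf p E : Set G) := by
  intro w hw
  rw [mem_normalizer_iff]
  intro z
  constructor
  · intro hz
    rwa [(wOf_comm E (hA hw) (mem_inf.1 hz).1).eq, mul_inv_cancel_right]
  · intro hz
    have hzW : z ∈ wOf p E := by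
      have := mul_mem (mul_mem (inv_mem (hA hw)) (mem_inf.1 hz).1) (hA hw)
      simpa [mul_assoc] using this
    rwa [(wOf_comm E (hA hw) hzW).eq, mul_inv_cancel_right] at hz

/-- commutators with `E` do not see the centre part -/
theorem sup_zOf_le (hE : IsBlk p E) {A B : Subgroup G} (hA : A ≤ wOf p E) (hB : ∀ a ∈ A, ∀ e ∈ E, ⁅a, e⁆ ∈ B) :
    ⁅A ⊔ zOf p E, E⁆ ≤ B := by
  rw [commutator_le]
  intro x hx e he
  rw [← SetLike.mem_coe, coe_mul_of_left_le_normalizer_right _ _ (w1_normalizer_zOf hE hA)] at hx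
  obtain ⟨a, ha, z, hz, rfl⟩ := Set.mem_mul.1 hx
  have h : ⁅a * z, e⁆ = ⁅a, e⁆ := by
    have hc := mem_centralizer_iff.1 (mem_inf.1 hz).2 e he
    simp only [commutatorElement_def]
    calc a * z * e * (a * z)⁻¹ * e⁻¹ = a * (z * e) * (z⁻¹ * a⁻¹) * e⁻¹ := by group
      _ = a * (e * z) * (z⁻¹ * a⁻¹) * e⁻¹ := by rw [hc]
      _ = a * e * a⁻¹ * e⁻¹ := by group
  rw [h]
  exact hB a ha e he

/-- `E` acts irreducibly on `[W, E]` -/
theorem irr_w1 (hE : IsBlk p E) : Irr p E (w1Of p E) (w1Of p E ⊓ zOf p E) := by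
  obtain ⟨hZW, hne, hEW, hEZ, hirr, hfaith⟩ := irr_module hE
  have hW1 := w1_le_wOf hE
  have hU : ¬ w1Of p E ≤ zOf p E := fun h => hne (le_antisymm
    ((wOf_eq_sup hE).1 ▸ sup_le h le_rfl) hZW)
  refine ⟨inf_le_left, fun h => hU (h.le.trans inf_le_right), normalizer_commutator_ge_right _ _, ?_,
    fun M hUM hMU hinv => ?_, fun x hx hxu => hfaith x hx fun u hu => ?_⟩
  · intro e he
    rw [mem_normalizer_iff]
    intro y
    rw [mem_inf, mem_inf]
    exact and_congr (mem_normalizer_iff.1 (normalizer_commutator_ge_right (wOf p E) E he) y)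
      (mem_normalizer_iff.1 (hEZ he) y)
  · have hI : ∀ e ∈ E, ∀ u ∈ M ⊔ zOf p E, e * u * e⁻¹ ∈ M ⊔ zOf p E := by
      intro e he
      have h : M ⊔ zOf p E ≤ (M ⊔ zOf p E).comap (MulAut.conj e).toMonoidHom := by
        refine sup_le (fun a ha => ?_) fun z hz => ?_
        · show e * a * e⁻¹ ∈ M ⊔ zOf p E
          exact mem_sup_left (hinv e he a ha)
        · show e * z * e⁻¹ ∈ M ⊔ zOf p E
          exact mem_sup_right ((mem_normalizer_iff.1 (hEZ he) z).1 hz)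
      exact fun u hu => h hu
    rcases hirr (M ⊔ zOf p E) le_sup_right (sup_le (hMU.trans hW1) hZW) hI with h | h
    · exact Or.inl (le_antisymm (le_inf hMU (le_sup_left.trans h.le)) hUM)
    · right
      refine le_antisymm hMU ?_
      show ⁅wOf p E, E⁆ ≤ M
      rw [← h]
      refine sup_zOf_le hE (hMU.trans hW1) fun a ha e he => ?_
      rw [commutatorElement_def, show a * e * a⁻¹ * e⁻¹ = a * (e * a * e⁻¹)⁻¹ by group]
      exact mul_mem ha (inv_mem (hinv e he a ha))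
  · rw [← (wOf_eq_sup hE).1, ← SetLike.mem_coe,
      coe_mul_of_left_le_normalizer_right _ _ (w1_normalizer_zOf hE hW1)] at hu
    obtain ⟨a, ha, z, hz, rfl⟩ := Set.mem_mul.1 hu
    have hc := mem_centralizer_iff.1 (mem_inf.1 hz).2 x hx
    have h : ⁅a * z, x⁆ = ⁅a, x⁆ := by
      simp only [commutatorElement_def]
      calc a * z * x * (a * z)⁻¹ * x⁻¹ = a * (z * x) * (z⁻¹ * a⁻¹) * x⁻¹ := by group
        _ = a * (x * z) * (z⁻¹ * a⁻¹) * x⁻¹ := by rw [hc]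
        _ = a * x * a⁻¹ * x⁻¹ := by group
    rw [h]
    exact (mem_inf.1 (hxu a ha)).2

/-- the top section seen inside a supplement of `W` -/
theorem irr_restrict {Q W D : Subgroup G} (h : Irr p E Q W) (hQ : D ⊔ W = Q) (hED : E ≤ normalizer (D : Set G))
    (hDW : D ≤ normalizer (W : Set G)) : Irr p E D (D ⊓ W) := by
  obtain ⟨hWQ, hne, hEQ, hEW, hirr, hfaith⟩ := h
  refine ⟨inf_le_left, fun e => hne ?_, hED, ?_, fun M hCM hMD hinv => ?_, fun x hx hxu => hfaith x hx fun u hu => ?_⟩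
  · rw [← hQ, sup_eq_right.2 (e.le.trans inf_le_right)]
  · intro e he
    rw [mem_normalizer_iff]
    intro y
    rw [mem_inf, mem_inf]
    exact and_congr (mem_normalizer_iff.1 (hED he) y) (mem_normalizer_iff.1 (hEW he) y)
  · have hI : ∀ e ∈ E, ∀ u ∈ M ⊔ W, e * u * e⁻¹ ∈ M ⊔ W := by
      intro e he
      have h : M ⊔ W ≤ (M ⊔ W).comap (MulAut.conj e).toMonoidHom := by
        refine sup_le (fun a ha => ?_) fun z hz => ?_
        · show e * a * e⁻¹ ∈ M ⊔ W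
          exact mem_sup_left (hinv e he a ha)
        · show e * z * e⁻¹ ∈ M ⊔ W
          exact mem_sup_right ((mem_normalizer_iff.1 (hEW he) z).1 hz)
      exact fun u hu => h hu
    rcases hirr (M ⊔ W) le_sup_right (hQ ▸ sup_le_sup_right hMD _) hI with h | h
    · exact Or.inl (le_antisymm (le_inf hMD (le_sup_left.trans h.le)) hCM)
    · right
      refine le_antisymm hMD fun x hx => ?_
      have hx' : x ∈ M ⊔ W := h ▸ hQ ▸ mem_sup_left hx
      rw [← SetLike.mem_coe, coe_mul_of_left_le_normalizer_right _ _ (hMD.trans hDW)] at hx'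
      obtain ⟨m, hm, w, hw, rfl⟩ := Set.mem_mul.1 hx'
      have : w ∈ D := by
        have := mul_mem (inv_mem (hMD hm)) hx
        rwa [inv_mul_cancel_left] at this
      exact mul_mem hm (hCM ⟨this, hw⟩)
  · rw [← hQ, ← SetLike.mem_coe, coe_mul_of_left_le_normalizer_right _ _ hDW] at hu
    obtain ⟨d, hd, w, hw, rfl⟩ := Set.mem_mul.1 hu
    have h : ⁅d * w, x⁆ = d * ⁅w, x⁆ * d⁻¹ * ⁅d, x⁆ := by simp only [commutatorElement_def]; group
    rw [h]
    refine mul_mem ((mem_normalizer_iff.1 (hDW hd) _).1 ?_) (mem_inf.1 (hxu d hd)).2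
    rw [commutatorElement_def, show w * x * w⁻¹ * x⁻¹ = w * (x * w * x⁻¹)⁻¹ by group]
    exact mul_mem hw (inv_mem ((mem_normalizer_iff.1 (hEW hx) w).1 hw))

/-- two commuting quaternion blocks do not share a section -/
theorem two_quat [Fact (Nat.Prime 3)] {U U₀ A A₀ B B₀ : Subgroup G}
    (hUA : U ≤ A) (hUA₀ : U₀ = U ⊓ A₀) (hAU : A ≤ U ⊔ A₀) (hUn : U ≤ normalizer (A₀ : Set G))
    (hUB : U ≤ B) (hUB₀ : U₀ = U ⊓ B₀)
    (ρ : ↥E →* SL(2, ZMod 3)) (ψ : ↥A →* Multiplicative (Fin 2 → ZMod 3))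
    (hψs : Function.Surjective ψ) (hψ : ∀ u : ↥A, ψ u = 1 ↔ (u : G) ∈ A₀)
    (hact : ∀ (e : ↥E) (u : ↥A), ∃ w : ↥A, (w : G) = (e : G) * (u : G) * (e : G)⁻¹ ∧
      Multiplicative.toAdd (ψ w) = ((ρ e : SL(2, ZMod 3)) : Matrix (Fin 2) (Fin 2) (ZMod 3)).mulVec
        (Multiplicative.toAdd (ψ u)))
    (hsurj : ∀ y : SL(2, ZMod 3), y ^ 8 = 1 → ∃ x, ρ x = y)
    (ρ' : ↥F →* SL(2, ZMod 3)) (φ : ↥B →* Multiplicative (Fin 2 → ZMod 3))
    (hφ : ∀ u : ↥B, φ u = 1 ↔ (u : G) ∈ B₀)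
    (hact' : ∀ (e : ↥F) (u : ↥B), ∃ w : ↥B, (w : G) = (e : G) * (u : G) * (e : G)⁻¹ ∧
      Multiplicative.toAdd (φ w) = ((ρ' e : SL(2, ZMod 3)) : Matrix (Fin 2) (Fin 2) (ZMod 3)).mulVec
        (Multiplicative.toAdd (φ u)))
    (hsurj' : ∀ y : SL(2, ZMod 3), y ^ 8 = 1 → ∃ x, ρ' x = y)
    (hEU : E ≤ normalizer (U : Set G)) (hFU : F ≤ normalizer (U : Set G)) (hFU₀ : F ≤ normalizer (U₀ : Set G))
    (hcomm : ∀ e ∈ E, ∀ f ∈ F, ∀ u ∈ U, e * (f * u * f⁻¹) * e⁻¹ * (f * (e * u * e⁻¹) * f⁻¹)⁻¹ ∈ U₀) :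
    False := by
  obtain ⟨j, hj1, hj2⟩ : ∃ j : SL(2, ZMod 3), j ^ 8 = 1 ∧ j * j = -1 := q8_exists'
  obtain ⟨f, hf⟩ := hsurj' j hj1
  let χ : ↥U →* Multiplicative (Fin 2 → ZMod 3) := ψ.comp (Subgroup.inclusion hUA)
  have hχ : ∀ u : ↥U, χ u = 1 ↔ (u : G) ∈ U₀ := fun u => by
    rw [hUA₀, mem_inf, and_iff_right u.2]
    exact hψ _
  have hχs : Function.Surjective χ := by
    intro v
    obtain ⟨⟨a, ha⟩, rfl⟩ := hψs v
    have ha' := hAU ha
    rw [← SetLike.mem_coe, coe_mul_of_left_le_normalizer_right _ _ hUn] at ha'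
    obtain ⟨u, hu, z, hz, hua⟩ := Set.mem_mul.1 ha'
    have hzA : z ∈ A := by
      have := mul_mem (inv_mem (hUA hu)) ha
      rwa [← hua, inv_mul_cancel_left] at this
    refine ⟨⟨u, hu⟩, ?_⟩
    show ψ ⟨u, hUA hu⟩ = ψ ⟨a, ha⟩
    rw [show (⟨a, ha⟩ : ↥A) = ⟨u, hUA hu⟩ * ⟨z, hzA⟩ from Subtype.ext hua.symm, map_mul,
      (hψ ⟨z, hzA⟩).2 hz, mul_one]
  refine no_common_section ρ χ hχs hχ (fun e u => ?_) hsurj (f := (f : G))
    (fun u hu => (mem_normalizer_iff.1 (hFU f.2) u).1 hu) (fun u hu => (mem_normalizer_iff.1 (hFU₀ f.2) u).1 hu)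
    (fun e he u hu => hcomm e he f f.2 u hu) fun u hu => ?_
  · obtain ⟨w, hw1, hw2⟩ := hact e ⟨u, hUA u.2⟩
    have hw : (w : G) ∈ U := hw1 ▸ (mem_normalizer_iff.1 (hEU e.2) u).1 u.2
    exact ⟨⟨w, hw⟩, hw1, hw2⟩
  · obtain ⟨w, hw1, hw2⟩ := hact' (f * f) ⟨u, hUB hu⟩
    rw [hUB₀]
    refine mem_inf.2 ⟨mul_mem ((mem_normalizer_iff.1 (hFU (mul_mem f.2 f.2)) u).1 hu) hu, ?_⟩
    have h := (hφ (w * ⟨u, hUB hu⟩)).1 (by
      apply Multiplicative.toAdd.injective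
      rw [map_mul, toAdd_mul, hw2, map_mul ρ', hf, hj2, q8_neg_smul, toAdd_one, neg_add_cancel])
    rwa [Subgroup.coe_mul, hw1] at h

end Cfsg.Lib.BlockPair
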