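/-
Subnormal blocks are equal, commute, or normalize each other.
-/
import Cfsg.Agent.BlockPair.Normalize

set_option autoImplicit false

namespace Cfsg.Lib.BlockPair

set_option linter.style.haveILetI false
set_option linter.unusedSectionVars false

open Subgroup Matrix
open scoped commutatorElement MatrixGroups

universe u

variable {G : Type u} [Group G] [Finite G] {p : ℕ} [hp : Fact p.Prime] {E F : Subgroup G}

theorem pow_card_bar [(Cfsg.pCore p G).Normal] {f : G} (hf : f ∈ F) :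
    f ^ Nat.card ↥(bar p F) ∈ Cfsg.pCore p G := by
  have := pow_card_eq_one' (G := ↥(bar p F)) (x := ⟨QuotientGroup.mk' (Cfsg.pCore p G) f, ⟨f, hf, rfl⟩⟩)
  exact (QuotientGroup.eq_one_iff _).mp (congrArg Subtype.val this)

theorem q8_exists : ∃ j : SL(2, ZMod 3), j ^ 8 = 1 ∧ j * j = -1 := by decide

theorem q8_neg_sq : (-1 : SL(2, ZMod 3)) * -1 = 1 := by decide

theorem q8_fixed : ∀ v : Fin 2 → ZMod 3,
    v = ((-1 : SL(2, ZMod 3)) : Matrix (Fin 2) (Fin 2) (ZMod 3)) *ᵥ v → v = 0 := by decide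

/-- blocks with a quotient of order three do not permute blocks -/
theorem no_move_two (hG : centralizer (Cfsg.pCore 2 G : Set G) ≤ Cfsg.pCore 2 G) [Fact (Nat.Prime 2)]
    [(Cfsg.pCore 2 G).Normal] (hE : IsBlk 2 E) (hEs : E.IsSubnormal) (hF : IsBlk 2 F) (hFs : F.IsSubnormal)
    (h3E : Nat.card ↥(bar 2 E) = 3) (h3F : Nat.card ↥(bar 2 F) = 3) {f : G} (hf : f ∈ F)
    (hne : cj f E ≠ E) (hcomm : ∀ a ∈ F, ∀ b ∈ F, cj a E ≠ cj b E → ⁅cj a E, cj b E⁆ = ⊥) : False := by
  have h3 : f ^ 3 ∈ normalizer (E : Set G) := core_le_normalizer hE (h3F ▸ pow_card_bar hf)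
  have hE1 : cj (1 : G) E = E := (cj_eq_iff _ _).2 (one_mem _)
  have hne2 : cj (f * f) E ≠ E := by
    intro h
    rw [cj_eq_iff] at h
    apply hne
    rw [cj_eq_iff]
    have : f = (f * f)⁻¹ * f ^ 3 := by group
    rw [this]
    exact mul_mem (inv_mem h) h3
  have hne3 : cj f E ≠ cj (f * f) E := by
    intro h
    apply hne
    rw [← cj_mul] at h
    exact (Subgroup.map_injective (MulAut.conj f).injective h).symm
  have c1 : ⁅E, cj f E⁆ = ⊥ := by simpa [hE1] using hcomm 1 (one_mem F) f hf (by rw [hE1]; exact hne.symm)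
  have c2 : ⁅E, cj (f * f) E⁆ = ⊥ := by
    simpa [hE1] using hcomm 1 (one_mem F) (f * f) (mul_mem hf hf) (by rw [hE1]; exact hne2.symm)
  have c3 : ⁅cj f E, cj (f * f) E⁆ = ⊥ := hcomm f hf (f * f) (mul_mem hf hf) hne3
  have hE' := hE.conj f
  have h16 := count hG hE hE' hF hFs hf (n := 3) (by norm_num) (h3F ▸ pow_card_bar hf) (by
    intro u hu v hv hc
    have huZ : u ∈ zOf 2 E := by
      refine mem_zOf_of_fixed hE hu fun e he => ?_
      have h0 : u = ((f * u * f⁻¹) * (f * v * f⁻¹)) * v⁻¹ := by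
        rw [show (f * u * f⁻¹) * (f * v * f⁻¹) = f * (u * v) * f⁻¹ by group, ← hc.eq, mul_inv_cancel_right,
          mul_inv_cancel_right]
      rw [h0]
      refine Commute.mul_right (Commute.mul_right ?_ ?_) ?_
      · exact commute_w1 hE' c1 he (conj_w1 hE hu)
      · exact commute_w1 (hE.conj (f * f)) c2 he (by have := conj_w1 (g := f) hE' hv; rwa [cj_mul] at this)
      · exact (commute_w1 hE' c1 he hv).inv_right
    exact ⟨huZ, key_snd hE hE' c1 (hE.conj (f * f)) c3 (cj_mul f f E) huZ hu hv hc⟩)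
  rw [tiny2 hE hEs ⟨rfl, h3E⟩, tiny2 hF hFs ⟨rfl, h3F⟩, tiny2 hE' (cj_isSubnormal hEs f) ⟨rfl, ?_⟩] at h16
  · omega
  · rw [← h3E]
    show Nat.card ↥(bar 2 (cj f E)) = _
    have e : bar 2 (cj f E) = (bar 2 E).map (MulAut.conj (QuotientGroup.mk' (Cfsg.pCore 2 G) f)).toMonoidHom := by
      rw [bar, cj, bar, Subgroup.map_map, Subgroup.map_map]
      congr 1
    rw [e, card_map_of_injective (MulAut.conj _).injective]

theorem card_bar_cj [(Cfsg.pCore p G).Normal] (f : G) :
    Nat.card ↥(bar p (cj f E)) = Nat.card ↥(bar p E) := by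
  have e : bar p (cj f E) = (bar p E).map (MulAut.conj (QuotientGroup.mk' (Cfsg.pCore p G) f)).toMonoidHom := by
    rw [bar, cj, bar, Subgroup.map_map, Subgroup.map_map]
    congr 1
  rw [e, card_map_of_injective (MulAut.conj _).injective]

/-- quaternion blocks do not permute blocks -/
theorem no_move_three (hG : centralizer (Cfsg.pCore 3 G : Set G) ≤ Cfsg.pCore 3 G) [Fact (Nat.Prime 3)]
    [(Cfsg.pCore 3 G).Normal] (hE : IsBlk 3 E) (hEs : E.IsSubnormal) (hF : IsBlk 3 F) (hFs : F.IsSubnormal)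
    (h8E : Nat.card ↥(bar 3 E) = 8) (h8F : Nat.card ↥(bar 3 F) = 8) {f₀ : G} (hf₀ : f₀ ∈ F)
    (hne₀ : cj f₀ E ≠ E) (hcomm : ∀ a ∈ F, ∀ b ∈ F, cj a E ≠ cj b E → ⁅cj a E, cj b E⁆ = ⊥) : False := by
  obtain ⟨hFW, h9F, ρ, ψ, hψs, hψ, hact, hker, h8, hsurj⟩ := tiny3 hF hFs h8F
  have hQn : ∀ x : ↥F, (x : G) ∈ qOf 3 F → (x : G) ∈ normalizer (E : Set G) :=
    fun x hx => core_le_normalizer hE (qOf_le_core hFs hx)
  -- a mover of order four
  obtain ⟨f, hf, hne, hsq⟩ : ∃ f : ↥F, (f : G) ∈ F ∧ cj (f : G) E ≠ E ∧ ρ f * ρ f = -1 := by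
    rcases q8_cases (ρ ⟨f₀, hf₀⟩) (h8 _) with h | h | h
    · exact absurd ((cj_eq_iff _ _).2 (hQn ⟨f₀, hf₀⟩ ((hker _).1 h))) hne₀
    · obtain ⟨j, hj1, hj2⟩ := q8_exists
      obtain ⟨x, hx⟩ := hsurj j hj1
      refine ⟨x, x.2, fun hE' => hne₀ ?_, by rw [hx]; exact hj2⟩
      rw [cj_eq_iff] at hE' ⊢
      have h1 : ρ (x * x * ⟨f₀, hf₀⟩⁻¹) = 1 := by
        rw [map_mul, map_mul, map_inv, h, hx, hj2, mul_inv_cancel]
      have := hQn _ ((hker _).1 h1)
      simp only [Subgroup.coe_mul, Subgroup.coe_inv] at this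
      have h2 : (f₀ : G) = ((x : G) * x * f₀⁻¹)⁻¹ * ((x : G) * x) := by group
      rw [h2]
      exact mul_mem (inv_mem this) (mul_mem hE' hE')
    · exact ⟨⟨f₀, hf₀⟩, hf₀, hne₀, h⟩
  set g : G := (f : G) with hg
  have hE1 : cj (1 : G) E = E := (cj_eq_iff _ _).2 (one_mem _)
  have c1 : ⁅E, cj g E⁆ = ⊥ := by simpa [hE1] using hcomm 1 (one_mem F) g hf (by rw [hE1]; exact hne.symm)
  have hne3 : cj g E ≠ cj (g * g) E := by
    intro h
    apply hne
    rw [← cj_mul] at h
    exact (Subgroup.map_injective (MulAut.conj g).injective h).symm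
  have c3 : ⁅cj g E, cj (g * g) E⁆ = ⊥ := hcomm g hf (g * g) (mul_mem hf hf) hne3
  have hE' := hE.conj g
  -- elements of the module fixed by the involution
  have hinv : ∀ y ∈ vOf 3 G, (g * g) * y * (g * g)⁻¹ = y → Commute y g := by
    intro y hy hfix
    have hcW : ⁅y, g⁆ ∈ w1Of 3 F := commutator_vOf hG hF hFs ▸ commutator_mem_commutator hy hf
    have hW : ⁅y, g⁆ ∈ wOf 3 F := le_normalizer_iff_commutator_le_left.mp hFW hcW
    have hfix2 : (g * g) * ⁅y, g⁆ * (g * g)⁻¹ = ⁅y, g⁆ := by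
      conv_rhs => rw [← hfix]
      simp only [commutatorElement_def]
      group
    have hz : ⁅y, g⁆ ∈ zOf 3 F := by
      obtain ⟨w, hw1, hw2⟩ := hact (f * f) ⟨_, hW⟩
      have hwe : w = ⟨_, hW⟩ := Subtype.ext (hw1.trans hfix2)
      rw [hwe, map_mul, hsq] at hw2
      have h1 := q8_fixed
      exact (hψ ⟨_, hW⟩).1 (Multiplicative.toAdd.injective (h1 _ hw2))
    exact commutatorElement_eq_one_iff_mul_comm.1 (comm_eq_one hy (n := 8) (by norm_num)
      (h8F ▸ pow_card_bar hf) (mem_centralizer_iff.1 (mem_inf.1 hz).2 g hf).symm)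
  have h81 := count hG hE hE' hF hFs hf (n := 8) (by norm_num) (h8F ▸ pow_card_bar hf) (by
    intro u hu v hv hc
    have hfu : (g * u * g⁻¹) * (g * v * g⁻¹) = u * v := by
      rw [show (g * u * g⁻¹) * (g * v * g⁻¹) = g * (u * v) * g⁻¹ by group, ← hc.eq, mul_inv_cancel_right]
    have huZ : u ∈ zOf 3 E := by
      by_cases hne2 : cj (g * g) E = E
      · -- the involution fixes `E`
        have huV := w1_le_vOf hG hE hu
        have hvV := w1_le_vOf hG hE' hv
        set θu := g * u * g⁻¹ with hθu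
        set θv := g * v * g⁻¹ with hθv
        set u2 := (g * g) * u * (g * g)⁻¹ with hu2
        have hu2W : u2 ∈ w1Of 3 E := hne2 ▸ conj_w1 hE hu
        have hθuV : θu ∈ vOf 3 G := (vOf_normal (p := 3) (G := G)).conj_mem u huV g
        have hθvV : θv ∈ vOf 3 G := (vOf_normal (p := 3) (G := G)).conj_mem v hvV g
        -- `u⁻¹ θv` is centralised by `E`, `v⁻¹ θu` by its conjugate
        have hcE : ∀ e ∈ E, Commute e (u⁻¹ * θv) := by
          intro e he
          have : u⁻¹ * θv = v * θu⁻¹ := by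
            rw [inv_mul_eq_iff_eq_mul, ← mul_assoc, ← hfu, (vOf_comm hθuV hθvV).eq, mul_inv_cancel_right]
          rw [this]
          exact Commute.mul_right (commute_w1 hE' c1 he hv) (commute_w1 hE' c1 he (conj_w1 hE hu)).inv_right
        have hdE : ∀ e ∈ cj g E, Commute e (v⁻¹ * θu) := by
          intro e he
          have : v⁻¹ * θu = u * θv⁻¹ := by
            rw [inv_mul_eq_iff_eq_mul, ← mul_assoc, (vOf_comm hvV huV).eq, ← hfu, mul_inv_cancel_right]
          rw [this]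
          have c1' : ⁅cj g E, E⁆ = ⊥ := by rw [commutator_comm]; exact c1
          refine Commute.mul_right (commute_w1 hE c1' he hu) (commute_w1 hE c1' he ?_).inv_right
          have := conj_w1 (g := g) hE' hv
          rwa [cj_mul, hne2] at this
        have hsame : ∀ e ∈ E, Commute e (u⁻¹ * u2) := by
          intro e he
          have h1 : Commute e (g * (v⁻¹ * θu) * g⁻¹) := by
            have he' : e ∈ cj g (cj g E) := by rw [cj_mul, hne2]; exact he
            obtain ⟨x, hx, rfl⟩ := he'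
            exact Commute.map (hdE x hx) (MulAut.conj g)
          have h2 := (hcE e he).mul_right h1
          have e3 : u⁻¹ * θv * (g * (v⁻¹ * θu) * g⁻¹) = u⁻¹ * u2 := by
            rw [hθv, hθu, hu2]; group
          rwa [e3] at h2
        have hprod : u * u2 ∈ w1Of 3 E := mul_mem hu hu2W
        have hgg2 : (g * g) * u2 * (g * g)⁻¹ = u := by
          have h4 : g * g * (g * g) ∈ qOf 3 F := by
            have : ρ (f * f * (f * f)) = 1 := by rw [map_mul, map_mul, hsq]; exact q8_neg_sq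
            exact (hker _).1 this
          have h5 := (core_commute huV (qOf_le_core hFs h4)).eq
          calc (g * g) * u2 * (g * g)⁻¹ = g * g * (g * g) * u * (g * g * (g * g))⁻¹ := by rw [hu2]; group
            _ = u := by rw [h5, mul_inv_cancel_right]
        have hV2 : u2 ∈ vOf 3 G := w1_le_vOf hG hE hu2W
        have hcg : Commute (u * u2) g := hinv _ (mul_mem huV hV2) (by
          calc (g * g) * (u * u2) * (g * g)⁻¹ = ((g * g) * u * (g * g)⁻¹) * ((g * g) * u2 * (g * g)⁻¹) := by group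
            _ = u2 * ((g * g) * u2 * (g * g)⁻¹) := by rw [hu2]
            _ = u * u2 := by rw [hgg2, (vOf_comm hV2 huV).eq])
        have hin : u * u2 ∈ w1Of 3 (cj g E) := by
          have := conj_w1 (g := g) hE hprod
          rwa [← hcg.eq, mul_inv_cancel_right] at this
        refine mem_zOf_of_fixed hE hu fun e he => ?_
        have h6 := (commute_w1 hE' c1 he hin).mul_right (hsame e he).inv_right
        have h7 : u * u2 * (u⁻¹ * u2)⁻¹ = u * u := by rw [_root_.mul_inv_rev, inv_inv]; group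
        rw [h7] at h6
        have h8' := h6.mul_right h6
        have h9 : u * u * (u * u) = u := by
          have := vOf_pow huV
          calc u * u * (u * u) = u ^ 3 * u := by rw [pow_succ, pow_two]; simp only [mul_assoc]
            _ = u := by rw [this, one_mul]
        rwa [h9] at h8'
      · have c2 : ⁅E, cj (g * g) E⁆ = ⊥ := by
          simpa [hE1] using hcomm 1 (one_mem F) (g * g) (mul_mem hf hf) (by rw [hE1]; exact Ne.symm hne2)
        refine mem_zOf_of_fixed hE hu fun e he => ?_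
        have h0 : u = ((g * u * g⁻¹) * (g * v * g⁻¹)) * v⁻¹ := by rw [hfu, mul_inv_cancel_right]
        rw [h0]
        refine Commute.mul_right (Commute.mul_right ?_ ?_) ?_
        · exact commute_w1 hE' c1 he (conj_w1 hE hu)
        · exact commute_w1 (hE.conj (g * g)) c2 he (by have := conj_w1 (g := g) hE' hv; rwa [cj_mul] at this)
        · exact (commute_w1 hE' c1 he hv).inv_right
    exact ⟨huZ, key_snd hE hE' c1 (hE.conj (g * g)) c3 (cj_mul g g E) huZ hu hv hc⟩)
  rw [(tiny3 hE hEs h8E).2.1, h9F,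
    (tiny3 hE' (cj_isSubnormal hEs g) ((card_bar_cj g).trans h8E)).2.1] at h81
  omega

/-- equal, commuting, or normalizing -/
theorem pair_or_normalizer (hG : centralizer (Cfsg.pCore p G : Set G) ≤ Cfsg.pCore p G)
    {N : Subgroup G} (hN : Below p N) (hNs : N.IsSubnormal) (hE : IsBlk p E) (hF : IsBlk p F)
    (hEs : E.IsSubnormal) (hFs : F.IsSubnormal) (hEN : E ≤ N) (hFN : F ≤ N) :
    Pair E F ∨ F ≤ normalizer (E : Set G) := by
  haveI : (Cfsg.pCore p G).Normal := Cfsg.Lib.Components.pCore_normal' p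
  by_contra hno
  rw [not_or] at hno
  obtain ⟨hP, hnor⟩ := hno
  obtain ⟨f, hf, hfn⟩ := SetLike.not_le_iff_exists.1 hnor
  have hne : cj f E ≠ E := fun h => hfn ((cj_eq_iff _ _).1 h)
  obtain ⟨M, hEM, -, hMs, hlt, hNM, hRM⟩ := container hE hNs hEs hEN fun h => hnor (hFN.trans h)
  have hcomm : ∀ a ∈ F, ∀ b ∈ F, cj a E ≠ cj b E → ⁅cj a E, cj b E⁆ = ⊥ := fun a ha b hb =>
    moved hN hMs hlt hNM hE hEs hEM (hFN ha) (hFN hb)
  have hE1 : cj (1 : G) E = E := (cj_eq_iff _ _).2 (one_mem _)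
  have hcm : ⁅E, cj f E⁆ = ⊥ := by simpa [hE1] using hcomm 1 (one_mem F) f hf (by rw [hE1]; exact hne.symm)
  by_cases hEF : E ≤ normalizer (F : Set G)
  · exact hP (hN M hMs hlt E F hE hF hEs hFs hEM
      (le_container hG hE hEs hF hFs hEM (hFN.trans hNM) hRM hEF hf hcm))
  obtain ⟨e, he, hen⟩ := SetLike.not_le_iff_exists.1 hEF
  obtain ⟨L, hFL, -, hLs, hltL, hNL, hRL⟩ := container hF hNs hFs hFN fun h => hEF (hEN.trans h)
  have hnF : cj e F ≠ F := fun h => hen ((cj_eq_iff _ _).1 h)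
  have hF1 : cj (1 : G) F = F := (cj_eq_iff _ _).2 (one_mem _)
  rcases kind hE hEs with ⟨hperf, -⟩ | hkE
  · exact hP (hN L hLs hltL E F hE hF hEs hFs (le_of_perfect hG hE hperf (hEN.trans hNL) hRL (hFL hf) hcm) hFL)
  rcases kind hF hFs with ⟨hperf, -⟩ | hkF
  · have hcm' : ⁅F, cj e F⁆ = ⊥ := by
      simpa [hF1] using moved hN hLs hltL hNL hF hFs hFL (one_mem N) (hEN he) (by rw [hF1]; exact hnF.symm)
    exact hP (hN M hMs hlt E F hE hF hEs hFs hEM (le_of_perfect hG hF hperf (hFN.trans hNM) hRM (hEM he) hcm'))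
  rcases hkE with ⟨rfl, hE3⟩ | ⟨rfl, hE8⟩ <;> rcases hkF with ⟨hp2, hF3⟩ | ⟨hp3, hF8⟩
  · exact no_move_two hG hE hEs hF hFs hE3 hF3 hf hne hcomm
  · omega
  · omega
  · exact no_move_three hG hE hEs hF hFs hE8 hF8 hf hne hcomm

end Cfsg.Lib.BlockPair
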