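/-
Subnormal blocks are equal or commute.
-/
import Cfsg.Agent.BlockPair.Commuting
import Cfsg.Agent.BlockPair.Step

set_option autoImplicit false

namespace Cfsg.Lib.BlockPair

set_option linter.style.haveILetI false
set_option linter.unusedSectionVars false

open Subgroup Matrix
open scoped commutatorElement MatrixGroups

universe u

variable {G : Type u} [Group G] [Finite G] {p : ℕ} [hp : Fact p.Prime] {E F : Subgroup G}

theorem commutator_le_cores (hEs : E.IsSubnormal) (hFs : F.IsSubnormal) (hFE : F ≤ normalizer (E : Set G))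
    (hEF : E ≤ normalizer (F : Set G)) (hR : ⁅E, F⁆ ≤ Cfsg.pCore p G) : ⁅E, F⁆ ≤ qOf p E ⊓ qOf p F := by
  refine le_inf ?_ ?_
  · rw [← inf_core hEs]
    exact le_inf (le_normalizer_iff_commutator_le_left.mp hFE) hR
  · rw [← inf_core hFs]
    refine le_inf ?_ hR
    rw [commutator_comm]
    exact le_normalizer_iff_commutator_le_left.mp hEF

/-- commutators in both cores, centralised by both, vanish -/
theorem bot_of_central (hE : IsBlk p E) (hq : ⁅E, F⁆ ≤ qOf p E) (h1 : ⁅E, F⁆ ≤ centralizer (E : Set G)) :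
    ⁅E, F⁆ = ⊥ := by
  rw [commutator_eq_bot_iff_le_centralizer]
  conv_lhs => rw [← Cfsg.Lib.BlockBasic.closure_coprime_elements (res hE)]
  rw [closure_le]
  rintro e ⟨he, hco⟩
  rw [SetLike.mem_coe, mem_centralizer_iff]
  intro f hf
  have hd := commutator_mem_commutator he hf
  set d := ⁅e, f⁆ with hddef
  have hc : Commute e d := mem_centralizer_iff.1 (h1 hd) e he
  have hit : ∀ n : ℕ, e ^ n * f * (e ^ n)⁻¹ = d ^ n * f := by
    intro n
    induction n with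
    | zero => simp
    | succ n ih =>
      have h2 : e * f * e⁻¹ = d * f := by rw [hddef, commutatorElement_def]; group
      calc e ^ (n + 1) * f * (e ^ (n + 1))⁻¹ = e * (e ^ n * f * (e ^ n)⁻¹) * e⁻¹ := by rw [pow_succ']; group
        _ = (e * d ^ n) * f * e⁻¹ := by rw [ih]; group
        _ = (d ^ n * e) * f * e⁻¹ := by rw [(hc.pow_right n).eq]
        _ = d ^ (n + 1) * f := by rw [pow_succ, mul_assoc (d ^ n) d f, ← h2]; group
  have h3 := hit (orderOf e)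
  rw [pow_orderOf_eq_one, one_mul, inv_one, mul_one, eq_comm, mul_eq_right] at h3
  obtain ⟨i, hi⟩ := isPGroup_qOf E ⟨d, hq hd⟩
  have h4 : orderOf d = 1 := Nat.eq_one_of_dvd_coprimes (Nat.Coprime.pow_right i hco)
    (orderOf_dvd_of_pow_eq_one h3) (orderOf_dvd_of_pow_eq_one (congrArg Subtype.val hi))
  exact (commutatorElement_eq_one_iff_mul_comm.1 (orderOf_eq_one_iff.1 h4)).symm

/-- either `F` centralises `[W_E, E]` or it lies in that of `F` -/
theorem w1_cases (hE : IsBlk p E) (hEs : E.IsSubnormal) (hFs : F.IsSubnormal) (hF : IsBlk p F)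
    (hFE : F ≤ normalizer (E : Set G)) (hEF : E ≤ normalizer (F : Set G)) (hR : ⁅E, F⁆ ≤ Cfsg.pCore p G)
    (hG : centralizer (Cfsg.pCore p G : Set G) ≤ Cfsg.pCore p G) :
    ⁅w1Of p E, F⁆ = ⊥ ∨ w1Of p E ≤ w1Of p F := by
  have hW1 := w1_le_wOf hE
  have hA : ⁅w1Of p E, F⁆ ≤ w1Of p E :=
    le_normalizer_iff_commutator_le_left.mp fun f hf => by
      rw [mem_normalizer_iff_map_conj_eq]
      show (w1Of p E).map (MulAut.conj f).toMonoidHom = _
      rw [map_w1Of, show E.map (MulAut.conj f).toMonoidHom = E from mem_normalizer_iff_map_conj_eq.1 (hFE hf)]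
  have hAF : ⁅w1Of p E, F⁆ ≤ w1Of p F := by
    conv_rhs => rw [← commutator_vOf hG hF hFs]
    exact commutator_mono (w1_le_vOf hG hE) le_rfl
  have hAn : ∀ e ∈ E, ∀ u ∈ ⁅w1Of p E, F⁆, e * u * e⁻¹ ∈ ⁅w1Of p E, F⁆ := by
    intro e he u hu
    have h : ⁅w1Of p E, F⁆.map (MulAut.conj e).toMonoidHom = ⁅w1Of p E, F⁆ := by
      rw [map_commutator, map_w1Of, show E.map (MulAut.conj e).toMonoidHom = E from
        mem_normalizer_iff_map_conj_eq.1 (le_normalizer he),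
        show F.map (MulAut.conj e).toMonoidHom = F from mem_normalizer_iff_map_conj_eq.1 (hEF he)]
    rw [← h]
    exact ⟨u, hu, rfl⟩
  obtain ⟨hZW, -, -, hEZ, hirr, -⟩ := irr_module hE
  have hI : ∀ e ∈ E, ∀ u ∈ ⁅w1Of p E, F⁆ ⊔ zOf p E, e * u * e⁻¹ ∈ ⁅w1Of p E, F⁆ ⊔ zOf p E := by
    intro e he
    have h : ⁅w1Of p E, F⁆ ⊔ zOf p E ≤ (⁅w1Of p E, F⁆ ⊔ zOf p E).comap (MulAut.conj e).toMonoidHom := by
      refine sup_le (fun a ha => ?_) fun z hz => ?_
      · show e * a * e⁻¹ ∈ ⁅w1Of p E, F⁆ ⊔ zOf p E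
        exact mem_sup_left (hAn e he a ha)
      · show e * z * e⁻¹ ∈ ⁅w1Of p E, F⁆ ⊔ zOf p E
        exact mem_sup_right ((mem_normalizer_iff.1 (hEZ he) z).1 hz)
    exact fun u hu => h hu
  rcases hirr _ le_sup_right (sup_le (hA.trans hW1) hZW) hI with h | h
  · left
    have hq := commutator_le_cores (p := p) hEs hFs hFE hEF hR
    have h1 : ⁅⁅E, w1Of p E⁆, F⁆ = ⊥ := by
      refine commutator_commutator_eq_bot_of_rotate ?_ ?_
      · rw [commutator_eq_bot_iff_le_centralizer]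
        exact (le_sup_left.trans h.le).trans inf_le_right
      · rw [commutator_eq_bot_iff_le_centralizer, commutator_comm, le_centralizer_iff]
        exact (hW1.trans ((wOf_le E).trans inf_le_right)).trans (centralizer_le (hq.trans inf_le_left))
    rwa [commutator_comm E (w1Of p E), (wOf_eq_sup hE).2] at h1
  · right
    show ⁅wOf p E, E⁆ ≤ _
    rw [← h]
    refine sup_zOf_le hE (hA.trans hW1) fun a ha e he => ?_
    rw [commutatorElement_def, show a * e * a⁻¹ * e⁻¹ = a * (e * a * e⁻¹)⁻¹ by group]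
    exact mul_mem (hAF ha) (inv_mem (conj_w1_self hF (hEF he) (hAF ha)))

theorem inf_zOf_le (hE : IsBlk p E) (hF : IsBlk p F) (hFE : F ≤ normalizer (E : Set G))
    (hU : w1Of p E = w1Of p F) : w1Of p E ⊓ zOf p E ≤ zOf p F := by
  have hX : ∀ f ∈ F, ∀ a ∈ w1Of p E ⊓ zOf p E, f * a * f⁻¹ ∈ w1Of p E ⊓ zOf p E := fun f hf a ha =>
    mem_inf.2 ⟨conj_w1_self hE (hFE hf) (mem_inf.1 ha).1, conj_zOf (hFE hf) (mem_inf.1 ha).2⟩
  obtain ⟨hZW, -, -, hFZ, hirr, -⟩ := irr_module hF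
  have hle : w1Of p E ⊓ zOf p E ≤ wOf p F := inf_le_left.trans (hU ▸ w1_le_wOf hF)
  have hI : ∀ f ∈ F, ∀ u ∈ (w1Of p E ⊓ zOf p E) ⊔ zOf p F, f * u * f⁻¹ ∈ (w1Of p E ⊓ zOf p E) ⊔ zOf p F := by
    intro f hf
    have h : (w1Of p E ⊓ zOf p E) ⊔ zOf p F ≤
        ((w1Of p E ⊓ zOf p E) ⊔ zOf p F).comap (MulAut.conj f).toMonoidHom := by
      refine sup_le (fun a ha => ?_) fun z hz => ?_
      · show f * a * f⁻¹ ∈ (w1Of p E ⊓ zOf p E) ⊔ zOf p F
        exact mem_sup_left (hX f hf a ha)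
      · show f * z * f⁻¹ ∈ (w1Of p E ⊓ zOf p E) ⊔ zOf p F
        exact mem_sup_right ((mem_normalizer_iff.1 (hFZ hf) z).1 hz)
    exact fun u hu => h hu
  rcases hirr _ le_sup_right (sup_le hle hZW) hI with h | h
  · exact le_sup_left.trans h.le
  exfalso
  have h1 : w1Of p F ≤ w1Of p E ⊓ zOf p E := by
    show ⁅wOf p F, F⁆ ≤ _
    rw [← h]
    refine sup_zOf_le hF hle fun a ha f hf => ?_
    rw [commutatorElement_def, show a * f * a⁻¹ * f⁻¹ = a * (f * a * f⁻¹)⁻¹ by group]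
    exact mul_mem ha (inv_mem (hX f hf a ha))
  obtain ⟨-, hne, -⟩ := irr_w1 hE
  exact hne (le_antisymm (hU.le.trans h1) inf_le_left)

/-- two commuting blocks of order three on the same module -/
theorem two_pair (hG : centralizer (Cfsg.pCore 2 G : Set G) ≤ Cfsg.pCore 2 G) [Fact (Nat.Prime 2)]
    [(Cfsg.pCore 2 G).Normal] (hE : IsBlk 2 E) (hEs : E.IsSubnormal) (hF : IsBlk 2 F) (hFs : F.IsSubnormal)
    (h3E : Nat.card ↥(bar 2 E) = 3) (h3F : Nat.card ↥(bar 2 F) = 3) (hFE : F ≤ normalizer (E : Set G))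
    (hEF : E ≤ normalizer (F : Set G)) (hR : ⁅E, F⁆ ≤ Cfsg.pCore 2 G) (hU : w1Of 2 E = w1Of 2 F) : F ≤ E := by
  classical
  set π := QuotientGroup.mk' (Cfsg.pCore 2 G) with hπ
  have hlin : ∀ {A : Subgroup G}, IsBlk 2 A → qOf 2 A = wOf 2 A ∧ w1Of 2 A = wOf 2 A := by
    intro A hA
    have hl : qOf 2 A = wOf 2 A := (top_kind hA).resolve_right (by rintro ⟨h, -⟩; omega)
    refine ⟨hl, ?_⟩
    conv_rhs => rw [← hl, ← commutator_qOf hA]
    rw [w1Of, ← hl]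
  obtain ⟨hQE, hWE⟩ := hlin hE
  obtain ⟨hQF, hWF⟩ := hlin hF
  have hW : wOf 2 E = wOf 2 F := hWE.symm.trans (hU.trans hWF)
  have hZ : zOf 2 E = zOf 2 F := by
    refine le_antisymm ?_ ?_
    · have := inf_zOf_le hE hF hFE hU
      rwa [hWE, inf_eq_right.2 inf_le_left] at this
    · have := inf_zOf_le hF hE hEF hU.symm
      rwa [hWF, inf_eq_right.2 inf_le_left] at this
  have hq := commutator_le_cores (p := 2) hEs hFs hFE hEF hR
  set U := wOf 2 E with hUdef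
  set U₀ := zOf 2 E with hU₀def
  have hirrE : Irr 2 E U U₀ := irr_module hE
  have hirrF : Irr 2 F U U₀ := by rw [hW, hZ]; exact irr_module hF
  have hn : U ≤ normalizer (U₀ : Set G) := w1_normalizer_zOf hE le_rfl
  have hc : ∀ s ∈ qOf 2 E, ∀ u ∈ U, ⁅u, s⁆ ∈ U₀ := fun s hs u hu => by
    rw [commutatorElement_eq_one_iff_mul_comm.2 (mem_centralizer_iff.1 (mem_inf.1 (wOf_le E hu)).2 s hs).symm]
    exact one_mem _
  have hex : ∀ e ∈ E, π e ≠ 1 → ∀ u ∈ U, u ∉ U₀ → ⁅u, e⁆ ∉ U₀ := by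
    intro e he hne u hu hu' hfix
    refine hne ((QuotientGroup.eq_one_iff e).mpr (qOf_le_core hEs (mem_qOf_of_fixed hirrE hirrF hn he
      (fun v hv => (mem_normalizer_iff.1 (hirrE.2.2.2.1 he) v).1 hv) (fun f hf v hv => hc _ ?_ v hv) hu hu' hfix)))
    have h : f⁻¹ * e * f * e⁻¹ = ⁅e, f⁻¹⁆⁻¹ := by rw [commutatorElement_def]; group
    rw [h]
    exact inv_mem ((mem_inf.1 (hq (commutator_mem_commutator he (inv_mem hf)))).1)
  have h4 : Nat.card (↥U ⧸ U₀.subgroupOf U) = 4 := tiny2 hE hEs ⟨rfl, h3E⟩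
  obtain ⟨u, hu, hu'⟩ := SetLike.not_le_iff_exists.1 fun h : U ≤ U₀ => hirrE.2.1 (le_antisymm h hirrE.1)
  obtain ⟨e, he, hne⟩ : ∃ e ∈ E, π e ≠ 1 := by
    by_contra hno
    push Not at hno
    have hb : bar 2 E = ⊥ := by
      rw [Subgroup.eq_bot_iff_forall]
      rintro _ ⟨x, hx, rfl⟩
      exact hno x hx
    rw [hb, card_bot] at h3E
    omega
  have hcube : ∀ {A : Subgroup G}, Nat.card ↥(bar 2 A) = 3 → ∀ a ∈ A, π a ^ 3 = 1 := by
    intro A hA a ha
    have := pow_card_eq_one' (G := ↥(bar 2 A)) (x := ⟨π a, ⟨a, ha, rfl⟩⟩)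
    rw [hA] at this
    exact congrArg Subtype.val this
  refine bar_le hE hF ?_
  rintro _ ⟨f, hf, rfl⟩
  by_contra hnot
  have hfne : π f ≠ 1 := fun h => hnot (h ▸ one_mem _)
  -- an element of `E` acting like `f` on `u`
  have hcl : ∀ (a : G), a ∈ E ∨ a ∈ F → a * u * a⁻¹ ∈ U := fun a ha => ha.elim
    (fun h => (mem_normalizer_iff.1 (hirrE.2.2.1 h) u).1 hu) fun h => (mem_normalizer_iff.1 (hirrF.2.2.1 h) u).1 hu
  obtain ⟨e', he', hk⟩ : ∃ e' ∈ E, ⁅u, e'⁻¹ * f⁆ ∈ U₀ := by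
    by_contra hno
    push Not at hno
    haveI : (U₀.subgroupOf U).Normal := normal_subgroupOf_of_le_normalizer hn
    let c : (a : G) → a ∈ E ∨ a ∈ F → ↥U ⧸ U₀.subgroupOf U := fun a ha => QuotientGroup.mk ⟨_, hcl a ha⟩
    have hfixE : ∀ a ∈ E, ∀ b, ∀ hb : b ∈ E ∨ b ∈ F, ∀ ha, c a ha = c b hb → ⁅u, a⁻¹ * b⁆ ∈ U₀ := by
      intro a haE b hb ha h
      have h1 : (a * u * a⁻¹)⁻¹ * (b * u * b⁻¹) ∈ U₀ := mem_subgroupOf.1 (QuotientGroup.eq.1 h)
      have h2 := (mem_normalizer_iff.1 (inv_mem (hirrE.2.2.2.1 haE)) _).1 h1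
      have e1 : a⁻¹ * ((a * u * a⁻¹)⁻¹ * (b * u * b⁻¹)) * a⁻¹⁻¹ = u⁻¹ * ((a⁻¹ * b) * u * (a⁻¹ * b)⁻¹) := by group
      rw [e1] at h2
      have h3 := (mem_normalizer_iff.1 (hn hu) _).1 (inv_mem h2)
      have e2 : u * (u⁻¹ * ((a⁻¹ * b) * u * (a⁻¹ * b)⁻¹))⁻¹ * u⁻¹ = ⁅u, a⁻¹ * b⁆ := by
        rw [commutatorElement_def]; group
      rwa [e2] at h3
    have hee : π (e * e) ≠ 1 := by
      intro h
      apply hne
      have h3 := hcube h3E e he
      rw [map_mul] at h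
      calc π e = π e ^ 3 * (π e * π e)⁻¹ := by group
        _ = 1 := by rw [h3, h, inv_one, mul_one]
    have d1 : c e (Or.inl he) ≠ c (1 : G) (Or.inl (one_mem E)) := fun h => by
      have := hfixE 1 (one_mem E) e (Or.inl he) (Or.inl (one_mem E)) h.symm
      rw [inv_one, one_mul] at this
      exact hex e he hne u hu hu' this
    have d2 : c (e * e) (Or.inl (mul_mem he he)) ≠ c (1 : G) (Or.inl (one_mem E)) := fun h => by
      have := hfixE 1 (one_mem E) (e * e) (Or.inl (mul_mem he he)) (Or.inl (one_mem E)) h.symm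
      rw [inv_one, one_mul] at this
      exact hex _ (mul_mem he he) hee u hu hu' this
    have d3 : c e (Or.inl he) ≠ c (e * e) (Or.inl (mul_mem he he)) := fun h => by
      have := hfixE e he (e * e) (Or.inl (mul_mem he he)) (Or.inl he) h
      rw [inv_mul_cancel_left] at this
      exact hex e he hne u hu hu' this
    have d4 : ∀ a (ha : a ∈ E), c f (Or.inr hf) ≠ c a (Or.inl ha) := fun a ha h =>
      hno a ha (hfixE a ha f (Or.inr hf) (Or.inl ha) h.symm)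
    have z : ∀ a ha, c a ha ≠ 1 := by
      intro a ha h
      refine hu' ?_
      have h1 : a * u * a⁻¹ ∈ U₀ := mem_subgroupOf.1 ((QuotientGroup.eq_one_iff _).1 h)
      have han : a ∈ normalizer (U₀ : Set G) := ha.elim (fun h => hirrE.2.2.2.1 h) fun h => hirrF.2.2.2.1 h
      exact (mem_normalizer_iff.1 han u).2 h1
    haveI := Fintype.ofFinite (↥U ⧸ U₀.subgroupOf U)
    have hle := Finset.card_le_univ ({1, c 1 (Or.inl (one_mem E)), c e (Or.inl he),
      c (e * e) (Or.inl (mul_mem he he)), c f (Or.inr hf)} : Finset (↥U ⧸ U₀.subgroupOf U))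
    rw [← Nat.card_eq_fintype_card, h4] at hle
    rw [Finset.card_insert_of_notMem (by simp [(z 1 (Or.inl (one_mem E))).symm, (z e (Or.inl he)).symm, (z _ (Or.inl (mul_mem he he))).symm, (z f (Or.inr hf)).symm]), Finset.card_insert_of_notMem
      (by simp [d1.symm, d2.symm, (d4 1 (one_mem E)).symm]), Finset.card_insert_of_notMem
      (by simp [d3, (d4 e he).symm]), Finset.card_insert_of_notMem (by simp [(d4 _ (mul_mem he he)).symm]),
      Finset.card_singleton] at hle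
    omega
  set k := e'⁻¹ * f with hkdef
  have hkn : k ∈ normalizer (E : Set G) := mul_mem (le_normalizer (inv_mem he')) (hFE hf)
  have hkU : ∀ v ∈ U, ⁅v, k⁆ ∈ U₀ := by
    have hk₀ : ∀ v ∈ U₀, k * v * k⁻¹ = v := fun v hv => by
      have h1 := mem_centralizer_iff.1 (mem_inf.1 hv).2 e' he'
      have h2 := mem_centralizer_iff.1 (mem_inf.1 (hZ ▸ hv)).2 f hf
      calc k * v * k⁻¹ = e'⁻¹ * (f * v) * f⁻¹ * e' := by rw [hkdef]; group
        _ = e'⁻¹ * (v * f) * f⁻¹ * e' := by rw [h2]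
        _ = e'⁻¹ * (v * e') := by group
        _ = v := by rw [← h1]; group
    obtain ⟨hle', -, hEU, hEU₀, hirr, -⟩ := hirrE
    have hge : U₀ ≤ fixedMod U U₀ hn k := fun v hv => by
      refine mem_fixedMod.2 ⟨hle' hv, ?_⟩
      rw [commutatorElement_def, show v * k * v⁻¹ * k⁻¹ = v * (k * v * k⁻¹)⁻¹ by group, hk₀ v hv, mul_inv_cancel]
      exact one_mem _
    have hI : ∀ x ∈ E, ∀ v ∈ fixedMod U U₀ hn k, x * v * x⁻¹ ∈ fixedMod U U₀ hn k := by
      intro x hx v hv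
      obtain ⟨hv1, hv2⟩ := mem_fixedMod.1 hv
      refine mem_fixedMod.2 ⟨(mem_normalizer_iff.1 (hEU hx) v).1 hv1, ?_⟩
      set s := x⁻¹ * k * x * k⁻¹ with hs
      have hsQ : s ∈ qOf 2 E := by
        rw [← inf_core hEs]
        refine mem_inf.2 ⟨?_, (QuotientGroup.eq_one_iff s).mp ?_⟩
        · rw [hs, show x⁻¹ * k * x * k⁻¹ = x⁻¹ * (k * x * k⁻¹) by group]
          exact mul_mem (inv_mem hx) ((mem_normalizer_iff.1 hkn x).1 hx)
        show π s = 1
        have c1 : Commute (π x) (π e'⁻¹) := by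
          haveI : IsCyclic ↥(bar 2 E) := isCyclic_of_prime_card (p := 3) (hp := ⟨Nat.prime_three⟩) h3E
          letI := IsCyclic.commGroup (α := ↥(bar 2 E))
          exact congrArg Subtype.val (mul_comm (⟨π x, ⟨x, hx, rfl⟩⟩ : ↥(bar 2 E)) ⟨π e'⁻¹, ⟨_, inv_mem he', rfl⟩⟩)
        have c2 : Commute (π x) (π f) := by
          have : π ⁅x, f⁆ = 1 := (QuotientGroup.eq_one_iff _).mpr (hR (commutator_mem_commutator hx hf))
          rw [map_commutatorElement] at this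
          exact commutatorElement_eq_one_iff_mul_comm.1 this
        have c3 : Commute (π x) (π k) := by rw [hkdef, map_mul]; exact c1.mul_right c2
        rw [hs, map_mul, map_mul, map_mul, map_inv, map_inv, c3.inv_left.eq]
        group
      have e1 : ⁅x * v * x⁻¹, k⁆ = x * (⁅v, s⁆ * (s * ⁅v, k⁆ * s⁻¹)) * x⁻¹ := by
        rw [hs]; simp only [commutatorElement_def]; group
      rw [e1]
      refine (mem_normalizer_iff.1 (hEU₀ hx) _).1 (mul_mem (hc s hsQ v hv1) ?_)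
      exact (mem_normalizer_iff.1 (hEU₀ (qOf_le E hsQ)) _).1 hv2
    rcases hirr (fixedMod U U₀ hn k) hge (fun v hv => (mem_fixedMod.1 hv).1) hI with h | h
    · exact absurd (h ▸ (mem_fixedMod.2 ⟨hu, hk⟩ : u ∈ fixedMod U U₀ hn k)) hu'
    · exact fun v hv => (mem_fixedMod.1 (h.ge hv)).2
  have hUR : U ≤ Cfsg.pCore 2 G := by
    rw [← hQE]; exact qOf_le_core hEs
  have hst1 : ∀ w ∈ Cfsg.pCore 2 G, ⁅k, w⁆ ∈ U := by
    intro w hw
    have h1 : ⁅e'⁻¹, w⁆ ∈ qOf 2 E := commutator_core hE hEs ▸ commutator_mem_commutator (inv_mem he') hw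
    have h2 : ⁅f, w⁆ ∈ qOf 2 E := by
      rw [hQE, hW, ← hQF, ← commutator_core hF hFs]
      exact commutator_mem_commutator hf hw
    rw [← hQE, show ⁅k, w⁆ = e'⁻¹ * ⁅f, w⁆ * (e'⁻¹)⁻¹ * ⁅e'⁻¹, w⁆ by
      simp only [hkdef, commutatorElement_def]; group]
    exact mul_mem ((mem_normalizer_iff.1 (normal_qOf E (inv_mem he')) _).1 h2) h1
  have hst3 : ∀ w ∈ U₀, Commute k w := by
    intro w hw
    have h1 : Commute e' w := mem_centralizer_iff.1 (mem_inf.1 hw).2 e' he'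
    have h2 : Commute f w := mem_centralizer_iff.1 (mem_inf.1 (hZ ▸ hw)).2 f hf
    exact h1.inv_left.mul_left h2
  obtain ⟨i, hi⟩ := pow_eq_one_of_stab hG hUR hirrE.1 (x := k) hst1
    (fun w hw => by rw [← inv_inv ⁅k, w⁆, commutatorElement_inv]; exact inv_mem (hkU w hw)) hst3
  have h3k : π k ^ 3 = 1 := by
    have hc' : Commute (π e'⁻¹) (π f) := by
      have : π ⁅e'⁻¹, f⁆ = 1 := (QuotientGroup.eq_one_iff _).mpr (hR (commutator_mem_commutator (inv_mem he') hf))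
      rw [map_commutatorElement] at this
      exact commutatorElement_eq_one_iff_mul_comm.1 this
    rw [hkdef, map_mul, hc'.mul_pow, hcube h3E _ (inv_mem he'), hcube h3F f hf, one_mul]
  have h2k : π k ^ 2 ^ i = 1 := by rw [← map_pow, hi, map_one]
  have hk1 : π k = 1 := orderOf_eq_one_iff.mp (Nat.eq_one_of_dvd_coprimes
    (Nat.Coprime.pow_right i (show Nat.Coprime 3 2 by norm_num)) (orderOf_dvd_of_pow_eq_one h3k)
    (orderOf_dvd_of_pow_eq_one h2k))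
  refine hnot ⟨e', he', ?_⟩
  rw [hkdef, map_mul, map_inv, inv_mul_eq_one] at hk1
  exact hk1

/-- two commuting exceptional blocks with the same top section -/
theorem two_top [Fact (Nat.Prime 3)] (hG : centralizer (Cfsg.pCore 3 G : Set G) ≤ Cfsg.pCore 3 G)
    (hE : IsBlk 3 E) (hEs : E.IsSubnormal) (hF : IsBlk 3 F) (hFs : F.IsSubnormal)
    (hFE : F ≤ normalizer (E : Set G)) (hEF : E ≤ normalizer (F : Set G)) (hR : ⁅E, F⁆ ≤ Cfsg.pCore 3 G)
    (hEc : ⁅w1Of 3 E, F⁆ = ⊥) (hFc : ⁅w1Of 3 F, E⁆ = ⊥)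
    (hsE : ⁅E, F⁆ ⊔ wOf 3 E = qOf 3 E) (hsF : ⁅E, F⁆ ⊔ wOf 3 F = qOf 3 F)
    (ha : ¬ ⁅E, F⁆ ≤ wOf 3 E) (hb : ¬ ⁅E, F⁆ ≤ wOf 3 F) : False := by
  haveI : (Cfsg.pCore 3 G).Normal := Cfsg.Lib.Components.pCore_normal' 3
  set D := ⁅E, F⁆ with hD
  have hq := commutator_le_cores (p := 3) hEs hFs hFE hEF hR
  have hDE : E ≤ normalizer (D : Set G) := normalizer_commutator_ge_left E F
  have hDF : F ≤ normalizer (D : Set G) := normalizer_commutator_ge_right E F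
  have data : ∀ {A : Subgroup G}, IsBlk 3 A → D ⊔ wOf 3 A = qOf 3 A → ¬ D ≤ wOf 3 A →
      Irr 3 A (qOf 3 A) (wOf 3 A) ∧ ⁅qOf 3 A, qOf 3 A⁆ = zOf 3 A ∧ D ≤ normalizer (wOf 3 A : Set G) ∧
      ⁅qOf 3 A, qOf 3 A⁆ = ⁅D, D⁆ := by
    intro A hA hs hn
    have hne : qOf 3 A ≠ wOf 3 A := fun e => hn (le_sup_left.trans (hs.trans e).le)
    obtain ⟨-, hirr, h5, -⟩ := (top_kind hA).resolve_left hne
    have hDA : D ≤ qOf 3 A := le_sup_left.trans hs.le
    have hcen : ∀ a ∈ qOf 3 A, ∀ c ∈ wOf 3 A, Commute a c := fun a ha c hc =>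
      mem_centralizer_iff.1 (mem_inf.1 (wOf_le A hc)).2 a ha
    have hn' : D ≤ normalizer (wOf 3 A : Set G) := fun d hd => hirr.2.2.2.1 (qOf_le A (hDA hd))
    refine ⟨hirr, h5, hn', le_antisymm ?_ (commutator_mono hDA hDA)⟩
    rw [commutator_le]
    intro x hx y hy
    rw [← hs, ← SetLike.mem_coe, coe_mul_of_left_le_normalizer_right _ _ hn'] at hx hy
    obtain ⟨a, ha', w, hw, rfl⟩ := Set.mem_mul.1 hx
    obtain ⟨b, hb', w', hw', rfl⟩ := Set.mem_mul.1 hy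
    have hbw : b * w' ∈ qOf 3 A := mul_mem (hDA hb') ((wOf_le A).trans inf_le_left hw')
    have h : ⁅a * w, b * w'⁆ = ⁅a, b⁆ := by
      calc ⁅a * w, b * w'⁆ = a * (w * (b * w')) * w⁻¹ * a⁻¹ * (b * w')⁻¹ := by
            rw [commutatorElement_def]; group
        _ = a * ((b * w') * w) * w⁻¹ * a⁻¹ * (b * w')⁻¹ := by rw [(hcen _ hbw w hw).eq]
        _ = a * b * (w' * a⁻¹) * (b * w')⁻¹ := by group
        _ = a * b * (a⁻¹ * w') * (b * w')⁻¹ := by rw [(hcen _ (inv_mem (hDA ha')) w' hw').eq]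
        _ = ⁅a, b⁆ := by rw [commutatorElement_def]; group
    rw [h]
    exact commutator_mem_commutator ha' hb'
  obtain ⟨hirrE, h5E, hnE, hcE⟩ := data hE hsE ha
  obtain ⟨hirrF, h5F, hnF, hcF⟩ := data hF hsF hb
  have hZ : zOf 3 E = zOf 3 F := by rw [← h5E, ← h5F, hcE, hcF]
  have centW : ∀ {A B : Subgroup G}, IsBlk 3 A → zOf 3 A = zOf 3 B → ⁅w1Of 3 A, B⁆ = ⊥ →
      B ≤ centralizer (wOf 3 A : Set G) := by
    intro A B hA hz hc
    rw [le_centralizer_iff, ← (wOf_eq_sup hA).1]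
    exact sup_le (commutator_eq_bot_iff_le_centralizer.1 hc) (hz ▸ inf_le_right)
  have hFW : F ≤ centralizer (wOf 3 E : Set G) := centW hE hZ hEc
  have hEW : E ≤ centralizer (wOf 3 F : Set G) := centW hF hZ.symm hFc
  have hsub : ∀ {A B : Subgroup G}, IsBlk 3 B → Irr 3 B (qOf 3 B) (wOf 3 B) → D ⊔ wOf 3 B = qOf 3 B →
      B ≤ normalizer (D : Set G) → B ≤ centralizer (wOf 3 A : Set G) → D ⊓ wOf 3 A ≤ wOf 3 B := by
    intro A B hB hirr hs hBD hc
    have hfix : ∀ b ∈ B, ∀ a ∈ D ⊓ wOf 3 A, b * a * b⁻¹ = a := fun b hb' a ha' => by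
      rw [← mem_centralizer_iff.1 (hc hb') a (mem_inf.1 ha').2, mul_inv_cancel_right]
    have hI : ∀ b ∈ B, ∀ u ∈ (D ⊓ wOf 3 A) ⊔ wOf 3 B, b * u * b⁻¹ ∈ (D ⊓ wOf 3 A) ⊔ wOf 3 B := by
      intro b hb'
      have h : (D ⊓ wOf 3 A) ⊔ wOf 3 B ≤ ((D ⊓ wOf 3 A) ⊔ wOf 3 B).comap (MulAut.conj b).toMonoidHom := by
        refine sup_le (fun a ha' => ?_) fun z hz => ?_
        · show b * a * b⁻¹ ∈ (D ⊓ wOf 3 A) ⊔ wOf 3 B
          rw [hfix b hb' a ha']
          exact mem_sup_left ha'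
        · show b * z * b⁻¹ ∈ (D ⊓ wOf 3 A) ⊔ wOf 3 B
          exact mem_sup_right ((mem_normalizer_iff.1 (hirr.2.2.2.1 hb') z).1 hz)
      exact fun u hu => h hu
    rcases hirr.2.2.2.2.1 _ le_sup_right
      (sup_le (inf_le_left.trans (le_sup_left.trans hs.le)) ((wOf_le B).trans inf_le_left)) hI with h | h
    · exact le_sup_left.trans h.le
    exfalso
    refine hirr.2.1 (le_antisymm ?_ hirr.1)
    conv_lhs => rw [← commutator_qOf hB, ← h]
    rw [commutator_le]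
    intro x hx b hb'
    rw [← SetLike.mem_coe, coe_mul_of_left_le_normalizer_right _ _
      (fun a ha' => hirr.2.2.2.1 (qOf_le B (le_sup_left.trans hs.le (mem_inf.1 ha').1)))] at hx
    obtain ⟨a, ha', w, hw, rfl⟩ := Set.mem_mul.1 hx
    have e : ⁅a * w, b⁆ = a * ⁅w, b⁆ * a⁻¹ * ⁅a, b⁆ := by simp only [commutatorElement_def]; group
    have e2 : ⁅a, b⁆ = 1 := by
      rw [commutatorElement_def, show a * b * a⁻¹ * b⁻¹ = a * (b * a * b⁻¹)⁻¹ by group, hfix b hb' a ha',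
        mul_inv_cancel]
    rw [e, e2, mul_one]
    refine (mem_normalizer_iff.1 (hirr.2.2.2.1 (qOf_le B (le_sup_left.trans hs.le (mem_inf.1 ha').1))) _).1 ?_
    rw [commutatorElement_def, show w * b * w⁻¹ * b⁻¹ = w * (b * w * b⁻¹)⁻¹ by group]
    exact mul_mem hw (inv_mem ((mem_normalizer_iff.1 (hirr.2.2.2.1 hb') w).1 hw))
  have hC : D ⊓ wOf 3 E = D ⊓ wOf 3 F := le_antisymm
    (le_inf inf_le_left (hsub hF hirrF hsF hDF hFW)) (le_inf inf_le_left (hsub hE hirrE hsE hDE hEW))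
  have hU : Irr 3 E D (D ⊓ wOf 3 E) := irr_restrict hirrE hsE hDE hnE
  have hV : Irr 3 F D (D ⊓ wOf 3 E) := hC ▸ irr_restrict hirrF hsF hDF hnF
  have hn : D ≤ normalizer ((D ⊓ wOf 3 E : Subgroup G) : Set G) := by
    intro d hd
    rw [mem_normalizer_iff]
    intro y
    rw [mem_inf, mem_inf]
    exact and_congr (mem_normalizer_iff.1 (le_normalizer hd) y) (mem_normalizer_iff.1 (hnE hd) y)
  have hDp : IsPGroup 3 D := (isPGroup_qOf E).to_le (hq.trans inf_le_left)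
  have hcw : ∀ s ∈ D, ∀ u ∈ D, ⁅u, s⁆ ∈ D ⊓ wOf 3 E := fun s hs u hu => by
    refine mem_inf.2 ⟨?_, ?_⟩
    · rw [commutatorElement_def]
      exact mul_mem (mul_mem (mul_mem hu hs) (inv_mem hu)) (inv_mem hs)
    · have h : ⁅u, s⁆ ∈ ⁅D, D⁆ := commutator_mem_commutator hu hs
      rw [← hcE, h5E] at h
      exact (mem_inf.1 h).1
  have hndE : ¬ 3 ∣ Nat.card ↥(bar 3 E) := not_dvd_of_section hEs hU hV hn hDp fun e he f hf u hu => by
    rw [show f⁻¹ * e * f * e⁻¹ = ⁅e, f⁻¹⁆⁻¹ by rw [commutatorElement_def]; group]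
    exact hcw _ (inv_mem (commutator_mem_commutator he (inv_mem hf))) u hu
  have hndF : ¬ 3 ∣ Nat.card ↥(bar 3 F) := not_dvd_of_section hFs hV hU hn hDp fun f hf e he u hu => by
    have hm : ⁅e⁻¹, f⁆ ∈ D := commutator_mem_commutator (inv_mem he) hf
    rw [show e⁻¹ * f * e * f⁻¹ = ⁅e⁻¹, f⁆ by rw [commutatorElement_def]; group]
    exact hcw _ hm u hu
  have h8 : ∀ {A : Subgroup G}, IsBlk 3 A → A.IsSubnormal → ¬ 3 ∣ Nat.card ↥(bar 3 A) →
      Nat.card ↥(bar 3 A) = 8 := by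
    intro A hA hAs hnd
    have hcA := Nat.card_congr (barEquiv (p := 3) hAs).toEquiv
    rcases (block_shape hA).2.2 with hd | ⟨h, -⟩ | ⟨-, h8, -⟩
    · exact absurd (hcA ▸ hd) hnd
    · omega
    · exact hcA ▸ h8
  obtain ⟨-, ⟨ρ, ψ, hψs, hψ, hact, -, -, hsurj⟩, -⟩ :=
    (tiny3_top hE hEs (h8 hE hEs hndE)).resolve_left fun e => ha (le_sup_left.trans (hsE.trans e).le)
  obtain ⟨-, ⟨ρ', φ, -, hφ, hact', -, -, hsurj'⟩, -⟩ :=
    (tiny3_top hF hFs (h8 hF hFs hndF)).resolve_left fun e => hb (le_sup_left.trans (hsF.trans e).le)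
  refine two_quat (U := D) (U₀ := D ⊓ wOf 3 E) (le_sup_left.trans hsE.le) rfl hsE.ge hnE
    (le_sup_left.trans hsF.le) hC ρ ψ hψs hψ hact hsurj ρ' φ hφ hact' hsurj' hDE hDF hV.2.2.2.1
    fun e he f hf u hu => ?_
  have h1 : f * (e * u * e⁻¹) * f⁻¹ ∈ D :=
    (mem_normalizer_iff.1 (hDF hf) _).1 ((mem_normalizer_iff.1 (hDE he) u).1 hu)
  have e1 : e * (f * u * f⁻¹) * e⁻¹ * (f * (e * u * e⁻¹) * f⁻¹)⁻¹ = ⁅f * (e * u * e⁻¹) * f⁻¹, ⁅e, f⁆⁆⁻¹ := by
    simp only [commutatorElement_def]; group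
  rw [e1]
  exact inv_mem (hcw _ (commutator_mem_commutator he hf) _ h1)

/-- blocks commuting modulo `O_p(G)` -/
theorem commuting (hG : centralizer (Cfsg.pCore p G : Set G) ≤ Cfsg.pCore p G)
    (hE : IsBlk p E) (hEs : E.IsSubnormal) (hF : IsBlk p F) (hFs : F.IsSubnormal)
    (hFE : F ≤ normalizer (E : Set G)) (hEF : E ≤ normalizer (F : Set G)) (hR : ⁅E, F⁆ ≤ Cfsg.pCore p G) :
    Pair E F := by
  haveI : (Cfsg.pCore p G).Normal := Cfsg.Lib.Components.pCore_normal' p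
  have hq := commutator_le_cores (p := p) hEs hFs hFE hEF hR
  have hR' : ⁅F, E⁆ ≤ Cfsg.pCore p G := by rw [commutator_comm]; exact hR
  by_cases hEc : ⁅w1Of p E, F⁆ = ⊥ ∧ ⁅w1Of p F, E⁆ = ⊥
  swap
  · -- the two modules coincide
    left
    have hne : ∀ {A B : Subgroup G}, IsBlk p A → ⁅w1Of p B, A⁆ = ⊥ → ¬ w1Of p A ≤ w1Of p B := by
      intro A B hA h hle
      have h1 : w1Of p A = ⊥ := by
        rw [← (wOf_eq_sup hA).2, eq_bot_iff, ← h]
        exact commutator_mono hle le_rfl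
      exact (irr_w1 hA).2.1 (by simp [h1])
    have hU : w1Of p E = w1Of p F := by
      rcases w1_cases hE hEs hFs hF hFE hEF hR hG with h1 | h1 <;>
        rcases w1_cases hF hFs hEs hE hEF hFE hR' hG with h2 | h2
      · exact absurd ⟨h1, h2⟩ hEc
      · exact absurd h2 (hne hF h1)
      · exact absurd h1 (hne hE h2)
      · exact le_antisymm h1 h2
    set U₀ := w1Of p E ⊓ zOf p E with hU₀
    have hU₀F : U₀ = w1Of p F ⊓ zOf p F := le_antisymm (le_inf (inf_le_left.trans hU.le) (inf_zOf_le hE hF hFE hU))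
      (le_inf (inf_le_left.trans hU.ge) (inf_zOf_le hF hE hEF hU.symm))
    have hU' : Irr p E (w1Of p E) U₀ := irr_w1 hE
    have hV' : Irr p F (w1Of p E) U₀ := by rw [hU₀F, hU]; exact irr_w1 hF
    have hn : w1Of p E ≤ normalizer (U₀ : Set G) := by
      intro w hw
      rw [mem_normalizer_iff]
      intro y
      rw [mem_inf, mem_inf]
      exact and_congr (mem_normalizer_iff.1 (le_normalizer hw) y)
        (mem_normalizer_iff.1 (w1_normalizer_zOf hE (w1_le_wOf hE) hw) y)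
    have hUp : IsPGroup p (w1Of p E) := (isPGroup_wOf E).to_le (w1_le_wOf hE)
    have hcw : ∀ s ∈ ⁅E, F⁆, ∀ u ∈ w1Of p E, Commute s u := fun s hs u hu =>
      mem_centralizer_iff.1 (mem_inf.1 (wOf_le E (w1_le_wOf hE hu))).2 s (mem_inf.1 (hq hs)).1
    have hndE : ¬ p ∣ Nat.card ↥(bar p E) := not_dvd_of_section hEs hU' hV' hn hUp fun e he f hf u hu => by
      rw [show f⁻¹ * e * f * e⁻¹ = ⁅e, f⁻¹⁆⁻¹ by rw [commutatorElement_def]; group,
        commutatorElement_eq_one_iff_mul_comm.2 ((hcw _ (commutator_mem_commutator he (inv_mem hf)) u hu).inv_left).symm.eq]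
      exact one_mem _
    have hndF : ¬ p ∣ Nat.card ↥(bar p F) := not_dvd_of_section hFs hV' hU' hn hUp fun f hf e he u hu => by
      have hm : ⁅e⁻¹, f⁆ ∈ ⁅E, F⁆ := commutator_mem_commutator (inv_mem he) hf
      rw [show e⁻¹ * f * e * f⁻¹ = ⁅e⁻¹, f⁆ by rw [commutatorElement_def]; group,
        commutatorElement_eq_one_iff_mul_comm.2 (hcw _ hm u hu).symm.eq]
      exact one_mem _
    have hcE := Nat.card_congr (barEquiv (p := p) hEs).toEquiv
    have hcF := Nat.card_congr (barEquiv (p := p) hFs).toEquiv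
    rcases (block_shape hE).2.2 with hd | ⟨rfl, hE3, -⟩ | ⟨rfl, hE8, -⟩
    · exact absurd (hcE ▸ hd) hndE
    · rcases (block_shape hF).2.2 with hd | ⟨-, hF3, -⟩ | ⟨h, -⟩
      · exact absurd (hcF ▸ hd) hndF
      · exact le_antisymm
          (two_pair hG hF hFs hE hEs (hcF ▸ hF3) (hcE ▸ hE3) hEF hFE hR' hU.symm)
          (two_pair hG hE hEs hF hFs (hcE ▸ hE3) (hcF ▸ hF3) hFE hEF hR hU)
      · omega
    · rcases (block_shape hF).2.2 with hd | ⟨h, -⟩ | ⟨-, hF8, -⟩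
      · exact absurd (hcF ▸ hd) hndF
      · omega
      exfalso
      obtain ⟨-, -, ρ, ψ, hψs, hψ, hact, -, -, hsurj⟩ := tiny3 hE hEs (hcE ▸ hE8)
      obtain ⟨-, -, ρ', φ, hφs, hφ, hact', -, -, hsurj'⟩ := tiny3 hF hFs (hcF ▸ hF8)
      refine two_quat (U := w1Of 3 E) (U₀ := U₀) (w1_le_wOf hE) hU₀ (wOf_eq_sup hE).1.ge
        (w1_normalizer_zOf hE (w1_le_wOf hE)) (hU.le.trans (w1_le_wOf hF)) (by rw [hU₀F, hU]) ρ ψ hψs hψ hact hsurj
        ρ' φ hφ hact' hsurj' hU'.2.2.1 hV'.2.2.1 hV'.2.2.2.1 fun e he f hf u hu => ?_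
      have h1 : f * (e * u * e⁻¹) * f⁻¹ ∈ w1Of 3 E :=
        conj_w1_self hE (hFE hf) (conj_w1_self hE (le_normalizer he) hu)
      have h3 := (hcw _ (commutator_mem_commutator he hf) _ h1).eq
      have e1 : e * (f * u * f⁻¹) * e⁻¹ = ⁅e, f⁆ * (f * (e * u * e⁻¹) * f⁻¹) * ⁅e, f⁆⁻¹ := by
        rw [commutatorElement_def]; group
      rw [e1, h3, mul_inv_cancel_right, mul_inv_cancel]
      exact one_mem _
  right
  obtain ⟨hEc, hFc⟩ := hEc
  -- the commutator in the modules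
  have hq' : ⁅F, E⁆ ≤ qOf p F ⊓ qOf p E := by rw [commutator_comm, inf_comm]; exact hq
  have hz : ∀ {A B : Subgroup G}, IsBlk p A → ⁅w1Of p A, B⁆ = ⊥ → ⁅A, B⁆ ≤ wOf p A →
      B ≤ normalizer (A : Set G) → B ≤ centralizer (wOf p A : Set G) := by
    intro A B hA hc hD hBA
    rw [commutator_eq_bot_iff_le_centralizer, le_centralizer_iff] at hc
    rw [le_centralizer_iff, ← (wOf_eq_sup hA).1]
    refine sup_le (le_centralizer_iff.1 hc) ?_
    rcases top_kind hA with hl | ⟨-, -, h5, -⟩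
    · refine le_trans (le_trans inf_le_left ?_) (le_centralizer_iff.1 hc)
      conv_lhs => rw [← hl, ← commutator_qOf hA]
      rw [w1Of, hl]
    rw [← h5, commutator_le]
    intro x hx y hy
    rw [mem_centralizer_iff]
    intro b hb
    have hmove : ∀ a ∈ qOf p A, ∃ w ∈ wOf p A, b * a * b⁻¹ = a * w := by
      intro a ha
      refine ⟨a⁻¹ * (b * a * b⁻¹), hD ?_, by group⟩
      rw [show a⁻¹ * (b * a * b⁻¹) = ⁅a⁻¹, b⁆ by rw [commutatorElement_def]; group]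
      exact commutator_mem_commutator (inv_mem (qOf_le A ha)) hb
    obtain ⟨w, hw, hwx⟩ := hmove x hx
    obtain ⟨w', hw', hwy⟩ := hmove y hy
    have hcen : ∀ a ∈ qOf p A, ∀ c ∈ wOf p A, Commute a c := fun a ha c hc =>
      mem_centralizer_iff.1 (mem_inf.1 (wOf_le A hc)).2 a ha
    have h : b * ⁅x, y⁆ * b⁻¹ = ⁅x, y⁆ := by
      have e1 : b * ⁅x, y⁆ * b⁻¹ = ⁅b * x * b⁻¹, b * y * b⁻¹⁆ := by simp only [commutatorElement_def]; group
      have hyw : y * w' ∈ qOf p A := mul_mem hy ((wOf_le A).trans inf_le_left hw')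
      rw [e1, hwx, hwy]
      calc ⁅x * w, y * w'⁆ = x * (w * (y * w')) * w⁻¹ * x⁻¹ * (y * w')⁻¹ := by
            rw [commutatorElement_def]; group
        _ = x * ((y * w') * w) * w⁻¹ * x⁻¹ * (y * w')⁻¹ := by rw [(hcen _ hyw w hw).eq]
        _ = x * y * (w' * x⁻¹) * (y * w')⁻¹ := by group
        _ = x * y * (x⁻¹ * w') * (y * w')⁻¹ := by rw [(hcen _ (inv_mem hx) w' hw').eq]
        _ = ⁅x, y⁆ := by rw [commutatorElement_def]; group
    calc b * ⁅x, y⁆ = b * ⁅x, y⁆ * b⁻¹ * b := by group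
      _ = ⁅x, y⁆ * b := by rw [h]
  have hdich : ∀ {A B : Subgroup G}, IsBlk p A → ⁅A, B⁆ ≤ qOf p A →
      ⁅A, B⁆ ≤ wOf p A ∨ (p = 3 ∧ ⁅A, B⁆ ⊔ wOf p A = qOf p A) := by
    intro A B hA hD
    rcases top_kind hA with hl | ⟨h3, hirr, -, -⟩
    · exact Or.inl (hl ▸ hD)
    have hI : ∀ a ∈ A, ∀ u ∈ ⁅A, B⁆ ⊔ wOf p A, a * u * a⁻¹ ∈ ⁅A, B⁆ ⊔ wOf p A := by
      intro a ha
      have h : ⁅A, B⁆ ⊔ wOf p A ≤ (⁅A, B⁆ ⊔ wOf p A).comap (MulAut.conj a).toMonoidHom := by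
        refine sup_le (fun x hx => ?_) fun z hz => ?_
        · show a * x * a⁻¹ ∈ ⁅A, B⁆ ⊔ wOf p A
          exact mem_sup_left ((mem_normalizer_iff.1 (normalizer_commutator_ge_left A B ha) x).1 hx)
        · show a * z * a⁻¹ ∈ ⁅A, B⁆ ⊔ wOf p A
          exact mem_sup_right ((mem_normalizer_iff.1 (hirr.2.2.2.1 ha) z).1 hz)
      exact fun u hu => h hu
    rcases hirr.2.2.2.2.1 _ le_sup_right (sup_le hD ((wOf_le A).trans inf_le_left)) hI with h | h
    · exact Or.inl (le_sup_left.trans h.le)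
    · exact Or.inr ⟨h3, h⟩
  -- a block whose commutator is in the module of the other
  have hab : ∀ {A B : Subgroup G}, IsBlk p A → ⁅A, B⁆ ≤ qOf p A → ⁅A, B⁆ ≤ wOf p B → ⁅A, B⁆ ≤ wOf p A := by
    intro A B hA hD hDB
    rcases top_kind hA with hl | ⟨-, -, h5, hne⟩
    · exact hl ▸ hD
    rcases hdich hA hD with h | ⟨-, h⟩
    · exact h
    exfalso
    apply hne
    rw [← h5, commutator_eq_bot_iff_le_centralizer]
    have h1 : wOf p A ≤ centralizer (qOf p A : Set G) := (wOf_le A).trans inf_le_right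
    conv_lhs => rw [← h]
    refine sup_le ?_ h1
    rw [le_centralizer_iff]
    conv_lhs => rw [← h]
    refine sup_le (fun x hx => mem_centralizer_iff.2 fun y hy => wOf_comm B (hDB hy) (hDB hx)) ?_
    exact h1.trans (centralizer_le hD)
  set D := ⁅E, F⁆ with hD
  have hDFE : ⁅F, E⁆ = D := commutator_comm F E
  have hDq : D ≤ qOf p E := hq.trans inf_le_left
  have hDq' : D ≤ qOf p F := hq.trans inf_le_right
  by_cases hab' : D ≤ wOf p E ∨ D ≤ wOf p F
  · obtain ⟨-, hb⟩ : D ≤ wOf p E ∧ D ≤ wOf p F := by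
      rcases hab' with h | h
      · exact ⟨h, hDFE ▸ hab hF (hDFE.symm ▸ hDq') (hDFE.symm ▸ h)⟩
      · exact ⟨hab hE hDq h, h⟩
    refine bot_of_central hE hDq ?_
    rw [le_centralizer_iff]
    exact (hz hF hFc (hDFE.symm ▸ hb) hEF).trans (centralizer_le hb)
  exfalso
  rw [not_or] at hab'
  obtain ⟨ha, hb⟩ := hab'
  obtain ⟨hp3, hsE⟩ := (hdich hE hDq).resolve_left ha
  obtain ⟨-, hsF⟩ := (hdich hF (hDFE.symm ▸ hDq')).resolve_left (hDFE.symm ▸ hb)
  rw [hDFE] at hsF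
  subst hp3
  exact two_top hG hE hEs hF hFs hFE hEF hR hEc hFc hsE hsF ha hb

end Cfsg.Lib.BlockPair
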