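/-
Subnormal blocks in a group of characteristic p are equal or commute.
-/
import Cfsg.Agent.BlockPair.Pair

set_option autoImplicit false

namespace Cfsg.Lib.BlockPair

set_option linter.style.haveILetI false
set_option linter.unusedSectionVars false

open Subgroup
open scoped commutatorElement

universe u

variable {G : Type u} [Group G] [Finite G] {p : ℕ} [hp : Fact p.Prime] {E F : Subgroup G}

/-- a block inside another one which normalizes it is equal to it -/
theorem eq_of_bar_le [(Cfsg.pCore p G).Normal] (hE : IsBlk p E) (hEs : E.IsSubnormal) (hF : IsBlk p F)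
    (hFs : F.IsSubnormal) (hEF : E ≤ normalizer (F : Set G)) (h : bar p F ≤ bar p E) : E = F := by
  have hFE : F ≤ E := bar_le hE hF h
  refine le_antisymm (bar_le hF hE ?_) hFE
  by_contra hnot
  haveI hn : ((bar p F).subgroupOf (bar p E)).Normal :=
    normal_subgroupOf_of_le_normalizer ((map_mono hEF).trans (le_normalizer_map _))
  have hne : (bar p F).subgroupOf (bar p E) ≠ ⊤ := fun e => hnot (subgroupOf_eq_top.1 e)
  have hc := Nat.card_congr (subgroupOfEquivOfLe h).toEquiv
  have hs := small_bar hE hEs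
  by_cases h2 : p = 2
  · haveI := hs.1 h2
    rw [(IsSimpleGroup.eq_bot_or_eq_top_of_normal _ hn).resolve_right hne, card_bot] at hc
    exact absurd hc (bar_ne_bot hF hFs).ne
  · have h4 := (hs.2 h2).2.1 _ hn hne
    have h8 := ((small_bar hF hFs).2 h2).1
    omega

theorem commutator_eq_bot_of_perfect [(Cfsg.pCore p G).Normal] (hE : IsBlk p E) (hEs : E.IsSubnormal)
    (hF : IsBlk p F) (hFs : F.IsSubnormal) (hFE : F ≤ normalizer (E : Set G)) (hEF : E ≤ normalizer (F : Set G))
    (hne : E ≠ F) (hperf : commutator ↥(bar p E) = ⊤)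
    (hcen : ∀ N : Subgroup ↥(bar p E), N.Normal → N ≠ ⊤ → N ≤ center _) : ⁅bar p E, bar p F⁆ = ⊥ := by
  set A := bar p E with hA
  set B := bar p F with hB
  have hAB : B ≤ normalizer (A : Set _) := (map_mono hFE).trans (le_normalizer_map _)
  have hBA : A ≤ normalizer (B : Set _) := (map_mono hEF).trans (le_normalizer_map _)
  haveI hn : ((A ⊓ B).subgroupOf A).Normal := by
    rw [inf_subgroupOf_left]
    exact normal_subgroupOf_of_le_normalizer hBA
  have hnt : (A ⊓ B).subgroupOf A ≠ ⊤ := fun e =>
    hne.symm (eq_of_bar_le hF hFs hE hEs hFE ((subgroupOf_eq_top.1 e).trans inf_le_right))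
  have hI : ⁅A, B⁆ ≤ A ⊓ B := le_inf (le_normalizer_iff_commutator_le_left.mp hAB)
    (commutator_comm A B ▸ le_normalizer_iff_commutator_le_left.mp hBA)
  have hc : A ⊓ B ≤ centralizer (A : Set _) := fun x hx => mem_centralizer_iff.2 fun a ha =>
    congrArg Subtype.val (mem_center_iff.1 (hcen _ hn hnt (x := ⟨x, (mem_inf.1 hx).1⟩) hx) ⟨a, ha⟩)
  have h1 : ⁅⁅A, A⁆, B⁆ = ⊥ := by
    refine commutator_commutator_eq_bot_of_rotate ?_ ?_
    · rw [commutator_eq_bot_iff_le_centralizer]
      exact hI.trans hc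
    · rw [commutator_eq_bot_iff_le_centralizer, commutator_comm B A]
      exact hI.trans hc
  have h : ⁅A, A⁆ = A := by
    have := congrArg (fun S => S.map A.subtype) hperf
    simp only [_root_.commutator_def, map_commutator] at this
    rwa [← MonoidHom.range_eq_map, range_subtype] at this
  rwa [h] at h1

theorem pair_mutual (hG : centralizer (Cfsg.pCore p G : Set G) ≤ Cfsg.pCore p G)
    (hE : IsBlk p E) (hEs : E.IsSubnormal) (hF : IsBlk p F) (hFs : F.IsSubnormal)
    (hFE : F ≤ normalizer (E : Set G)) (hEF : E ≤ normalizer (F : Set G)) : Pair E F := by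
  haveI : (Cfsg.pCore p G).Normal := Cfsg.Lib.Components.pCore_normal' p
  by_cases hne : E = F
  · exact Or.inl hne
  refine commuting hG hE hEs hF hFs hFE hEF (commutator_bar_eq_bot_iff.1 ?_)
  rcases kind hE hEs with ⟨hperf, hcen⟩ | hkE
  · exact commutator_eq_bot_of_perfect hE hEs hF hFs hFE hEF hne hperf hcen
  rcases kind hF hFs with ⟨hperf, hcen⟩ | hkF
  · rw [commutator_comm]
    exact commutator_eq_bot_of_perfect hF hFs hE hEs hEF hFE (Ne.symm hne) hperf hcen
  have hAB : bar p F ≤ normalizer (bar p E : Set _) := (map_mono hFE).trans (le_normalizer_map _)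
  have hBA : bar p E ≤ normalizer (bar p F : Set _) := (map_mono hEF).trans (le_normalizer_map _)
  have hI : ⁅bar p E, bar p F⁆ ≤ bar p E ⊓ bar p F := le_inf (le_normalizer_iff_commutator_le_left.mp hAB)
    (commutator_comm (bar p E) (bar p F) ▸ le_normalizer_iff_commutator_le_left.mp hBA)
  refine eq_bot_iff.2 (hI.trans (le_of_eq ?_))
  by_contra hbot
  rcases hkE with ⟨rfl, hE3⟩ | ⟨rfl, hE8⟩
  · refine hne (eq_of_bar_le hF hFs hE hEs hFE ?_).symm
    haveI := (small_bar hE hEs).1 rfl
    haveI : ((bar 2 E ⊓ bar 2 F).subgroupOf (bar 2 E)).Normal := by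
      rw [inf_subgroupOf_left]
      exact normal_subgroupOf_of_le_normalizer hBA
    rcases IsSimpleGroup.eq_bot_or_eq_top_of_normal ((bar 2 E ⊓ bar 2 F).subgroupOf (bar 2 E)) inferInstance with h | h
    · exact absurd (disjoint_iff.1 (subgroupOf_eq_bot.1 h)) (by simpa [inf_assoc, inf_comm, inf_left_comm] using hbot)
    · exact (subgroupOf_eq_top.1 h).trans inf_le_right
  · rcases hkF with ⟨h, -⟩ | ⟨-, hF8⟩
    · omega
    · exact hne (eq_of_bar_le hE hEs hF hFs hEF (quat_pair hG hE hEs hF hFs hE8 hF8 hFE hbot))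

/-- subnormal blocks are equal or commute -/
theorem pair (hG : centralizer (Cfsg.pCore p G : Set G) ≤ Cfsg.pCore p G)
    (hE : IsBlk p E) (hEs : E.IsSubnormal) (hF : IsBlk p F) (hFs : F.IsSubnormal) : Pair E F := by
  suffices H : ∀ (k : ℕ) (N : Subgroup G), Nat.card N = k → N.IsSubnormal → ∀ A B : Subgroup G, IsBlk p A →
      IsBlk p B → A.IsSubnormal → B.IsSubnormal → A ≤ N → B ≤ N → Pair A B from
    H _ ⊤ rfl (Subgroup.Normal.isSubnormal inferInstance) E F hE hF hEs hFs le_top le_top
  intro k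
  induction k using Nat.strong_induction_on with
  | _ k ih =>
    intro N hN hNs A B hA hB hAs hBs hAN hBN
    subst hN
    have hbelow : Below p N := fun M hM hlt => ih _ hlt M rfl hM
    rcases pair_or_normalizer hG hbelow hNs hA hB hAs hBs hAN hBN with h | h1
    · exact h
    rcases pair_or_normalizer hG hbelow hNs hB hA hBs hAs hBN hAN with h | h2
    · exact h.symm
    exact pair_mutual hG hA hAs hB hBs h1 h2

end Cfsg.Lib.BlockPair
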