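/-
Fixed points of p-subgroups normalizing a block; the shape of a block.
-/
import Cfsg.Agent.BlockPair.Main
import Cfsg.Agent.BlockPair.Line

set_option autoImplicit false

namespace Cfsg.Lib.BlockPair

set_option linter.style.haveILetI false
set_option linter.unusedSectionVars false

open Subgroup Matrix
open scoped commutatorElement MatrixGroups

universe u

variable {G : Type u} [Group G] [Finite G] {p : ℕ} [hp : Fact p.Prime] {E : Subgroup G}

/-- `p`-groups have fixed points on sections -/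
theorem exists_fixed_group {U U₀ : Subgroup G} (hUp : IsPGroup p U) (hne : ¬ U ≤ U₀) {P : Subgroup G}
    (hP : IsPGroup p P) (hPU : P ≤ normalizer (U : Set G)) :
    ∃ u ∈ U, u ∉ U₀ ∧ ∀ x ∈ P, ⁅u, x⁆ ∈ U₀ := by
  suffices H : ∀ (k : ℕ) (D : Subgroup G), Nat.card D = k → D ≤ U → P ≤ normalizer (D : Set G) → ¬ D ≤ U₀ →
      ∃ u ∈ U, u ∉ U₀ ∧ ∀ x ∈ P, ⁅u, x⁆ ∈ U₀ from H _ U rfl le_rfl hPU hne
  intro k
  induction k using Nat.strong_induction_on with
  | _ k ih =>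
    intro D hk hDU hPD hD
    by_cases h : ⁅D, P⁆ ≤ U₀
    · obtain ⟨u, hu, hu'⟩ := SetLike.not_le_iff_exists.1 hD
      exact ⟨u, hDU hu, hu', fun x hx => h (commutator_mem_commutator hu hx)⟩
    have hDne : D ≠ ⊥ := fun e => hD (e ▸ bot_le)
    have hlt := Cfsg.Lib.Components.commutator_pGroup_lt (hUp.to_le hDU) hP hPD hDne
    refine ih _ ?_ _ rfl (hlt.le.trans hDU) (normalizer_commutator_ge_right _ _) h
    subst hk
    refine lt_of_le_of_ne (Nat.le_of_dvd Nat.card_pos (card_dvd_of_le hlt.le)) fun e => hlt.ne ?_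
    exact Subgroup.eq_of_le_of_card_ge hlt.le e.ge

/-- a `p`-subgroup fixes a nontrivial element -/
theorem exists_fixed_exact {M : Subgroup G} (hMp : IsPGroup p M) (hne : M ≠ ⊥) {P : Subgroup G}
    (hP : IsPGroup p P) (hPM : P ≤ normalizer (M : Set G)) : ∃ u ∈ M, u ≠ 1 ∧ ∀ x ∈ P, Commute u x := by
  obtain ⟨u, hu, hu', h⟩ := exists_fixed_group (U₀ := ⊥) hMp (fun h => hne (le_bot_iff.1 h)) hP hPM
  exact ⟨u, hu, fun e => hu' (Subgroup.mem_bot.2 e), fun x hx =>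
    commutatorElement_eq_one_iff_mul_comm.1 (Subgroup.mem_bot.1 (h x hx))⟩

/-- acting trivially on `W / Z` -/
def TrivMod (p : ℕ) (E : Subgroup G) (k : G) : Prop :=
  k ∈ normalizer (E : Set G) ∧ ∀ u ∈ wOf p E, ⁅u, k⁆ ∈ zOf p E

theorem decompose (hE : IsBlk p E) {u : G} (hu : u ∈ wOf p E) :
    ∃ a ∈ w1Of p E, ∃ z ∈ zOf p E, u = a * z := by
  rw [← (wOf_eq_sup hE).1, ← SetLike.mem_coe,
    coe_mul_of_left_le_normalizer_right _ _ (w1_normalizer_zOf hE (w1_le_wOf hE))] at hu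
  obtain ⟨a, ha, z, hz, h⟩ := Set.mem_mul.1 hu
  exact ⟨a, ha, z, hz, h.symm⟩

theorem comm_decompose {a z e : G} (hz : z ∈ zOf p E) (he : e ∈ E) : ⁅a * z, e⁆ = ⁅a, e⁆ := by
  have hc := mem_centralizer_iff.1 (mem_inf.1 hz).2 e he
  simp only [commutatorElement_def]
  calc a * z * e * (a * z)⁻¹ * e⁻¹ = a * (z * e) * (z⁻¹ * a⁻¹) * e⁻¹ := by group
    _ = a * (e * z) * (z⁻¹ * a⁻¹) * e⁻¹ := by rw [hc]
    _ = a * e * a⁻¹ * e⁻¹ := by group

/-- trivial action modulo the centre part is exact on `[W, E]` and trivial on `E / O_p(E)` -/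
theorem TrivMod.exact (hE : IsBlk p E) {k : G} (hk : TrivMod p E k) :
    (∀ u ∈ w1Of p E, Commute k u) ∧ ∀ e ∈ E, k * e * k⁻¹ * e⁻¹ ∈ qOf p E := by
  obtain ⟨hkn, hk⟩ := hk
  obtain ⟨-, -, hEW, hEZ, -, hfaith⟩ := irr_module hE
  have hact : ∀ u ∈ wOf p E, ∃ z ∈ zOf p E, k * u * k⁻¹ = u * z := fun u hu => by
    refine ⟨u⁻¹ * (k * u * k⁻¹), ?_, by group⟩
    have h := (mem_normalizer_iff.1 (w1_normalizer_zOf hE le_rfl (inv_mem hu)) _).1 (inv_mem (hk u hu))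
    have e : u⁻¹ * ⁅u, k⁆⁻¹ * u⁻¹⁻¹ = u⁻¹ * (k * u * k⁻¹) := by rw [commutatorElement_def]; group
    rwa [e] at h
  have hs : ∀ e ∈ E, k * e * k⁻¹ * e⁻¹ ∈ qOf p E := by
    intro e he
    have hm : k * e * k⁻¹ * e⁻¹ ∈ E := mul_mem ((mem_normalizer_iff.1 hkn e).1 he) (inv_mem he)
    refine hfaith _ hm fun u hu => ?_
    have h := (mem_normalizer_iff.1 (hEZ hm) _).1 (one_mem (zOf p E))
    set s := k * e * k⁻¹ * e⁻¹ with hs
    -- the action of `s`
    obtain ⟨z₁, hz₁, h1⟩ := hact (e⁻¹ * u * e⁻¹⁻¹) ((mem_normalizer_iff.1 (hEW (inv_mem he)) u).1 hu)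
    have hu' : k⁻¹ * u * k ∈ wOf p E := by
      have := conj_wOf (g := k⁻¹) (inv_mem hkn) hu
      rwa [inv_inv] at this
    obtain ⟨z₂, hz₂, h2⟩ := hact _ hu'
    have h2' : k⁻¹ * u * k = u * z₂⁻¹ := by
      rw [show k * (k⁻¹ * u * k) * k⁻¹ = u by group] at h2
      rw [eq_mul_inv_iff_mul_eq]; exact h2.symm
    have hsu : s * u * s⁻¹ = k * (e * (k⁻¹ * (e⁻¹ * u * e) * k) * e⁻¹) * k⁻¹ := by rw [hs]; group
    have hz3 : e⁻¹ * u * e ∈ wOf p E := by
      have := (mem_normalizer_iff.1 (hEW (inv_mem he)) u).1 hu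
      rwa [inv_inv] at this
    have hu3 : k⁻¹ * (e⁻¹ * u * e) * k ∈ wOf p E := by
      have := conj_wOf (g := k⁻¹) (inv_mem hkn) hz3
      rwa [inv_inv] at this
    obtain ⟨z₄, hz₄, h4⟩ := hact _ hu3
    rw [show k * (k⁻¹ * (e⁻¹ * u * e) * k) * k⁻¹ = e⁻¹ * u * e by group] at h4
    have h5 : k⁻¹ * (e⁻¹ * u * e) * k = e⁻¹ * u * e * z₄⁻¹ := by
      rw [eq_mul_inv_iff_mul_eq]; exact h4.symm
    have hez : e * z₄⁻¹ * e⁻¹ = z₄⁻¹ := by
      rw [mem_centralizer_iff.1 (mem_inf.1 (inv_mem hz₄)).2 e he, mul_inv_cancel_right]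
    obtain ⟨z₅, hz₅, h6⟩ := hact (u * z₄⁻¹) (mul_mem hu (mem_inf.1 (inv_mem hz₄)).1)
    have h7 : s * u * s⁻¹ = u * (z₄⁻¹ * z₅) := by
      rw [hsu, h5, show e * (e⁻¹ * u * e * z₄⁻¹) * e⁻¹ = u * (e * z₄⁻¹ * e⁻¹) by group, hez, h6]
      group
    rw [commutatorElement_def, show u * s * u⁻¹ * s⁻¹ = u * (s * u * s⁻¹)⁻¹ by group, h7,
      show u * (u * (z₄⁻¹ * z₅))⁻¹ = u * (z₄⁻¹ * z₅)⁻¹ * u⁻¹ by group]
    exact (mem_normalizer_iff.1 (w1_normalizer_zOf hE le_rfl hu) _).1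
      (inv_mem (mul_mem (inv_mem hz₄) hz₅))
  refine ⟨?_, hs⟩
  suffices h : w1Of p E ≤ centralizer ({k} : Set G) from fun u hu =>
    mem_centralizer_iff.1 (h hu) k rfl
  show ⁅wOf p E, E⁆ ≤ _
  rw [commutator_le]
  intro w hw e he
  refine mem_centralizer_iff.2 fun y hy => ?_
  rw [Set.mem_singleton_iff.1 hy]
  obtain ⟨z, hz, h1⟩ := hact w hw
  set s := k * e * k⁻¹ * e⁻¹ with hs'
  have hke : k * e * k⁻¹ = s * e := by rw [hs']; group
  have hse : s * e ∈ E := hke ▸ (mem_normalizer_iff.1 hkn e).1 he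
  have h : k * ⁅w, e⁆ * k⁻¹ = ⁅w, e⁆ := by
    rw [show k * ⁅w, e⁆ * k⁻¹ = ⁅k * w * k⁻¹, k * e * k⁻¹⁆ by simp only [commutatorElement_def]; group, h1, hke,
      comm_decompose hz hse]
    have hsw : ⁅w, s⁆ = 1 := commutatorElement_eq_one_iff_mul_comm.2
      (mem_centralizer_iff.1 (mem_inf.1 (wOf_le E hw)).2 s (hs e he)).symm
    have hm : ⁅w, e⁆ ∈ wOf p E := le_normalizer_iff_commutator_le_left.mp hEW (commutator_mem_commutator hw he)
    calc ⁅w, s * e⁆ = ⁅w, s⁆ * (s * ⁅w, e⁆ * s⁻¹) := by simp only [commutatorElement_def]; group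
      _ = ⁅w, e⁆ := by
        rw [hsw, one_mul, mem_centralizer_iff.1 (mem_inf.1 (wOf_le E hm)).2 s (hs e he), mul_inv_cancel_right]
  calc k * ⁅w, e⁆ = k * ⁅w, e⁆ * k⁻¹ * k := by group
    _ = ⁅w, e⁆ * k := by rw [h]

theorem trivMod_of_commute (hE : IsBlk p E) {k : G} (hkn : k ∈ normalizer (E : Set G))
    (hk : ∀ u ∈ w1Of p E, Commute k u) : TrivMod p E k := by
  refine ⟨hkn, fun u hu => ?_⟩
  obtain ⟨a, ha, z, hz, rfl⟩ := decompose hE hu
  have e : ⁅a * z, k⁆ = a * ⁅z, k⁆ * a⁻¹ * ⁅a, k⁆ := by simp only [commutatorElement_def]; group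
  rw [e, commutatorElement_eq_one_iff_mul_comm.2 (hk a ha).eq.symm, mul_one]
  refine (mem_normalizer_iff.1 (w1_normalizer_zOf hE (w1_le_wOf hE) ha) _).1 ?_
  rw [commutatorElement_def, show z * k * z⁻¹ * k⁻¹ = z * (k * z * k⁻¹)⁻¹ by group]
  exact mul_mem hz (inv_mem (conj_zOf hkn hz))

/-- a Sylow subgroup of `E` normalized by a given `p`-subgroup -/
theorem exists_sylow_invariant {P : Subgroup G} (hP : IsPGroup p P) (hPE : P ≤ normalizer (E : Set G)) :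
    ∃ S : Subgroup G, S ≤ E ∧ IsPGroup p S ∧ P ≤ normalizer (S : Set G) ∧ ¬ p ∣ S.relIndex E ∧
      ∀ X : Subgroup G, IsPGroup p X → S ≤ X → X ≤ E → X = S := by
  set H := normalizer (E : Set G) with hH
  have hEH : E ≤ H := le_normalizer
  obtain ⟨T, hT⟩ := (IsPGroup.comap_subtype (K := H) hP).exists_le_sylow
  set E' := E.subgroupOf H with hE'
  haveI : E'.Normal := normal_subgroupOf_of_le_normalizer le_rfl
  set S' : Subgroup ↥H := (T : Subgroup ↥H) ⊓ E' with hS'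
  have hnd : ¬ p ∣ S'.relIndex E' := by
    intro hd
    rw [hS', inf_relIndex_right] at hd
    refine T.not_dvd_index (hd.trans ?_)
    have h1 := relIndex_mul_relIndex ⊥ (T : Subgroup ↥H) ((T : Subgroup ↥H) ⊔ E') bot_le le_sup_left
    have h2 := relIndex_mul_relIndex ⊥ E' ((T : Subgroup ↥H) ⊔ E') bot_le le_sup_right
    have h3 := relIndex_mul_relIndex ⊥ ((T : Subgroup ↥H) ⊓ E') (T : Subgroup ↥H) bot_le inf_le_left
    have h4 := relIndex_mul_relIndex ⊥ ((T : Subgroup ↥H) ⊓ E') E' bot_le inf_le_right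
    rw [relIndex_bot_left, relIndex_bot_left] at h1 h2 h3 h4
    rw [inf_relIndex_right] at h4
    rw [inf_comm, inf_relIndex_right] at h3
    rw [relIndex_sup_right] at h2
    have h5 : (T : Subgroup ↥H).relIndex E' = (T : Subgroup ↥H).relIndex ((T : Subgroup ↥H) ⊔ E') := by
      refine Nat.eq_of_mul_eq_mul_left (Nat.card_pos (α := ↥(T : Subgroup ↥H))) ?_
      rw [h1, ← h2, ← h4, ← h3, inf_comm]
      ring
    rw [h5]
    exact relIndex_dvd_index_of_le le_sup_left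
  refine ⟨S'.map H.subtype, ?_, (T.2.to_le inf_le_left).map _, ?_, ?_, ?_⟩
  · rintro _ ⟨x, hx, rfl⟩; exact (mem_inf.1 hx).2
  · intro x hx
    have hxT : (⟨x, hPE hx⟩ : ↥H) ∈ (T : Subgroup ↥H) := hT hx
    have hxn : (⟨x, hPE hx⟩ : ↥H) ∈ normalizer (S' : Set ↥H) := by
      rw [mem_normalizer_iff]
      intro y
      rw [hS', mem_inf, mem_inf]
      exact and_congr (mem_normalizer_iff.1 (le_normalizer hxT) y)
        (mem_normalizer_iff.1 (le_normalizer_of_normal (mem_top _)) y)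
    exact le_normalizer_map H.subtype ⟨_, hxn, rfl⟩
  · intro hd
    apply hnd
    rwa [← map_subgroupOf_eq_of_le hEH, relIndex_map_map_of_injective _ _ H.subtype_injective] at hd
  · intro X hX hle hXE
    refine le_antisymm ?_ hle
    rw [← relIndex_eq_one]
    obtain ⟨k, hk⟩ := IsPGroup.iff_card.mp hX
    have h1 : (S'.map H.subtype).relIndex X ∣ p ^ k := hk ▸ relIndex_dvd_card _ _
    obtain ⟨j, -, hj⟩ := (Nat.dvd_prime_pow hp.out).1 h1
    rcases Nat.eq_zero_or_pos j with rfl | hj0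
    · rw [hj, pow_zero]
    exfalso
    have h2 : (S'.map H.subtype).relIndex X ∣ (S'.map H.subtype).relIndex E :=
      ⟨X.relIndex E, (relIndex_mul_relIndex _ _ _ hle hXE).symm⟩
    have h3 : p ∣ (S'.map H.subtype).relIndex E := (dvd_pow_self p hj0.ne').trans (hj ▸ h2)
    apply hnd
    rwa [← map_subgroupOf_eq_of_le hEH, relIndex_map_map_of_injective _ _ H.subtype_injective] at h3

end Cfsg.Lib.BlockPair
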