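/-
The module of a block with explicit coordinates.
-/
import Cfsg.Agent.BlockPair.Fix

set_option autoImplicit false

namespace Cfsg.Lib.BlockPair

set_option linter.style.haveILetI false
set_option linter.unusedSectionVars false

open Subgroup Matrix
open scoped commutatorElement MatrixGroups

universe u

variable {G : Type u} [Group G] [Finite G] {p : ℕ} [hp : Fact p.Prime] {E : Subgroup G}

/-- coordinates for a linear or exceptional block -/
structure LinMod (p : ℕ) (E : Subgroup G) (F : Type) [Field F] [Fintype F] where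
  /-- exponent -/
  n : ℕ
  card : Fintype.card F = p ^ n
  /-- the representation -/
  ρ : ↥E →* SL(2, F)
  /-- the coordinates -/
  ψ : ↥(wOf p E) →* Multiplicative (Fin 2 → F)
  surj : Function.Surjective ψ
  kerψ : ∀ u : ↥(wOf p E), ψ u = 1 ↔ (u : G) ∈ zOf p E
  act : ∀ (e : ↥E) (u : ↥(wOf p E)), ∃ w : ↥(wOf p E), (w : G) = (e : G) * (u : G) * (e : G)⁻¹ ∧
    Multiplicative.toAdd (ψ w) =
      ((ρ e : SL(2, F)) : Matrix (Fin 2) (Fin 2) F).mulVec (Multiplicative.toAdd (ψ u))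
  range : ρ.range = commutator SL(2, F)
  kerρ : ∀ x : ↥E, ρ x = 1 ↔ (x : G) ∈ qOf p E

/-- coordinates for a symmetric block -/
structure AltMod (E : Subgroup G) (m : ℕ) where
  pos : 1 ≤ m
  /-- the representation -/
  ρ : ↥E →* Equiv.Perm (Fin (2 * m + 1))
  /-- the coordinates -/
  ψ : ↥(wOf 2 E) →* Multiplicative (Fin (2 * m + 1) → ZMod 2)
  range : ρ.range = alternatingGroup (Fin (2 * m + 1))
  even : ∀ u : ↥(wOf 2 E), ∑ i, Multiplicative.toAdd (ψ u) i = 0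
  surj : ∀ v : Fin (2 * m + 1) → ZMod 2, ∑ i, v i = 0 → ∃ u : ↥(wOf 2 E), Multiplicative.toAdd (ψ u) = v
  kerψ : ∀ u : ↥(wOf 2 E), ψ u = 1 ↔ (u : G) ∈ zOf 2 E
  act : ∀ (e : ↥E) (u : ↥(wOf 2 E)), ∃ w : ↥(wOf 2 E), (w : G) = (e : G) * (u : G) * (e : G)⁻¹ ∧
    ∀ i, Multiplicative.toAdd (ψ w) i = Multiplicative.toAdd (ψ u) ((ρ e)⁻¹ i)
  kerρ : ∀ x : ↥E, ρ x = 1 ↔ (x : G) ∈ qOf 2 E

theorem shape (hE : IsBlk p E) :
    (∃ (F : Type) (_ : Field F) (_ : Fintype F), Nonempty (LinMod p E F)) ∨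
      (p = 2 ∧ qOf p E = wOf p E ∧ ∃ m, Nonempty (AltMod E m)) := by
  have hfaith := (block_shape hE).2.1
  obtain ⟨T, hres, hEB, hQE, hne, hcase⟩ := id hE
  have hQtriv : ∀ x : ↥E, (x : G) ∈ qOf p E → ∀ u ∈ wOf p E, (x : G) * u * (x : G)⁻¹ = u := fun x hx u hu => by
    rw [mem_centralizer_iff.1 (mem_inf.1 (wOf_le E hu)).2 x hx, mul_inv_cancel_right]
  rcases hcase with ⟨F, iF, iFt, n, hF, -, ⟨-, -, ρ, ψ, hρ, hψs, hψ, hact⟩, -⟩ |
    ⟨hp2, m, ⟨hi⟩, ⟨-, -, ρ, ψ, hρ, hev, hψs, hψ, hact⟩, hQW⟩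
  · refine Or.inl ⟨F, iF, iFt, ⟨⟨n, hF, ρ, ψ, hψs, hψ, hact, hρ, fun x => ⟨fun hx => hfaith x x.2 fun u hu => ?_,
      fun hx => ?_⟩⟩⟩⟩
    · obtain ⟨w, hw1, hw2⟩ := hact x ⟨u, hu⟩
      rw [hx] at hw2
      replace hw2 : Multiplicative.toAdd (ψ w) = Multiplicative.toAdd (ψ ⟨u, hu⟩) := hw2.trans (one_mulVec _)
      have h1 := (hψ (w * ⟨u, hu⟩⁻¹)).1 (by
        rw [map_mul, map_inv, mul_inv_eq_one]; exact Multiplicative.toAdd.injective hw2)
      rw [Subgroup.coe_mul, Subgroup.coe_inv, hw1] at h1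
      exact h1
    · refine Subtype.ext (Matrix.ext_iff_mulVec.mpr fun v => ?_)
      obtain ⟨u, hu⟩ := hψs (Multiplicative.ofAdd v)
      obtain ⟨w, hw1, hw2⟩ := hact x u
      rw [Subtype.ext (hw1.trans (hQtriv x hx u u.2)), hu] at hw2
      simpa using hw2.symm
  · subst hp2
    rcases Nat.eq_zero_or_pos m with rfl | hm
    · exfalso
      obtain ⟨u, hu, hu'⟩ := SetLike.not_le_iff_exists.1 fun h : wOf 2 E ≤ zOf 2 E =>
        (irr_module hE).2.1 (le_antisymm h inf_le_left)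
      apply hu'
      refine (hψ ⟨u, hu⟩).1 (Multiplicative.toAdd.injective (funext fun i => ?_))
      have h := hev ⟨u, hu⟩
      rw [Fin.sum_univ_one] at h
      rw [Subsingleton.elim (α := Fin 1) i 0]
      exact h
    refine Or.inr ⟨rfl, hQW, m, ⟨⟨hm, ρ, ψ, hρ, hev, hψs, hψ, hact, fun x => ⟨fun hx => hfaith x x.2 fun u hu => ?_,
      fun hx => ?_⟩⟩⟩⟩
    · obtain ⟨w, hw1, hw2⟩ := hact x ⟨u, hu⟩
      have h1 := (hψ (w * ⟨u, hu⟩⁻¹)).1 (by
        rw [map_mul, map_inv, mul_inv_eq_one]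
        exact Multiplicative.toAdd.injective (funext fun i => by rw [hw2 i, hx]; simp))
      rw [Subgroup.coe_mul, Subgroup.coe_inv, hw1] at h1
      exact h1
    · refine Equiv.ext fun i => ?_
      by_contra hne'
      set j := ρ x i with hj
      obtain ⟨k, hk1, hk2⟩ : ∃ k : Fin (2 * m + 1), k ≠ i ∧ k ≠ j := by
        obtain ⟨k, -, hk⟩ := Finset.exists_mem_notMem_of_card_lt_card (s := ({i, j} : Finset (Fin (2 * m + 1))))
          (t := Finset.univ) (lt_of_le_of_lt Finset.card_le_two (by simp; omega))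
        simp only [Finset.mem_insert, Finset.mem_singleton, not_or] at hk
        exact ⟨k, hk.1, hk.2⟩
      obtain ⟨u, hu⟩ := hψs (Pi.single i 1 + Pi.single k 1) (by
        simp [Finset.sum_add_distrib, CharTwo.add_self_eq_zero])
      obtain ⟨w, hw1, hw2⟩ := hact x u
      have h1 := hw2 j
      rw [Subtype.ext (hw1.trans (hQtriv x hx u u.2)), hu, hj] at h1
      simp only [Equiv.Perm.inv_def, Equiv.symm_apply_apply] at h1
      have hji : j ≠ i := fun e => hne' e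
      simp [Pi.single_apply, hji, Ne.symm hk2, Ne.symm hk1, ← hj] at h1

end Cfsg.Lib.BlockPair
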