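/-
When `[W, E]` avoids the centre part.
-/
import Cfsg.Agent.BlockPair.Shape

set_option autoImplicit false

namespace Cfsg.Lib.BlockPair

set_option linter.style.haveILetI false
set_option linter.unusedSectionVars false

open Subgroup Matrix
open scoped commutatorElement MatrixGroups

universe u

variable {G : Type u} [Group G] [Finite G] {p : ℕ} [hp : Fact p.Prime] {E : Subgroup G}

theorem conj_wOf_mem (hE : IsBlk p E) {x u : G} (hx : x ∈ E) (hu : u ∈ wOf p E) : x * u * x⁻¹ ∈ wOf p E :=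
  (mem_normalizer_iff.1 ((irr_module hE).2.2.1 hx) u).1 hu

/-- the commutators of the module with one element -/
def mof (hE : IsBlk p E) {x : G} (hx : x ∈ E) (L : Subgroup G) (hL : L ≤ wOf p E) : Subgroup G where
  carrier := {d | ∃ w ∈ L, d = ⁅w, x⁆}
  one_mem' := ⟨1, one_mem _, by simp⟩
  mul_mem' := by
    rintro _ _ ⟨a, ha, rfl⟩ ⟨b, hb, rfl⟩
    refine ⟨b * a, mul_mem hb ha, ?_⟩
    have hd : ⁅a, x⁆ ∈ wOf p E :=
      le_normalizer_iff_commutator_le_left.mp (irr_module hE).2.2.1 (commutator_mem_commutator (hL ha) hx)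
    have hd' : ⁅b, x⁆ ∈ wOf p E :=
      le_normalizer_iff_commutator_le_left.mp (irr_module hE).2.2.1 (commutator_mem_commutator (hL hb) hx)
    rw [show ⁅b * a, x⁆ = b * ⁅a, x⁆ * b⁻¹ * ⁅b, x⁆ by simp only [commutatorElement_def]; group,
      (wOf_comm E (hL hb) hd).eq, mul_inv_cancel_right]
  inv_mem' := by
    rintro _ ⟨a, ha, rfl⟩
    refine ⟨a⁻¹, inv_mem ha, ?_⟩
    have hd : ⁅a, x⁆ ∈ wOf p E :=
      le_normalizer_iff_commutator_le_left.mp (irr_module hE).2.2.1 (commutator_mem_commutator (hL ha) hx)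
    rw [show ⁅a⁻¹, x⁆ = a⁻¹ * ⁅a, x⁆⁻¹ * a⁻¹⁻¹ by simp only [commutatorElement_def]; group,
      (wOf_comm E (inv_mem (hL ha)) (inv_mem hd)).eq, mul_inv_cancel_right]

theorem mof_le (hE : IsBlk p E) {x : G} (hx : x ∈ E) {L : Subgroup G} (hL : L ≤ wOf p E) :
    mof hE hx L hL ≤ w1Of p E := by
  rintro _ ⟨w, hw, rfl⟩
  exact commutator_mem_commutator (hL hw) hx

/-- fixed commutators vanish -/
theorem mof_inf (hE : IsBlk p E) {x : G} (hx : x ∈ E) {L : Subgroup G} (hL : L ≤ wOf p E) {n : ℕ}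
    (hn : n.Coprime p) (hxn : x ^ n ∈ qOf p E) {d : G} (hd : d ∈ mof hE hx L hL) (hdZ : d ∈ zOf p E) : d = 1 := by
  obtain ⟨w, hw, rfl⟩ := hd
  set c := ⁅w, x⁆ with hc'
  have hc : Commute c x := (mem_centralizer_iff.1 (mem_inf.1 hdZ).2 x hx).symm
  have hit : ∀ k : ℕ, x ^ k * w * (x ^ k)⁻¹ = (c ^ k)⁻¹ * w := by
    intro k
    induction k with
    | zero => simp
    | succ k ih =>
      have h1 : x * w * x⁻¹ = c⁻¹ * w := by rw [hc', commutatorElement_def]; group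
      calc x ^ (k + 1) * w * (x ^ (k + 1))⁻¹ = x * (x ^ k * w * (x ^ k)⁻¹) * x⁻¹ := by rw [pow_succ']; group
        _ = (x * (c ^ k)⁻¹) * w * x⁻¹ := by rw [ih]; group
        _ = ((c ^ k)⁻¹ * x) * w * x⁻¹ := by rw [((hc.pow_left k).inv_left).eq]
        _ = (c ^ k)⁻¹ * (x * w * x⁻¹) := by group
        _ = (c ^ (k + 1))⁻¹ * w := by rw [h1, pow_succ']; group
  have h2 := hit n
  rw [mem_centralizer_iff.1 (mem_inf.1 (wOf_le E (hL hw))).2 _ hxn, mul_inv_cancel_right, eq_comm, mul_eq_right,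
    inv_eq_one] at h2
  exact orderOf_eq_one_iff.mp (Nat.eq_one_of_dvd_coprimes hn (orderOf_dvd_of_pow_eq_one h2)
    (orderOf_dvd_of_pow_eq_one (wOf_pow E (mem_inf.1 hdZ).1)))

/-- a power of order prime to `p` fixing a class fixes the element -/
theorem commute_of_class (hE : IsBlk p E) {x : G} (hx : x ∈ E) {n : ℕ} (hn : n.Coprime p) (hxn : x ^ n ∈ qOf p E)
    {u : G} (hu : u ∈ wOf p E) (h : ⁅u, x⁆ ∈ zOf p E) : Commute u x :=
  commutatorElement_eq_one_iff_mul_comm.1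
    (mof_inf hE hx le_rfl hn hxn (L := wOf p E) ⟨u, hu, rfl⟩ h)

theorem mof_congr (hE : IsBlk p E) {x q : G} (hx : x ∈ E) (hq : q ∈ qOf p E) {d : G}
    (hd : d ∈ mof hE hx (wOf p E) le_rfl) : d ∈ mof hE (mul_mem hx (qOf_le E hq)) (wOf p E) le_rfl := by
  obtain ⟨w, hw, rfl⟩ := hd
  refine ⟨w, hw, ?_⟩
  have hc : w * q = q * w := (mem_centralizer_iff.1 (mem_inf.1 (wOf_le E hw)).2 q hq).symm
  simp only [commutatorElement_def]
  calc w * x * w⁻¹ * x⁻¹ = w * x * (q * w) * w⁻¹ * w⁻¹ * q⁻¹ * x⁻¹ := by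
        rw [show w * x * (q * w) * w⁻¹ * w⁻¹ * q⁻¹ * x⁻¹ = w * x * q * w⁻¹ * q⁻¹ * x⁻¹ by group]
        have h' : q * w⁻¹ * q⁻¹ = w⁻¹ := by
          rw [show q * w⁻¹ * q⁻¹ = (q * w * q⁻¹)⁻¹ by group, ← hc, mul_inv_cancel_right]
        calc w * x * w⁻¹ * x⁻¹ = w * x * (q * w⁻¹ * q⁻¹) * x⁻¹ := by rw [h']
          _ = w * x * q * w⁻¹ * q⁻¹ * x⁻¹ := by group
    _ = w * (x * q) * w⁻¹ * (x * q)⁻¹ := by group

/-- the quotient is cyclic of order prime to `p` -/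
theorem inf_of_cyclic (hE : IsBlk p E) {x : G} (hx : x ∈ E) {n : ℕ} (hn : n.Coprime p) (hxn : x ^ n ∈ qOf p E)
    (hgen : ∀ e ∈ E, ∃ i : ℕ, (x ^ i)⁻¹ * e ∈ qOf p E) {u : G} (hu : u ∈ w1Of p E) (huZ : u ∈ zOf p E) : u = 1 := by
  refine mof_inf hE hx le_rfl hn hxn (L := wOf p E) ?_ huZ
  suffices h : w1Of p E ≤ mof hE hx (wOf p E) le_rfl from h hu
  show ⁅wOf p E, E⁆ ≤ _
  rw [commutator_le]
  intro w hw e he
  obtain ⟨i, hi⟩ := hgen e he
  have hq : ⁅w, (x ^ i)⁻¹ * e⁆ = 1 := commutatorElement_eq_one_iff_mul_comm.2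
    (mem_centralizer_iff.1 (mem_inf.1 (wOf_le E hw)).2 _ hi).symm
  have h1 : ⁅w, e⁆ = ⁅w, x ^ i⁆ := by
    calc ⁅w, e⁆ = ⁅w, x ^ i * ((x ^ i)⁻¹ * e)⁆ := by rw [mul_inv_cancel_left]
      _ = ⁅w, x ^ i⁆ * (x ^ i * ⁅w, (x ^ i)⁻¹ * e⁆ * (x ^ i)⁻¹) := by simp only [commutatorElement_def]; group
      _ = ⁅w, x ^ i⁆ := by rw [hq, mul_one, mul_inv_cancel, mul_one]
  rw [h1]
  clear hq h1 hi
  induction i generalizing w with
  | zero => simp [one_mem]
  | succ i ih =>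
    rw [show ⁅w, x ^ (i + 1)⁆ = ⁅w, x⁆ * (x * ⁅w, x ^ i⁆ * x⁻¹) by
      rw [pow_succ']; simp only [commutatorElement_def]; group]
    refine mul_mem (show ⁅w, x⁆ ∈ mof hE hx (wOf p E) le_rfl from ⟨w, hw, rfl⟩) ?_
    obtain ⟨w', hw', he'⟩ := ih w hw
    refine ⟨x * w' * x⁻¹, conj_wOf_mem hE hx hw', ?_⟩
    rw [he']
    simp only [commutatorElement_def]
    group

/-- an element inverting the module modulo the centre part -/
theorem inf_of_inverted (hE : IsBlk p E) (hodd : p ≠ 2) {z : G} (hzE : z ∈ E)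
    (hz : ∀ w ∈ wOf p E, z * w * z⁻¹ * w ∈ zOf p E) (hzc : ∀ e ∈ E, z * e * z⁻¹ * e⁻¹ ∈ qOf p E) :
    (∀ u ∈ w1Of p E, z * u * z⁻¹ = u⁻¹) ∧ ∀ u ∈ w1Of p E, u ∈ zOf p E → u = 1 := by
  have hinv : ∀ u ∈ w1Of p E, z * u * z⁻¹ = u⁻¹ := by
    let K : Subgroup G :=
      { carrier := {u | u ∈ wOf p E ∧ z * u * z⁻¹ = u⁻¹}
        one_mem' := ⟨one_mem _, by simp⟩
        mul_mem' := by
          rintro a b ⟨ha, ha'⟩ ⟨hb, hb'⟩
          refine ⟨mul_mem ha hb, ?_⟩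
          rw [_root_.mul_inv_rev, ← (wOf_comm E (inv_mem ha) (inv_mem hb)).eq, ← ha', ← hb']
          group
        inv_mem' := by
          rintro a ⟨ha, ha'⟩
          refine ⟨inv_mem ha, ?_⟩
          rw [show z * a⁻¹ * z⁻¹ = (z * a * z⁻¹)⁻¹ by group, ha'] }
    suffices h : w1Of p E ≤ K from fun u hu => (h hu).2
    rw [w1Of, commutator_le]
    intro w hw e he
    refine ⟨le_normalizer_iff_commutator_le_left.mp (irr_module hE).2.2.1 (commutator_mem_commutator hw he), ?_⟩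
    set c := z * w * z⁻¹ * w with hc
    set q := z * e * z⁻¹ * e⁻¹ with hq
    have hcZ : c ∈ zOf p E := hz w hw
    have hze : z * e * z⁻¹ ∈ E := mul_mem (mul_mem hzE he) (inv_mem hzE)
    have hsw : ∀ v ∈ wOf p E, ⁅v, q⁆ = 1 := fun v hv => commutatorElement_eq_one_iff_mul_comm.2
      (mem_centralizer_iff.1 (mem_inf.1 (wOf_le E hv)).2 q (hzc e he)).symm
    have hm : ⁅w⁻¹, e⁆ ∈ wOf p E :=
      le_normalizer_iff_commutator_le_left.mp (irr_module hE).2.2.1 (commutator_mem_commutator (inv_mem hw) he)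
    have hd : ⁅w, e⁆ ∈ wOf p E :=
      le_normalizer_iff_commutator_le_left.mp (irr_module hE).2.2.1 (commutator_mem_commutator hw he)
    have hzw : z * w * z⁻¹ = w⁻¹ * c := by
      rw [(wOf_comm E (inv_mem hw) (mem_inf.1 hcZ).1).eq, hc]; group
    calc z * ⁅w, e⁆ * z⁻¹ = ⁅z * w * z⁻¹, z * e * z⁻¹⁆ := by simp only [commutatorElement_def]; group
      _ = ⁅w⁻¹, z * e * z⁻¹⁆ := by rw [hzw, comm_decompose hcZ hze]
      _ = ⁅w⁻¹, q * e⁆ := by rw [hq]; group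
      _ = ⁅w⁻¹, q⁆ * (q * ⁅w⁻¹, e⁆ * q⁻¹) := by simp only [commutatorElement_def]; group
      _ = ⁅w⁻¹, e⁆ := by
        rw [hsw _ (inv_mem hw), one_mul, mem_centralizer_iff.1 (mem_inf.1 (wOf_le E hm)).2 q (hzc e he),
          mul_inv_cancel_right]
      _ = w⁻¹ * ⁅w, e⁆⁻¹ * w⁻¹⁻¹ := by simp only [commutatorElement_def]; group
      _ = ⁅w, e⁆⁻¹ := by rw [(wOf_comm E (inv_mem hw) (inv_mem hd)).eq, mul_inv_cancel_right]
  refine ⟨hinv, fun u hu huZ => ?_⟩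
  have h1 := hinv u hu
  rw [mem_centralizer_iff.1 (mem_inf.1 huZ).2 z hzE, mul_inv_cancel_right] at h1
  have h2 : u ^ 2 = 1 := by rw [pow_two]; nth_rw 2 [h1]; rw [mul_inv_cancel]
  exact orderOf_eq_one_iff.mp (Nat.eq_one_of_dvd_coprimes
    ((Nat.coprime_primes Nat.prime_two hp.out).2 (Ne.symm hodd)) (orderOf_dvd_of_pow_eq_one h2)
    (orderOf_dvd_of_pow_eq_one (wOf_pow E (mem_inf.1 huZ).1)))

/-- the minus one matrix is a commutator -/
theorem neg_one_mem_commutator {F : Type} [Field F] [Fintype F] (hodd : ringChar F ≠ 2) :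
    (-1 : SL(2, F)) ∈ commutator SL(2, F) := by
  by_cases h4 : 4 ≤ Fintype.card F
  · rw [Cfsg.Lib.Known.sl2_commutator_eq_top F h4]; exact mem_top _
  have h3 : Fintype.card F = 3 := by
    have h1 := Fintype.one_lt_card (α := F)
    have h2 : Fintype.card F ≠ 2 := fun h => hodd (FiniteField.even_card_iff_char_two.mpr (by rw [h]))
    omega
  have h30 : (3 : F) = 0 := by
    have := FiniteField.cast_card_eq_zero F
    rw [h3] at this
    exact_mod_cast this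
  let j : SL(2, F) := ⟨!![1, 1; 1, -1], by simp [det_fin_two]; linear_combination -h30⟩
  have e : ⁅(Line.wel : SL(2, F)), j⁆ = -1 := by
    rw [commutatorElement_def, mul_inv_eq_iff_eq_mul, mul_inv_eq_iff_eq_mul]
    apply Subtype.ext
    show !![(0 : F), -1; 1, 0] * !![1, 1; 1, -1] =
      (-(1 : Matrix (Fin 2) (Fin 2) F)) * !![1, 1; 1, -1] * !![0, -1; 1, 0]
    ext a b
    fin_cases a <;> fin_cases b <;> simp [Matrix.mul_apply, Fin.sum_univ_two]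
  rw [← e, _root_.commutator_def]
  exact commutator_mem_commutator (mem_top _) (mem_top _)

theorem LinMod.ringChar_eq {F : Type} [Field F] [Fintype F] (D : LinMod p E F) : ringChar F = p := by
  haveI := ringChar.charP F
  haveI := Fact.mk (CharP.char_is_prime F (ringChar F))
  obtain ⟨n, -, hn⟩ := FiniteField.card F (ringChar F)
  have h1 : ringChar F ∣ p ^ D.n := by rw [← D.card, hn]; exact dvd_pow_self _ n.pos.ne'
  exact (Nat.prime_dvd_prime_iff_eq (CharP.char_is_prime F _) hp.out).1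
    ((CharP.char_is_prime F _).dvd_of_dvd_pow h1)

theorem neg_one_mulVec' {F : Type} [Field F] (v : Fin 2 → F) :
    ((-1 : SL(2, F)) : Matrix (Fin 2) (Fin 2) F) *ᵥ v = -v := by
  funext i; fin_cases i <;> simp [mulVec, dotProduct, Fin.sum_univ_two]

theorem LinMod.inf_eq_bot_odd {F : Type} [Field F] [Fintype F] (D : LinMod p E F) (hE : IsBlk p E) (hodd : p ≠ 2) :
    ∀ u ∈ w1Of p E, u ∈ zOf p E → u = 1 := by
  have hchar : ringChar F ≠ 2 := by rw [D.ringChar_eq]; exact hodd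
  obtain ⟨⟨z, hzE⟩, hz⟩ : ∃ x, D.ρ x = -1 := by
    have := neg_one_mem_commutator (F := F) hchar
    rw [← D.range] at this
    exact this
  refine (inf_of_inverted hE hodd hzE (fun w hw => ?_) fun e he => ?_).2
  · obtain ⟨v, hv1, hv2⟩ := D.act ⟨z, hzE⟩ ⟨w, hw⟩
    have h := (D.kerψ (v * ⟨w, hw⟩)).1 (by
      apply Multiplicative.toAdd.injective
      rw [map_mul, toAdd_mul, hv2, hz, toAdd_one, neg_one_mulVec', neg_add_cancel])
    rwa [Subgroup.coe_mul, hv1] at h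
  · refine (D.kerρ (⟨z, hzE⟩ * ⟨e, he⟩ * ⟨z, hzE⟩⁻¹ * ⟨e, he⟩⁻¹)).1 ?_
    rw [map_mul, map_mul, map_mul, map_inv, map_inv, hz]
    have : ∀ a : SL(2, F), (-1) * a * (-1)⁻¹ = a := by
      intro a; rw [neg_one_mul, inv_neg, inv_one, mul_neg, neg_mul, mul_one, neg_neg]
    rw [this, mul_inv_cancel]

/-- the three-cycle -/
def tc {n : ℕ} (i j k : Fin n) : Equiv.Perm (Fin n) := Equiv.swap i j * Equiv.swap j k

/-- a weight two vector -/
def pr {n : ℕ} (i j : Fin n) : Fin n → ZMod 2 := Pi.single i 1 + Pi.single j 1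

theorem tc_mem {n : ℕ} {i j k : Fin n} (hij : i ≠ j) (hjk : j ≠ k) : tc i j k ∈ alternatingGroup (Fin n) := by
  rw [Equiv.Perm.mem_alternatingGroup, tc, map_mul, Equiv.Perm.sign_swap hij, Equiv.Perm.sign_swap hjk]
  rfl

theorem tc_apply {n : ℕ} {i j k : Fin n} (hij : i ≠ j) (hjk : j ≠ k) (hik : i ≠ k) (a : Fin n) :
    tc i j k a = if a = i then j else if a = j then k else if a = k then i else a := by
  simp only [tc, Equiv.Perm.coe_mul, Function.comp_apply]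
  split_ifs with h1 h2 h3
  · subst h1; rw [Equiv.swap_apply_of_ne_of_ne hij hik, Equiv.swap_apply_left]
  · subst h2; rw [Equiv.swap_apply_left, Equiv.swap_apply_of_ne_of_ne hik.symm hjk.symm]
  · subst h3; rw [Equiv.swap_apply_right, Equiv.swap_apply_right]
  · rw [Equiv.swap_apply_of_ne_of_ne h2 h3, Equiv.swap_apply_of_ne_of_ne h1 h2]

theorem tc_vals {n : ℕ} {i j k : Fin n} (hij : i ≠ j) (hjk : j ≠ k) (hik : i ≠ k) :
    tc i j k i = j ∧ tc i j k j = k ∧ tc i j k k = i ∧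
      ∀ a, a ≠ i → a ≠ j → a ≠ k → tc i j k a = a :=
  ⟨by simp [tc_apply hij hjk hik], by simp [tc_apply hij hjk hik, hij.symm],
    by simp [tc_apply hij hjk hik, hik.symm, hjk.symm],
    fun a h1 h2 h3 => by simp [tc_apply hij hjk hik, h1, h2, h3]⟩

theorem tc_rotate {n : ℕ} {i j k : Fin n} (hij : i ≠ j) (hjk : j ≠ k) (hik : i ≠ k) : tc j k i = tc i j k := by
  obtain ⟨v1, v2, v3, v4⟩ := tc_vals hij hjk hik
  obtain ⟨w1, w2, w3, w4⟩ := tc_vals hjk hik.symm hij.symm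
  refine Equiv.ext fun a => ?_
  by_cases h1 : a = i
  · rw [h1, v1, w3]
  by_cases h2 : a = j
  · rw [h2, v2, w1]
  by_cases h3 : a = k
  · rw [h3, v3, w2]
  rw [v4 a h1 h2 h3, w4 a h2 h3 h1]

theorem tc_swap {n : ℕ} {i j k : Fin n} (hij : i ≠ j) (hjk : j ≠ k) (hik : i ≠ k) : tc j i k = (tc i j k)⁻¹ := by
  obtain ⟨v1, v2, v3, v4⟩ := tc_vals hij hjk hik
  obtain ⟨w1, w2, w3, w4⟩ := tc_vals hij.symm hik hjk
  refine eq_inv_of_mul_eq_one_left (Equiv.ext fun a => ?_)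
  rw [Equiv.Perm.mul_apply, Equiv.Perm.one_apply]
  by_cases h1 : a = i
  · rw [h1, v1, w1]
  by_cases h2 : a = j
  · rw [h2, v2, w3]
  by_cases h3 : a = k
  · rw [h3, v3, w2]
  rw [v4 a h1 h2 h3, w4 a h2 h1 h3]

theorem tc_pow {n : ℕ} {i j k : Fin n} (hij : i ≠ j) (hjk : j ≠ k) (hik : i ≠ k) : tc i j k ^ 3 = 1 := by
  obtain ⟨v1, v2, v3, v4⟩ := tc_vals hij hjk hik
  refine Equiv.ext fun a => ?_
  rw [pow_succ, pow_two, Equiv.Perm.mul_apply, Equiv.Perm.mul_apply, Equiv.Perm.one_apply]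
  by_cases h1 : a = i
  · rw [h1, v1, v2, v3]
  by_cases h2 : a = j
  · rw [h2, v2, v3, v1]
  by_cases h3 : a = k
  · rw [h3, v3, v1, v2]
  rw [v4 a h1 h2 h3, v4 a h1 h2 h3, v4 a h1 h2 h3]

theorem tc_conj {n : ℕ} (σ : Equiv.Perm (Fin n)) (i j k : Fin n) :
    σ * tc i j k * σ⁻¹ = tc (σ i) (σ j) (σ k) := by
  rw [tc, tc, show σ * (Equiv.swap i j * Equiv.swap j k) * σ⁻¹ =
    (σ * Equiv.swap i j * σ⁻¹) * (σ * Equiv.swap j k * σ⁻¹) by group,
    ← Equiv.swap_apply_apply, ← Equiv.swap_apply_apply]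

theorem pr_perm {n : ℕ} (σ : Equiv.Perm (Fin n)) (i j : Fin n) : (fun a => pr i j (σ⁻¹ a)) = pr (σ i) (σ j) := by
  funext a
  simp only [pr, Pi.add_apply, Pi.single_apply, Equiv.Perm.inv_def, Equiv.symm_apply_eq]

theorem pr_add {n : ℕ} (i j k : Fin n) : pr i j + pr j k = pr i k := by
  funext a
  simp only [pr, Pi.add_apply]
  linear_combination (Pi.single (M := fun _ : Fin n => ZMod 2) j 1 a) * (CharTwo.two_eq_zero (R := ZMod 2))

theorem pr_comm {n : ℕ} (i j : Fin n) : pr i j = pr j i := add_comm _ _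

namespace AltMod

variable [hp2 : Fact (Nat.Prime 2)] {m : ℕ}

/-- coordinates -/
def crd (D : AltMod E m) (u : ↥(wOf 2 E)) : Fin (2 * m + 1) → ZMod 2 := Multiplicative.toAdd (D.ψ u)

theorem crd_mul (D : AltMod E m) (a b : ↥(wOf 2 E)) : D.crd (a * b) = D.crd a + D.crd b := by
  simp [crd, map_mul]

theorem crd_comm (D : AltMod E m) (hE : IsBlk 2 E) (w : ↥(wOf 2 E)) (x : ↥E) :
    ∃ d : ↥(wOf 2 E), (d : G) = ⁅(w : G), (x : G)⁆ ∧
      D.crd d = D.crd w + fun a => D.crd w ((D.ρ x)⁻¹ a) := by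
  obtain ⟨v, hv1, hv2⟩ := D.act x w
  refine ⟨w * v⁻¹, ?_, ?_⟩
  · rw [Subgroup.coe_mul, Subgroup.coe_inv, hv1, commutatorElement_def]; group
  · funext a
    simp only [crd, map_mul, map_inv, toAdd_mul, toAdd_inv, Pi.add_apply, Pi.neg_apply, hv2 a]
    rw [CharTwo.neg_eq]

/-- a canonical lift of a pair -/
def Lift (D : AltMod E m) (hE : IsBlk 2 E) (i j : Fin (2 * m + 1)) (u : G) : Prop :=
  ∃ (k : Fin (2 * m + 1)) (x : G) (hx : x ∈ E), i ≠ j ∧ j ≠ k ∧ i ≠ k ∧ D.ρ ⟨x, hx⟩ = tc i j k ∧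
    u ∈ mof hE hx (wOf 2 E) le_rfl ∧ ∃ hu : u ∈ wOf 2 E, D.crd ⟨u, hu⟩ = pr i j

theorem tc_sq_mem (D : AltMod E m) {i j k : Fin (2 * m + 1)} (hij : i ≠ j) (hjk : j ≠ k) (hik : i ≠ k)
    {x : G} (hx : x ∈ E) (hρ : D.ρ ⟨x, hx⟩ = tc i j k) : x ^ 3 ∈ qOf 2 E := by
  have : D.ρ (⟨x, hx⟩ ^ 3) = 1 := by rw [map_pow, hρ, tc_pow hij hjk hik]
  exact (D.kerρ _).1 this

theorem eq_of_crd (D : AltMod E m) (hE : IsBlk 2 E) {i j k : Fin (2 * m + 1)} (hij : i ≠ j) (hjk : j ≠ k)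
    (hik : i ≠ k) {x : G} (hx : x ∈ E) (hρ : D.ρ ⟨x, hx⟩ = tc i j k) {a b : G}
    (ha : a ∈ mof hE hx (wOf 2 E) le_rfl) (hb : b ∈ mof hE hx (wOf 2 E) le_rfl) (haW : a ∈ wOf 2 E)
    (hbW : b ∈ wOf 2 E) (h : D.crd ⟨a, haW⟩ = D.crd ⟨b, hbW⟩) : a = b := by
  refine inv_mul_eq_one.1 (mof_inf hE hx le_rfl (n := 3) (by norm_num) (D.tc_sq_mem hij hjk hik hx hρ)
    (mul_mem (inv_mem ha) hb) ?_)
  refine (D.kerψ (⟨a, haW⟩⁻¹ * ⟨b, hbW⟩)).1 ?_
  rw [map_mul, map_inv, show D.ψ ⟨a, haW⟩ = D.ψ ⟨b, hbW⟩ from Multiplicative.toAdd.injective h, inv_mul_cancel]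

theorem lift_exists (D : AltMod E m) (hE : IsBlk 2 E) {i j k : Fin (2 * m + 1)} (hij : i ≠ j) (hjk : j ≠ k)
    (hik : i ≠ k) : ∃ u, D.Lift hE i j u := by
  obtain ⟨⟨x, hx⟩, hρ⟩ : ∃ x, D.ρ x = tc i j k := by
    have := tc_mem (k := k) hij hjk
    rw [← D.range] at this
    exact this
  obtain ⟨w, hw⟩ := D.surj (pr j k) (by simp [pr, Finset.sum_add_distrib, CharTwo.add_self_eq_zero])
  obtain ⟨d, hd1, hd2⟩ := D.crd_comm hE w ⟨x, hx⟩
  refine ⟨d, k, x, hx, hij, hjk, hik, hρ, ⟨w, w.2, hd1⟩, d.2, ?_⟩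
  rw [show (⟨(d : G), d.2⟩ : ↥(wOf 2 E)) = d from rfl, hd2, show D.crd w = pr j k from hw, hρ, pr_perm]
  have h1 : tc i j k j = k := by simp [tc, Equiv.swap_apply_of_ne_of_ne (Ne.symm hik) (Ne.symm hjk)]
  have h2 : tc i j k k = i := by simp [tc]
  rw [h1, h2, pr_add, pr_comm]

theorem lift_symm (D : AltMod E m) (hE : IsBlk 2 E) {i j : Fin (2 * m + 1)} {u : G} (h : D.Lift hE i j u) :
    D.Lift hE j i u := by
  obtain ⟨k, x, hx, hij, hjk, hik, hρ, ⟨w, hw, hwu⟩, hu, hc⟩ := h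
  refine ⟨k, x⁻¹, inv_mem hx, hij.symm, hik, hjk, ?_, ⟨x * w⁻¹ * x⁻¹, conj_wOf_mem hE hx (inv_mem hw), ?_⟩, hu,
    hc.trans (pr_comm i j)⟩
  · show D.ρ (⟨x, hx⟩⁻¹) = _
    rw [map_inv, hρ, tc_swap hij hjk hik]
  · rw [hwu]
    have hv : x * w * x⁻¹ ∈ wOf 2 E := conj_wOf_mem hE hx hw
    simp only [commutatorElement_def]
    calc w * x * w⁻¹ * x⁻¹ = w * (x * w * x⁻¹)⁻¹ := by group
      _ = (x * w * x⁻¹)⁻¹ * w := (wOf_comm E hw (inv_mem hv)).eq
      _ = (x * w⁻¹ * x⁻¹) * x⁻¹ * (x * w⁻¹ * x⁻¹)⁻¹ * x⁻¹⁻¹ := by group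

theorem lift_unique (D : AltMod E m) (hE : IsBlk 2 E) (hm : 2 ≤ m) {i j : Fin (2 * m + 1)} {a b : G}
    (ha : D.Lift hE i j a) (hb : D.Lift hE i j b) : a = b := by
  obtain ⟨k, x, hx, hij, hjk, hik, hρx, hax, haW, hca⟩ := ha
  obtain ⟨l, y, hy, -, hjl, hil, hρy, hby, hbW, hcb⟩ := hb
  by_cases hkl : k = l
  · subst hkl
    have hq : x⁻¹ * y ∈ qOf 2 E := (D.kerρ (⟨x, hx⟩⁻¹ * ⟨y, hy⟩)).1 (by
      rw [map_mul, map_inv, hρx, hρy, inv_mul_cancel])
    have := mof_congr hE hx hq hax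
    simp only [mul_inv_cancel_left] at this
    exact D.eq_of_crd hE hij hjk hik hy hρy this hby haW hbW (hca.trans hcb.symm)
  obtain ⟨o, ho⟩ : ∃ o : Fin (2 * m + 1), o ∉ ({i, j, k, l} : Finset (Fin (2 * m + 1))) := by
    obtain ⟨o, -, ho⟩ := Finset.exists_mem_notMem_of_card_lt_card (t := Finset.univ)
      (lt_of_le_of_lt (Finset.card_le_four (a := i) (b := j) (c := k) (d := l)) (by simp; omega))
    exact ⟨o, ho⟩
  simp only [Finset.mem_insert, Finset.mem_singleton, not_or] at ho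
  obtain ⟨hoi, hoj, hok, hol⟩ := ho
  obtain ⟨⟨d, hd⟩, hρd⟩ : ∃ x, D.ρ x = tc k l o := by
    have := tc_mem (k := o) hkl (Ne.symm hol)
    rw [← D.range] at this
    exact this
  have hdi : tc k l o i = i := by simp [tc, Equiv.swap_apply_def, hik, hil, Ne.symm hoi]
  have hdj : tc k l o j = j := by simp [tc, Equiv.swap_apply_def, hjk, hjl, Ne.symm hoj]
  have hdk : tc k l o k = l := by simp [tc, Equiv.swap_apply_def, hkl, Ne.symm hok]
  have hcom : Commute a d := by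
    refine commute_of_class hE hd (n := 3) (by norm_num) (D.tc_sq_mem hkl (Ne.symm hol) (Ne.symm hok) hd hρd) haW ?_
    obtain ⟨c, hc1, hc2⟩ := D.crd_comm hE ⟨a, haW⟩ ⟨d, hd⟩
    simp only at hc1
    rw [← hc1]
    refine (D.kerψ c).1 (Multiplicative.toAdd.injective ?_)
    show D.crd c = 0
    rw [hc2, hca, hρd, pr_perm, hdi, hdj, CharTwo.add_self_eq_zero]
  have hq : (d * x * d⁻¹)⁻¹ * y ∈ qOf 2 E := (D.kerρ ((⟨d, hd⟩ * ⟨x, hx⟩ * ⟨d, hd⟩⁻¹)⁻¹ * ⟨y, hy⟩)).1 (by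
    rw [map_mul, map_inv, map_mul, map_mul, map_inv, hρx, hρy, hρd, tc_conj, hdi, hdj, hdk, inv_mul_cancel])
  have hmem : a ∈ mof hE (mul_mem (mul_mem hd hx) (inv_mem hd)) (wOf 2 E) le_rfl := by
    obtain ⟨w, hw, hwa⟩ := hax
    refine ⟨d * w * d⁻¹, conj_wOf_mem hE hd hw, ?_⟩
    calc a = d * a * d⁻¹ := by rw [← hcom.eq, mul_inv_cancel_right]
      _ = ⁅d * w * d⁻¹, d * x * d⁻¹⁆ := by rw [hwa]; simp only [commutatorElement_def]; group
  have := mof_congr hE _ hq hmem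
  simp only [mul_inv_cancel_left] at this
  exact D.eq_of_crd hE hij hjl hil hy hρy this hby haW hbW (hca.trans hcb.symm)

theorem inf_eq_bot (D : AltMod E m) (hE : IsBlk 2 E) (hm : 2 ≤ m) : ∀ u ∈ w1Of 2 E, u ∈ zOf 2 E → u = 1 := by
  classical
  have third : ∀ i j : Fin (2 * m + 1), ∃ k, k ≠ i ∧ k ≠ j := by
    intro i j
    obtain ⟨k, -, hk⟩ := Finset.exists_mem_notMem_of_card_lt_card (s := ({i, j} : Finset (Fin (2 * m + 1))))
      (t := Finset.univ) (lt_of_le_of_lt Finset.card_le_two (by simp; omega))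
    simp only [Finset.mem_insert, Finset.mem_singleton, not_or] at hk
    exact ⟨k, hk.1, hk.2⟩
  have hex : ∀ j : Fin (2 * m + 1), j ≠ 0 → ∃ u : ↥(wOf 2 E), D.Lift hE 0 j u := by
    intro j hj
    obtain ⟨k, hk0, hkj⟩ := third 0 j
    obtain ⟨u, hu⟩ := D.lift_exists hE (Ne.symm hj) (Ne.symm hkj) (Ne.symm hk0)
    obtain ⟨-, -, -, -, -, -, -, -, huW, -⟩ := id hu
    exact ⟨⟨u, huW⟩, hu⟩
  choose ℓ hℓ using hex
  let ℓ' : Fin (2 * m + 1) → ↥(wOf 2 E) := fun j => if h : j = 0 then 1 else ℓ j h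
  have hℓc : ∀ j, D.crd (ℓ' j) = pr 0 j := by
    intro j
    simp only [ℓ']
    split_ifs with h
    · subst h
      simp [crd, pr, CharTwo.add_self_eq_zero]
    · obtain ⟨-, -, -, -, -, -, -, -, hu, hc⟩ := hℓ j h
      exact hc
  letI : CommGroup ↥(wOf 2 E) :=
    { (inferInstance : Group ↥(wOf 2 E)) with mul_comm := fun a b => Subtype.ext (wOf_comm E a.2 b.2).eq }
  let S : Subgroup G := (closure (Set.range ℓ')).map (wOf 2 E).subtype
  have hSW : S ≤ wOf 2 E := map_subtype_le _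
  -- every lift lies in `S`
  have hS : ∀ i j u, D.Lift hE i j u → u ∈ S := by
    intro i j u hu
    have hl : ∀ j (h : j ≠ 0), (ℓ j h : G) ∈ S := fun j h =>
      ⟨ℓ' j, subset_closure ⟨j, rfl⟩, by simp [ℓ', h]⟩
    obtain ⟨k, x, hx, hij, hjk, hik, hρ, hux, huW, hcu⟩ := id hu
    by_cases hi : i = 0
    · subst hi
      exact D.lift_unique hE hm (hℓ j hij.symm) hu ▸ hl j hij.symm
    by_cases hj : j = 0
    · subst hj
      exact D.lift_unique hE hm (hℓ i hij) (D.lift_symm hE hu) ▸ hl i hij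
    -- the triangle `0, i, j`
    obtain ⟨⟨y, hy⟩, hρy⟩ : ∃ x, D.ρ x = tc i j 0 := by
      have := tc_mem (k := (0 : Fin (2 * m + 1))) hij hj
      rw [← D.range] at this
      exact this
    have side : ∀ (a b c : Fin (2 * m + 1)) (hy' : D.ρ ⟨y, hy⟩ = tc a b c), a ≠ b → b ≠ c → a ≠ c →
        ∃ v, ∃ hv : v ∈ wOf 2 E, v ∈ mof hE hy (wOf 2 E) le_rfl ∧ D.crd ⟨v, hv⟩ = pr a b ∧ D.Lift hE a b v := by
      intro a b c hy' hab hbc hac
      obtain ⟨w, hw⟩ := D.surj (pr b c) (by simp [pr, Finset.sum_add_distrib, CharTwo.add_self_eq_zero])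
      obtain ⟨d, hd1, hd2⟩ := D.crd_comm hE w ⟨y, hy⟩
      have hd : D.crd d = pr a b := by
        rw [hd2, show D.crd w = pr b c from hw, hy', pr_perm]
        have h1 : tc a b c b = c := by simp [tc, Equiv.swap_apply_of_ne_of_ne (Ne.symm hac) (Ne.symm hbc)]
        have h2 : tc a b c c = a := by simp [tc]
        rw [h1, h2, pr_add, pr_comm]
      have hmem : (d : G) ∈ mof hE hy (wOf 2 E) le_rfl := ⟨w, w.2, hd1⟩
      exact ⟨d, d.2, hmem, hd, c, y, hy, hab, hbc, hac, hy', hmem, d.2, hd⟩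
    obtain ⟨a, haW, hay, hca, haL⟩ := side i j 0 hρy hij hj hi
    obtain ⟨b, hbW, hby, hcb, hbL⟩ := side j 0 i (hρy.trans (tc_rotate hij hj hi).symm) hj (Ne.symm hi) hij.symm
    obtain ⟨c, hcW, hcy, hcc, hcL⟩ := side 0 i j
      (hρy.trans ((tc_rotate hij hj hi).symm.trans (tc_rotate hj (Ne.symm hi) hij.symm).symm)) (Ne.symm hi) hij
      (Ne.symm hj)
    have hab : a = c * b := by
      refine D.eq_of_crd hE hij hj hi hy hρy hay (mul_mem hcy hby) haW (mul_mem hcW hbW) ?_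
      show _ = D.crd (⟨c, hcW⟩ * ⟨b, hbW⟩)
      rw [crd_mul, hca, hcc, hcb, pr_comm j 0, pr_comm 0 i, pr_add]
    rw [D.lift_unique hE hm hu haL, hab]
    exact mul_mem (D.lift_unique hE hm (hℓ i hi) hcL ▸ hl i hi)
      (D.lift_unique hE hm (hℓ j hj) (D.lift_symm hE hbL) ▸ hl j hj)
  -- invariance
  have hinv : ∀ e ∈ E, ∀ u ∈ S, e * u * e⁻¹ ∈ S := by
    intro e he u hu
    obtain ⟨t, ht, rfl⟩ := hu
    show e * (t : G) * e⁻¹ ∈ S
    induction ht using closure_induction with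
    | one => simp [one_mem]
    | mul a b _ _ iha ihb =>
      rw [Subgroup.coe_mul, show e * ((a : G) * b) * e⁻¹ = (e * a * e⁻¹) * (e * b * e⁻¹) by group]
      exact mul_mem iha ihb
    | inv a _ ih =>
      rw [Subgroup.coe_inv, show e * (a : G)⁻¹ * e⁻¹ = (e * a * e⁻¹)⁻¹ by group]
      exact inv_mem ih
    | mem y hy =>
    obtain ⟨j, rfl⟩ := hy
    simp only [ℓ']
    split_ifs with h
    · simp [one_mem]
    obtain ⟨k, x, hx, h0j, hjk, h0k, hρ, ⟨w, hw, hwu⟩, hu', hc⟩ := hℓ j h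
    set σ := D.ρ ⟨e, he⟩ with hσ
    refine hS (σ 0) (σ j) _ ⟨σ k, e * x * e⁻¹, mul_mem (mul_mem he hx) (inv_mem he),
      σ.injective.ne h0j, σ.injective.ne hjk, σ.injective.ne h0k, ?_,
      ⟨e * w * e⁻¹, conj_wOf_mem hE he hw, by rw [hwu]; simp only [commutatorElement_def]; group⟩,
      conj_wOf_mem hE he hu', ?_⟩
    · show D.ρ (⟨e, he⟩ * ⟨x, hx⟩ * ⟨e, he⟩⁻¹) = _
      rw [map_mul, map_mul, map_inv, hρ, tc_conj]
    · obtain ⟨v, hv1, hv2⟩ := D.act ⟨e, he⟩ ⟨_, hu'⟩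
      rw [show (⟨e * (ℓ j h : G) * e⁻¹, conj_wOf_mem hE he hu'⟩ : ↥(wOf 2 E)) = v from Subtype.ext hv1.symm]
      rw [← pr_perm, ← hc]
      exact funext hv2
  -- the section
  let π : ↥(wOf 2 E) →* ↥(wOf 2 E) :=
    { toFun := fun u => ∏ j, ℓ' j ^ (D.crd u j).val
      map_one' := Finset.prod_eq_one fun j _ => by
        show ℓ' j ^ (D.crd 1 j).val = 1
        rw [show D.crd 1 j = 0 by simp [crd], ZMod.val_zero, pow_zero]
      map_mul' := fun a b => by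
        rw [← Finset.prod_mul_distrib]
        refine Finset.prod_congr rfl fun j _ => ?_
        have h2 : ℓ' j ^ 2 = 1 := Subtype.ext (wOf_pow E (ℓ' j).2)
        rw [crd_mul, Pi.add_apply, ← pow_add, ZMod.val_add, ← pow_eq_pow_mod _ h2] }
  have hπS : ∀ u, (π u : G) ∈ S := fun u => by
    refine mem_map_of_mem _ ?_
    show (∏ j, ℓ' j ^ (D.crd u j).val) ∈ closure (Set.range ℓ')
    exact Subgroup.prod_mem _ fun j _ => Subgroup.pow_mem _ (subset_closure (Set.mem_range_self j)) _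
  have hπc : ∀ u, D.crd (π u) = D.crd u := by
    intro u
    have h1 : D.crd (π u) = ∑ j, D.crd u j • pr 0 j := by
      show Multiplicative.toAdd (D.ψ (∏ j, ℓ' j ^ (D.crd u j).val)) = _
      rw [map_prod, toAdd_prod]
      refine Finset.sum_congr rfl fun j _ => ?_
      rw [map_pow, toAdd_pow]
      show (D.crd u j).val • D.crd (ℓ' j) = _
      rw [hℓc]
      funext a
      rw [Pi.smul_apply, Pi.smul_apply, nsmul_eq_mul, ZMod.natCast_zmod_val, smul_eq_mul]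
    rw [h1]
    funext a
    simp only [pr, Finset.sum_apply, Pi.smul_apply, Pi.add_apply, smul_eq_mul, mul_add, Finset.sum_add_distrib,
      ← Finset.sum_mul]
    rw [show (∑ j, D.crd u j) = 0 from D.even u, zero_mul, zero_add]
    simp [Pi.single_apply, mul_ite, Finset.sum_ite_eq]
  have hker : ∀ s ∈ S, s ∈ zOf 2 E → s = 1 := by
    intro s hs hsZ
    obtain ⟨t, ht, rfl⟩ := hs
    have hfix : π t = t := by
      clear hsZ
      induction ht using closure_induction with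
      | mem y hy =>
        obtain ⟨j, rfl⟩ := hy
        show (∏ i, ℓ' i ^ (D.crd (ℓ' j) i).val) = ℓ' j
        rw [hℓc]
        by_cases h : j = 0
        · subst h
          rw [show ℓ' 0 = 1 by simp [ℓ']]
          refine Finset.prod_eq_one fun i _ => ?_
          rw [show pr (0 : Fin (2 * m + 1)) 0 i = 0 by simp [pr, CharTwo.add_self_eq_zero], ZMod.val_zero, pow_zero]
        rw [Finset.prod_eq_single j]
        · rw [show pr 0 j j = 1 by simp [pr, Pi.single_apply, h], ZMod.val_one, pow_one]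
        · intro i _ hij
          by_cases hi : i = 0
          · subst hi
            rw [show ℓ' 0 = 1 by simp [ℓ'], one_pow]
          · rw [show pr 0 j i = 0 by simp [pr, Pi.single_apply, hi, hij], ZMod.val_zero, pow_zero]
        · simp
      | one => exact map_one π
      | mul a b _ _ iha ihb => rw [map_mul, iha, ihb]
      | inv a _ ih => rw [map_inv, ih]
    have h0 : D.crd t = 0 := by
      show Multiplicative.toAdd (D.ψ t) = 0
      rw [(D.kerψ t).2 hsZ]; rfl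
    rw [← hfix]
    show ((π t : ↥(wOf 2 E)) : G) = 1
    rw [show π t = 1 by
      show (∏ j, ℓ' j ^ (D.crd t j).val) = 1
      exact Finset.prod_eq_one fun j _ => by rw [h0, Pi.zero_apply, ZMod.val_zero, pow_zero]]
    rfl
  suffices h : w1Of 2 E ≤ S from fun u hu huZ => hker u (h hu) huZ
  show ⁅wOf 2 E, E⁆ ≤ S
  rw [commutator_le]
  intro w hw e he
  have hz : (π ⟨w, hw⟩ : G)⁻¹ * w ∈ zOf 2 E := by
    refine (D.kerψ ((π ⟨w, hw⟩)⁻¹ * ⟨w, hw⟩)).1 ?_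
    rw [map_mul, map_inv, show D.ψ (π ⟨w, hw⟩) = D.ψ ⟨w, hw⟩ from Multiplicative.toAdd.injective (hπc _),
      inv_mul_cancel]
  rw [← mul_inv_cancel_left (π ⟨w, hw⟩ : G) w, comm_decompose hz he, commutatorElement_def,
    show (π ⟨w, hw⟩ : G) * e * (π ⟨w, hw⟩ : G)⁻¹ * e⁻¹ = π ⟨w, hw⟩ * (e * π ⟨w, hw⟩ * e⁻¹)⁻¹ by group]
  exact mul_mem (hπS _) (inv_mem (hinv e he _ (hπS _)))

end AltMod

end Cfsg.Lib.BlockPair
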