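/-
A part of `[W, E]` free of the centre part, invariant under a given p-subgroup.
-/
import Cfsg.Agent.BlockPair.Center

set_option autoImplicit false

namespace Cfsg.Lib.BlockPair

set_option linter.style.haveILetI false
set_option linter.unusedSectionVars false

open Subgroup Matrix
open scoped commutatorElement MatrixGroups

universe u

variable {G : Type u} [Group G] [Finite G] {p : ℕ} [hp : Fact p.Prime] {E : Subgroup G}

theorem relIndex_le_card_w1 (hE : IsBlk p E) : (zOf p E).relIndex (wOf p E) ≤ Nat.card ↥(w1Of p E) := by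
  haveI : ((zOf p E).subgroupOf (wOf p E)).Normal := normal_subgroupOf_of_le_normalizer (w1_normalizer_zOf hE le_rfl)
  refine Nat.card_le_card_of_surjective
    (fun a : ↥(w1Of p E) => (QuotientGroup.mk ⟨(a : G), w1_le_wOf hE a.2⟩ : ↥(wOf p E) ⧸ _)) fun q => ?_
  obtain ⟨⟨u, hu⟩, rfl⟩ := QuotientGroup.mk_surjective q
  obtain ⟨a, ha, z, hz, rfl⟩ := decompose hE hu
  refine ⟨⟨a, ha⟩, QuotientGroup.eq.2 ?_⟩
  show a⁻¹ * (a * z) ∈ zOf p E
  rwa [inv_mul_cancel_left]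

theorem LinMod.relIndex {F : Type} [Field F] [Fintype F] (D : LinMod p E F) :
    (zOf p E).relIndex (wOf p E) = Fintype.card F ^ 2 := by
  rw [relIndex_of_surjective D.ψ D.surj D.kerψ, Nat.card_congr Multiplicative.toAdd, Nat.card_fun, Nat.card_fin,
    Nat.card_eq_fintype_card]

/-- a quotient of order three -/
theorem inf_of_three (hE : IsBlk p E) (h2 : p = 2) {H : Type*} [Group H] (ρ : ↥E →* H)
    (hker : ∀ x : ↥E, ρ x = 1 ↔ (x : G) ∈ qOf p E) {x₀ : H} (hx₀ : orderOf x₀ = 3)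
    (hle : ρ.range ≤ zpowers x₀) : ∀ u ∈ w1Of p E, u ∈ zOf p E → u = 1 := by
  obtain ⟨x, hx⟩ : ∃ x : ↥E, ρ x ≠ 1 := by
    by_contra hno
    push Not at hno
    apply (irr_w1 hE).2.1
    refine le_antisymm (le_inf le_rfl ?_) inf_le_left
    have h : w1Of p E = ⊥ := by
      rw [commutator_eq_bot_iff_le_centralizer, le_centralizer_iff]
      intro e he
      exact mem_centralizer_iff.2 fun w hw =>
        (mem_centralizer_iff.1 (mem_inf.1 (wOf_le E hw)).2 e ((hker ⟨e, he⟩).1 (hno _))).symm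
    rw [h]; exact bot_le
  have hpow : ∀ y ∈ zpowers x₀, y = 1 ∨ y = x₀ ∨ y = x₀ ^ 2 := by
    intro y hy
    obtain ⟨i, rfl⟩ := mem_zpowers_iff.1 hy
    rw [← zpow_mod_orderOf, hx₀]
    have h1 : 0 ≤ i % ((3 : ℕ) : ℤ) := Int.emod_nonneg i (by norm_num)
    have h2 : i % ((3 : ℕ) : ℤ) < 3 := Int.emod_lt_of_pos i (by norm_num)
    obtain h | h | h : i % ((3 : ℕ) : ℤ) = 0 ∨ i % ((3 : ℕ) : ℤ) = 1 ∨ i % ((3 : ℕ) : ℤ) = 2 := by omega
    · exact Or.inl (by rw [h, _root_.zpow_zero])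
    · exact Or.inr (Or.inl (by rw [h, zpow_one]))
    · exact Or.inr (Or.inr (by rw [h, zpow_ofNat]))
  have h3 : x₀ ^ 3 = 1 := hx₀ ▸ pow_orderOf_eq_one x₀
  have hxp : ρ x ^ 3 = 1 := by
    rcases hpow _ (hle ⟨x, rfl⟩) with h | h | h <;> rw [h]
    · simp
    · exact h3
    · rw [← pow_mul, pow_mul', h3, one_pow]
  have ho : orderOf (ρ x) = 3 := by
    haveI := Fact.mk Nat.prime_three
    exact orderOf_eq_prime hxp hx
  haveI : Finite ↥(zpowers x₀) := Nat.finite_of_card_ne_zero (by rw [Nat.card_zpowers, hx₀]; norm_num)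
  have hz : zpowers (ρ x) = zpowers x₀ :=
    eq_of_le_of_card_ge (zpowers_le.2 (hle ⟨x, rfl⟩)) (by rw [Nat.card_zpowers, Nat.card_zpowers, ho, hx₀])
  intro u hu huZ
  refine inf_of_cyclic hE x.2 (n := 3) (by rw [h2]; norm_num) ?_ (fun e he => ?_) hu huZ
  · exact (hker (x ^ 3)).1 (by rw [map_pow, hxp])
  · obtain ⟨i, hi⟩ := mem_zpowers_iff.1 (hz.symm ▸ hle ⟨⟨e, he⟩, rfl⟩ : ρ ⟨e, he⟩ ∈ zpowers (ρ x))
    refine ⟨(i % (3 : ℕ)).toNat, (hker ((x ^ (i % (3 : ℕ)).toNat)⁻¹ * ⟨e, he⟩)).1 ?_⟩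
    rw [map_mul, map_inv, map_pow, ← zpow_natCast (ρ x), Int.toNat_of_nonneg (Int.emod_nonneg _ (by norm_num)),
      ← ho, zpow_mod_orderOf, hi, inv_mul_cancel]

theorem sl_mulVec {F : Type} [Field F] (a b : SL(2, F)) (v : Fin 2 → F) :
    (a : Matrix (Fin 2) (Fin 2) F) *ᵥ ((b : Matrix (Fin 2) (Fin 2) F) *ᵥ v) =
      ((a * b : SL(2, F)) : Matrix (Fin 2) (Fin 2) F) *ᵥ v := by
  rw [Matrix.mulVec_mulVec]; rfl

theorem sl_inv_mulVec {F : Type} [Field F] (a : SL(2, F)) (v : Fin 2 → F) :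
    ((a⁻¹ : SL(2, F)) : Matrix (Fin 2) (Fin 2) F) *ᵥ ((a : Matrix (Fin 2) (Fin 2) F) *ᵥ v) = v := by
  rw [sl_mulVec, inv_mul_cancel]; exact one_mulVec v

theorem sl_mulVec_inj {F : Type} [Field F] {a : SL(2, F)} {v w : Fin 2 → F}
    (h : (a : Matrix (Fin 2) (Fin 2) F) *ᵥ v = (a : Matrix (Fin 2) (Fin 2) F) *ᵥ w) : v = w := by
  rw [← sl_inv_mulVec a v, h, sl_inv_mulVec]

variable {F : Type} [Field F] [Fintype F]

/-- a change of basis -/
noncomputable def LinMod.twist (D : LinMod p E F) (g : SL(2, F)) : LinMod p E F where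
  n := D.n
  card := D.card
  ρ := (MulAut.conj g⁻¹).toMonoidHom.comp D.ρ
  ψ :=
    { toFun := fun u => Multiplicative.ofAdd
        (((g⁻¹ : SL(2, F)) : Matrix (Fin 2) (Fin 2) F) *ᵥ Multiplicative.toAdd (D.ψ u))
      map_one' := by simp
      map_mul' := fun a b => by rw [map_mul, toAdd_mul, Matrix.mulVec_add, ofAdd_add] }
  surj := fun v => by
    obtain ⟨u, hu⟩ := D.surj (Multiplicative.ofAdd ((g : Matrix (Fin 2) (Fin 2) F) *ᵥ Multiplicative.toAdd v))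
    refine ⟨u, ?_⟩
    show Multiplicative.ofAdd _ = v
    rw [hu, toAdd_ofAdd, sl_inv_mulVec, ofAdd_toAdd]
  kerψ := fun u => by
    rw [← D.kerψ u]
    constructor
    · intro h
      have h1 : ((g⁻¹ : SL(2, F)) : Matrix (Fin 2) (Fin 2) F) *ᵥ Multiplicative.toAdd (D.ψ u) = 0 :=
        congrArg Multiplicative.toAdd h
      exact Multiplicative.toAdd.injective (sl_mulVec_inj (h1.trans (Matrix.mulVec_zero _).symm))
    · intro h
      show Multiplicative.ofAdd _ = 1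
      rw [h]; simp
  act := fun e u => by
    obtain ⟨w, hw1, hw2⟩ := D.act e u
    refine ⟨w, hw1, ?_⟩
    show ((g⁻¹ : SL(2, F)) : Matrix (Fin 2) (Fin 2) F) *ᵥ Multiplicative.toAdd (D.ψ w) =
      ((g⁻¹ * D.ρ e * g⁻¹⁻¹ : SL(2, F)) : Matrix (Fin 2) (Fin 2) F) *ᵥ
        (((g⁻¹ : SL(2, F)) : Matrix (Fin 2) (Fin 2) F) *ᵥ Multiplicative.toAdd (D.ψ u))
    rw [hw2, sl_mulVec, sl_mulVec, inv_mul_cancel_right]
  range := by
    rw [MonoidHom.range_comp, D.range, _root_.commutator_def, map_commutator,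
      map_top_of_surjective (MulAut.conj g⁻¹).toMonoidHom (MulAut.conj g⁻¹).surjective]
  kerρ := fun x => by
    rw [← D.kerρ x]
    exact map_eq_one_iff _ (MulAut.conj g⁻¹).injective

/-- coordinates -/
def LinMod.crd (D : LinMod p E F) (u : ↥(wOf p E)) : Fin 2 → F := Multiplicative.toAdd (D.ψ u)

theorem LinMod.crd_eq_zero (D : LinMod p E F) (u : ↥(wOf p E)) : D.crd u = 0 ↔ (u : G) ∈ zOf p E :=
  ⟨fun h => (D.kerψ u).1 (Multiplicative.toAdd.injective h), fun h => by rw [crd, (D.kerψ u).2 h]; rfl⟩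

theorem LinMod.crd_comm (D : LinMod p E F) (w : ↥(wOf p E)) (x : ↥E) :
    ∃ d : ↥(wOf p E), (d : G) = ⁅(w : G), (x : G)⁆ ∧
      D.crd d = D.crd w - ((D.ρ x : SL(2, F)) : Matrix (Fin 2) (Fin 2) F) *ᵥ D.crd w := by
  obtain ⟨v, hv1, hv2⟩ := D.act x w
  refine ⟨w * v⁻¹, ?_, ?_⟩
  · rw [Subgroup.coe_mul, Subgroup.coe_inv, hv1, commutatorElement_def]; group
  · simp only [crd, map_mul, map_inv, toAdd_mul, toAdd_inv, hv2, sub_eq_add_neg]

theorem LinMod.exists_crd (D : LinMod p E F) (v : Fin 2 → F) : ∃ u : ↥(wOf p E), D.crd u = v := by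
  obtain ⟨u, hu⟩ := D.surj (Multiplicative.ofAdd v)
  exact ⟨u, by rw [crd, hu]; rfl⟩

theorem LinMod.range_top (D : LinMod p E F) (h4 : 4 ≤ Fintype.card F) (g : SL(2, F)) : ∃ x, D.ρ x = g := by
  have : g ∈ D.ρ.range := by rw [D.range, Cfsg.Lib.Known.sl2_commutator_eq_top F h4]; exact mem_top _
  exact this

theorem uni_mul (a b : F) : Line.uni a * Line.uni b = Line.uni (a + b) := by
  apply Subtype.ext
  show !![1, a; 0, 1] * !![1, b; 0, 1] = !![1, a + b; 0, 1]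
  ext i j; fin_cases i <;> fin_cases j <;> simp [Matrix.mul_apply, Fin.sum_univ_two, add_comm]

theorem uni_zero : Line.uni (0 : F) = 1 := by
  apply Subtype.ext
  show !![1, (0 : F); 0, 1] = 1
  ext i j; fin_cases i <;> fin_cases j <;> simp

theorem uni_pow (a : F) (k : ℕ) : Line.uni a ^ k = Line.uni ((k : F) * a) := by
  induction k with
  | zero => rw [pow_zero, Nat.cast_zero, zero_mul, uni_zero]
  | succ k ih => rw [pow_succ, ih, uni_mul, Nat.cast_succ, add_one_mul]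

theorem smul_ax {F : Type} [Field F] (a b : F) : a • Line.ax b = Line.ax (a * b) := by
  funext i; fin_cases i <;> simp

theorem mulVec_ax_of_one {F : Type} [Field F] {M : Matrix (Fin 2) (Fin 2) F} {c : F} (h : M *ᵥ Line.ax 1 = Line.ax c)
    (l : F) : M *ᵥ Line.ax l = Line.ax (l * c) := by
  rw [show Line.ax l = l • Line.ax (1 : F) by rw [smul_ax, mul_one], Matrix.mulVec_smul, h, smul_ax]

/-- two elements fixing the axis have a unitriangular commutator -/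
theorem comm_uni {F : Type} [Field F] {M : SL(2, F)} {c : F}
    (hM : (M : Matrix (Fin 2) (Fin 2) F) *ᵥ Line.ax 1 = Line.ax c) {N : SL(2, F)} {d : F}
    (hN : (N : Matrix (Fin 2) (Fin 2) F) *ᵥ Line.ax 1 = Line.ax d) : ∃ a, ⁅M, N⁆ = Line.uni a := by
  have h1 : ((N * M : SL(2, F)) : Matrix (Fin 2) (Fin 2) F) *ᵥ Line.ax 1 = Line.ax (c * d) := by
    rw [← sl_mulVec, hM, mulVec_ax_of_one hN]
  have h2 : ((M * N : SL(2, F)) : Matrix (Fin 2) (Fin 2) F) *ᵥ Line.ax 1 = Line.ax (c * d) := by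
    rw [← sl_mulVec, hN, mulVec_ax_of_one hM, mul_comm]
  have hne : c * d ≠ 0 := by
    intro h
    rw [h, show Line.ax (0 : F) = 0 by funext i; fin_cases i <;> simp,
      ← Matrix.mulVec_zero ((N * M : SL(2, F)) : Matrix (Fin 2) (Fin 2) F)] at h1
    simpa using congrFun (sl_mulVec_inj h1) 0
  refine ⟨_, Line.eq_uni hne ?_⟩
  conv_lhs => rw [← h1]
  rw [sl_mulVec, show ⁅M, N⁆ * (N * M) = M * N by rw [commutatorElement_def]; group, h2]

/-- coordinates adapted to a Sylow subgroup of the block -/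
theorem LinMod.adapted (D : LinMod p E F) (hE : IsBlk p E) (h4 : 4 ≤ Fintype.card F) {S : Subgroup G} (hSE : S ≤ E)
    (hS : IsPGroup p S) (hmax : ∀ X : Subgroup G, IsPGroup p X → S ≤ X → X ≤ E → X = S) :
    ∃ D' : LinMod p E F, (∀ (s : ↥E), (s : G) ∈ S → ∃ a, D'.ρ s = Line.uni a) ∧
      ∀ (s : ↥E) (a : F), D'.ρ s = Line.uni a → (s : G) ∈ S := by
  obtain ⟨u, hu, huZ, hfix⟩ := exists_fixed_group (U₀ := zOf p E) (isPGroup_wOf E)
    (fun h => (irr_module hE).2.1 (le_antisymm h inf_le_left)) hS (hSE.trans (irr_module hE).2.2.1)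
  set v := D.crd ⟨u, hu⟩ with hv
  have hv0 : v ≠ 0 := fun h => huZ ((D.crd_eq_zero ⟨u, hu⟩).1 h)
  obtain ⟨g, hg⟩ : ∃ g : SL(2, F), (g : Matrix (Fin 2) (Fin 2) F) *ᵥ Line.ax 1 = v := by
    by_cases h : v 0 = 0
    · have h1 : v 1 ≠ 0 := fun e => hv0 (funext fun i => by fin_cases i <;> assumption)
      refine ⟨⟨!![0, -(v 1)⁻¹; v 1, 0], by simp [det_fin_two, h1]⟩, ?_⟩
      funext i; fin_cases i <;> simp [Matrix.mulVec, dotProduct, Fin.sum_univ_two, h]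
    · refine ⟨⟨!![v 0, 0; v 1, (v 0)⁻¹], by simp [det_fin_two, h]⟩, ?_⟩
      funext i; fin_cases i <;> simp [Matrix.mulVec, dotProduct, Fin.sum_univ_two]
  set D' := D.twist g with hD'
  have hu' : D'.crd ⟨u, hu⟩ = Line.ax 1 := by
    show ((g⁻¹ : SL(2, F)) : Matrix (Fin 2) (Fin 2) F) *ᵥ v = Line.ax 1
    rw [← hg, sl_inv_mulVec]
  have hfwd : ∀ (s : ↥E), (s : G) ∈ S → ∃ a, D'.ρ s = Line.uni a := by
    intro s hs
    obtain ⟨d, hd1, hd2⟩ := D'.crd_comm ⟨u, hu⟩ s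
    have h : D'.crd d = 0 := (D'.crd_eq_zero d).2 (hd1.symm ▸ hfix s hs)
    rw [hd2, hu', sub_eq_zero] at h
    exact ⟨_, Line.eq_uni one_ne_zero h.symm⟩
  refine ⟨D', hfwd, fun s a hs => ?_⟩
  let P₂ : Subgroup SL(2, F) :=
    { carrier := Set.range Line.uni
      one_mem' := ⟨0, uni_zero⟩
      mul_mem' := by rintro _ _ ⟨a, rfl⟩ ⟨b, rfl⟩; exact ⟨a + b, (uni_mul a b).symm⟩
      inv_mem' := by
        rintro _ ⟨a, rfl⟩
        exact ⟨-a, (eq_inv_of_mul_eq_one_left (by rw [uni_mul, neg_add_cancel, uni_zero]))⟩ }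
  set X : Subgroup G := (P₂.comap D'.ρ).map E.subtype with hX
  have hXp : IsPGroup p X := by
    refine IsPGroup.map ?_ _
    rintro ⟨x, a, hxa⟩
    have hpow : D'.ρ (x ^ p) = 1 := by
      rw [map_pow, ← hxa, uni_pow]
      haveI := ringChar.charP F
      rw [show ((p : ℕ) : F) = 0 from D'.ringChar_eq ▸ CharP.cast_eq_zero F (ringChar F), zero_mul, uni_zero]
    obtain ⟨i, hi⟩ := isPGroup_qOf E ⟨_, (D'.kerρ _).1 hpow⟩
    refine ⟨i + 1, Subtype.ext (Subtype.ext ?_)⟩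
    have h := congrArg Subtype.val hi
    simp only [Subgroup.coe_pow, Subgroup.coe_one] at h ⊢
    rw [pow_succ', pow_mul]
    exact h
  have hSX : S ≤ X := fun s hs => by
    obtain ⟨a, ha⟩ := hfwd ⟨s, hSE hs⟩ hs
    exact ⟨⟨s, hSE hs⟩, ⟨a, ha.symm⟩, rfl⟩
  rw [← hmax X hXp hSX (map_subtype_le _)]
  exact ⟨s, ⟨a, hs.symm⟩, rfl⟩

/-- classes fixed by a subgroup -/
def fixedClass (p : ℕ) (E S : Subgroup G) (hn : wOf p E ≤ normalizer (zOf p E : Set G)) : Subgroup G :=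
  wOf p E ⊓ ⨅ s ∈ S, fixedMod (wOf p E) (zOf p E) hn s

theorem mem_fixedClass {S : Subgroup G} {hn : wOf p E ≤ normalizer (zOf p E : Set G)} {u : G} :
    u ∈ fixedClass p E S hn ↔ u ∈ wOf p E ∧ ∀ s ∈ S, ⁅u, s⁆ ∈ zOf p E := by
  simp only [fixedClass, mem_inf, mem_iInf, mem_fixedMod]
  exact ⟨fun h => ⟨h.1, fun s hs => (h.2 s hs).2⟩, fun h => ⟨h.1, fun s hs => ⟨h.1, h.2 s hs⟩⟩⟩

theorem LinMod.mem_line (D : LinMod p E F) {S : Subgroup G} (hSE : S ≤ E)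
    (hfwd : ∀ (s : ↥E), (s : G) ∈ S → ∃ a, D.ρ s = Line.uni a)
    (hbwd : ∀ (s : ↥E) (a : F), D.ρ s = Line.uni a → (s : G) ∈ S) (h4 : 4 ≤ Fintype.card F)
    {hn : wOf p E ≤ normalizer (zOf p E : Set G)} (u : ↥(wOf p E)) :
    (u : G) ∈ fixedClass p E S hn ↔ D.crd u 1 = 0 := by
  rw [mem_fixedClass, and_iff_right u.2]
  constructor
  · intro h
    obtain ⟨s, hs⟩ := D.range_top h4 (Line.uni 1)
    obtain ⟨d, hd1, hd2⟩ := D.crd_comm u s
    have h1 : D.crd d = 0 := (D.crd_eq_zero d).2 (hd1.symm ▸ h s (hbwd s 1 hs))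
    rw [hd2, hs, Line.uni_mulVec, sub_eq_zero] at h1
    have h2 : D.crd u 0 = D.crd u 0 + 1 * D.crd u 1 := congrFun h1 0
    simpa using h2
  · intro h s hs
    obtain ⟨a, ha⟩ := hfwd ⟨s, hSE hs⟩ hs
    obtain ⟨d, hd1, hd2⟩ := D.crd_comm u ⟨s, hSE hs⟩
    refine hd1 ▸ (D.crd_eq_zero d).1 ?_
    rw [hd2, ha, Line.uni_mulVec, sub_eq_zero]
    funext i; fin_cases i <;> simp [h]

/-- in characteristic two a Sylow subgroup fixes the fixed classes exactly -/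
theorem LinMod.line_exact (D : LinMod 2 E F) [Fact (Nat.Prime 2)] (hE : IsBlk 2 E) {S : Subgroup G} (hSE : S ≤ E)
    (hfwd : ∀ (s : ↥E), (s : G) ∈ S → ∃ a, D.ρ s = Line.uni a) (hbwd : ∀ (s : ↥E) (a : F), D.ρ s = Line.uni a → (s : G) ∈ S)
    (h4 : 4 ≤ Fintype.card F) {hn : wOf 2 E ≤ normalizer (zOf 2 E : Set G)} {u s : G}
    (hu : u ∈ fixedClass 2 E S hn) (hs : s ∈ S) : Commute u s := by
  have huW : u ∈ wOf 2 E := (mem_fixedClass.1 hu).1
  have hu1 : D.crd ⟨u, huW⟩ 1 = 0 := (D.mem_line hSE hfwd hbwd h4 ⟨u, huW⟩).1 hu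
  obtain ⟨a, ha⟩ := hfwd ⟨s, hSE hs⟩ hs
  have hcen : ∀ q ∈ qOf 2 E, Commute u q := fun q hq =>
    (mem_centralizer_iff.1 (mem_inf.1 (wOf_le E huW)).2 q hq).symm
  by_cases ha0 : a = 0
  · exact hcen s ((D.kerρ ⟨s, hSE hs⟩).1 (by rw [ha, ha0, uni_zero]))
  haveI := ringChar.charP F
  haveI : CharP F 2 := D.ringChar_eq ▸ ringChar.charP F
  obtain ⟨w, hw⟩ := D.exists_crd ![0, D.crd ⟨u, huW⟩ 0 / a]
  obtain ⟨d, hd1, hd2⟩ := D.crd_comm w ⟨s, hSE hs⟩
  have hsq : s * s ∈ qOf 2 E := (D.kerρ (⟨s, hSE hs⟩ * ⟨s, hSE hs⟩)).1 (by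
    rw [map_mul, ha, uni_mul, CharTwo.add_self_eq_zero, uni_zero])
  have hw2 : ⁅(w : G), s * s⁆ = 1 := commutatorElement_eq_one_iff_mul_comm.2
    (mem_centralizer_iff.1 (mem_inf.1 (wOf_le E w.2)).2 _ hsq).symm
  have hexp : ⁅(w : G), s⁆ * ⁅(w : G), s⁆ = 1 := by
    rw [← pow_two]; exact wOf_pow E (hd1 ▸ d.2)
  have hc : Commute (d : G) s := by
    rw [hd1]
    have h1 : ⁅(w : G), s⁆ * (s * ⁅(w : G), s⁆ * s⁻¹) = 1 := by
      rw [← hw2]; simp only [commutatorElement_def]; group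
    have h2 : s * ⁅(w : G), s⁆ * s⁻¹ = ⁅(w : G), s⁆ := mul_left_cancel (h1.trans hexp.symm)
    exact (mul_inv_eq_iff_eq_mul.1 h2).symm
  have hz : (d : G)⁻¹ * u ∈ zOf 2 E := by
    refine (D.crd_eq_zero (d⁻¹ * ⟨u, huW⟩)).1 ?_
    have e : D.crd d = D.crd ⟨u, huW⟩ := by
      rw [hd2, hw, ha, Line.uni_mulVec]
      funext i
      fin_cases i
      · show (![0, D.crd ⟨u, huW⟩ 0 / a] : Fin 2 → F) 0 -
          ((![0, D.crd ⟨u, huW⟩ 0 / a] : Fin 2 → F) 0 + a * (![0, D.crd ⟨u, huW⟩ 0 / a] : Fin 2 → F) 1) = _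
        simp [mul_div_cancel₀ _ ha0, CharTwo.neg_eq]
      · show (![0, D.crd ⟨u, huW⟩ 0 / a] : Fin 2 → F) 1 - (![0, D.crd ⟨u, huW⟩ 0 / a] : Fin 2 → F) 1 = _
        simp [hu1]
    simp only [crd, map_mul, map_inv, toAdd_mul, toAdd_inv] at e ⊢
    rw [e, neg_add_cancel]
  have h := hc.mul_left (show Commute ((d : G)⁻¹ * u) s from
    (mem_centralizer_iff.1 (mem_inf.1 hz).2 s (hSE hs)).symm)
  rwa [mul_inv_cancel_left] at h

/-- the four even vectors of length three -/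
def fourVec : Fin 4 → Fin 3 → ZMod 2 := ![![0, 0, 0], ![1, 1, 0], ![0, 1, 1], ![1, 0, 1]]

theorem fourVec_inj : ∀ k l, (∀ a, fourVec k a = fourVec l a) → k = l := by decide

theorem AltMod.four_le_relIndex {E : Subgroup G} [Fact (Nat.Prime 2)] {m : ℕ} (D : AltMod E m) (hE : IsBlk 2 E) :
    4 ≤ (zOf 2 E).relIndex (wOf 2 E) := by
  haveI : ((zOf 2 E).subgroupOf (wOf 2 E)).Normal :=
    normal_subgroupOf_of_le_normalizer (w1_normalizer_zOf hE le_rfl)
  let i : Fin 3 → Fin (2 * m + 1) := fun a => ⟨a, by have := D.pos; omega⟩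
  let vs : Fin 4 → Fin (2 * m + 1) → ZMod 2 := ![0, pr (i 0) (i 1), pr (i 1) (i 2), pr (i 0) (i 2)]
  have hev : ∀ k, ∑ a, vs k a = 0 := by
    intro k; fin_cases k <;> simp [vs, pr, Finset.sum_add_distrib, CharTwo.add_self_eq_zero]
  choose g hg using fun k => D.surj (vs k) (hev k)
  calc 4 = Nat.card (Fin 4) := (Nat.card_fin 4).symm
    _ ≤ (zOf 2 E).relIndex (wOf 2 E) :=
      Nat.card_le_card_of_injective (fun k => (QuotientGroup.mk (g k) : ↥(wOf 2 E) ⧸ _)) fun k l h => by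
        have h1 : (g k)⁻¹ * g l ∈ (zOf 2 E).subgroupOf (wOf 2 E) := QuotientGroup.eq.1 h
        have h2 := (D.kerψ _).2 (mem_subgroupOf.1 h1)
        rw [map_mul, map_inv, inv_mul_eq_one] at h2
        have h3 : vs k = vs l := by rw [← hg k, ← hg l, h2]
        have key : ∀ a, vs k (i a) = vs l (i a) := fun a => congrFun h3 _
        have hi : ∀ a b : Fin 3, i a = i b ↔ a = b := fun a b => by simp [i, Fin.ext_iff]
        let vs' : Fin 4 → Fin 3 → ZMod 2 := fourVec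
        have hvs : ∀ k a, vs k (i a) = vs' k a := by
          intro k a
          fin_cases k <;> fin_cases a <;> simp [vs, vs', fourVec, pr, Pi.single_apply, i, Fin.ext_iff]
        exact fourVec_inj k l fun a => (hvs k a).symm.trans ((key a).trans (hvs l a))

theorem LinMod.free_two [Fact (Nat.Prime 2)] (D : LinMod 2 E F) (hE : IsBlk 2 E) (h4 : 4 ≤ Fintype.card F)
    {P : Subgroup G} (hP : IsPGroup 2 P) (hPE : P ≤ normalizer (E : Set G)) :
    ∃ M : Subgroup G, M ≤ w1Of 2 E ∧ P ≤ normalizer (M : Set G) ∧ (∀ u ∈ M, u ∈ zOf 2 E → u = 1) ∧ M ≠ ⊥ ∧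
      (2 = 2 → 4 ≤ Nat.card M) := by
  obtain ⟨S, hSE, hS, hPS, -, hmax⟩ := exists_sylow_invariant hP hPE
  obtain ⟨D', hfwd, hbwd⟩ := D.adapted hE h4 hSE hS hmax
  have hn : wOf 2 E ≤ normalizer (zOf 2 E : Set G) := w1_normalizer_zOf hE le_rfl
  set L := fixedClass 2 E S hn with hL
  have hLW : L ≤ wOf 2 E := inf_le_left
  haveI := ringChar.charP F
  haveI : CharP F 2 := D.ringChar_eq ▸ ringChar.charP F
  obtain ⟨lam, hl0, hl1⟩ : ∃ lam : F, lam ≠ 0 ∧ lam ≠ 1 := by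
    classical
    obtain ⟨lam, -, hlam⟩ := Finset.exists_mem_notMem_of_card_lt_card (s := ({0, 1} : Finset F)) (t := Finset.univ)
      (lt_of_le_of_lt Finset.card_le_two (by rw [Finset.card_univ]; omega))
    simp only [Finset.mem_insert, Finset.mem_singleton, not_or] at hlam
    exact ⟨lam, hlam.1, hlam.2⟩
  let t : SL(2, F) := ⟨!![lam, 0; 0, lam⁻¹], by simp [det_fin_two, hl0]⟩
  have ht : ∀ v : Fin 2 → F, (t : Matrix (Fin 2) (Fin 2) F) *ᵥ v = ![lam * v 0, lam⁻¹ * v 1] := by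
    intro v; funext i; fin_cases i <;> simp [t, Matrix.mulVec, dotProduct, Fin.sum_univ_two]
  obtain ⟨⟨x, hx⟩, hρx⟩ := D'.range_top h4 t
  set n := Fintype.card F - 1 with hn'
  have hnco : n.Coprime 2 := by
    have h2 : 2 ∣ Fintype.card F := by
      rw [D.card]
      refine dvd_pow_self 2 fun e => ?_
      have := D.card
      rw [e, pow_zero] at this
      omega
    rw [Nat.coprime_two_right, Nat.odd_iff]
    omega
  have hxn : x ^ n ∈ qOf 2 E := by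
    refine (D'.kerρ (⟨x, hx⟩ ^ n)).1 ?_
    rw [map_pow, hρx]
    apply Subtype.ext
    show (t : Matrix (Fin 2) (Fin 2) F) ^ n = 1
    rw [show (t : Matrix (Fin 2) (Fin 2) F) = Matrix.diagonal ![lam, lam⁻¹] by
      ext i j; fin_cases i <;> fin_cases j <;> simp [t], Matrix.diagonal_pow,
      ← Matrix.diagonal_one]
    congr 1
    funext i
    fin_cases i <;> simp [FiniteField.pow_card_sub_one_eq_one, hl0, hn']
  set M := mof hE hx L hLW with hM
  have hxL : ∀ u ∈ L, x * u * x⁻¹ ∈ L := by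
    intro u hu
    obtain ⟨w, hw1, hw2⟩ := D'.act ⟨x, hx⟩ ⟨u, hLW hu⟩
    show x * u * x⁻¹ ∈ L
    rw [← hw1]
    refine (D'.mem_line hSE hfwd hbwd h4 w).2 ?_
    show Multiplicative.toAdd (D'.ψ w) 1 = 0
    rw [hw2, hρx, ht]
    have := (D'.mem_line hSE hfwd hbwd h4 ⟨u, hLW hu⟩).1 hu
    show lam⁻¹ * D'.crd ⟨u, hLW hu⟩ 1 = 0
    rw [this, mul_zero]
  -- the part is invariant
  have hPM : ∀ r ∈ P, ∀ d ∈ M, r * d * r⁻¹ ∈ M := by
    rintro r hr _ ⟨u, hu, rfl⟩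
    set x' := r * x * r⁻¹ with hx'
    have hx'E : x' ∈ E := (mem_normalizer_iff.1 (hPE hr) x).1 hx
    have hrL : ∀ u ∈ L, r * u * r⁻¹ ∈ L := by
      intro u hu
      obtain ⟨h1, h2⟩ := mem_fixedClass.1 hu
      refine mem_fixedClass.2 ⟨conj_wOf (hPE hr) h1, fun s hs => ?_⟩
      have hs' : r⁻¹ * s * r⁻¹⁻¹ ∈ S := (mem_normalizer_iff.1 (inv_mem (hPS hr)) s).1 hs
      have := conj_zOf (hPE hr) (h2 _ hs')
      have e : r * ⁅u, r⁻¹ * s * r⁻¹⁻¹⁆ * r⁻¹ = ⁅r * u * r⁻¹, s⁆ := by simp only [commutatorElement_def]; group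
      rwa [e] at this
    have hrL' : ∀ u ∈ L, r⁻¹ * u * r ∈ L := by
      intro u hu
      obtain ⟨h1, h2⟩ := mem_fixedClass.1 hu
      have hwu : r⁻¹ * u * r ∈ wOf 2 E := by
        have := conj_wOf (g := r⁻¹) (inv_mem (hPE hr)) h1
        rwa [inv_inv] at this
      refine mem_fixedClass.2 ⟨hwu, fun s hs => ?_⟩
      have hs' : r * s * r⁻¹ ∈ S := (mem_normalizer_iff.1 (hPS hr) s).1 hs
      have := conj_zOf (inv_mem (hPE hr)) (h2 _ hs')
      have e : r⁻¹ * ⁅u, r * s * r⁻¹⁆ * r⁻¹⁻¹ = ⁅r⁻¹ * u * r, s⁆ := by simp only [commutatorElement_def]; group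
      rwa [e] at this
    have hx'L : ∀ u ∈ L, x' * u * x'⁻¹ ∈ L := by
      intro u hu
      have e : x' * u * x'⁻¹ = r * (x * (r⁻¹ * u * r) * x⁻¹) * r⁻¹ := by rw [hx']; group
      rw [e]; exact hrL _ (hxL _ (hrL' u hu))
    -- both stabilise the line, hence commute on it
    obtain ⟨u1, hu1⟩ := D'.exists_crd (Line.ax 1)
    have hu1L : (u1 : G) ∈ L := (D'.mem_line hSE hfwd hbwd h4 u1).2 (by rw [hu1]; simp)
    set A := ((D'.ρ ⟨x', hx'E⟩ : SL(2, F)) : Matrix (Fin 2) (Fin 2) F) with hA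
    obtain ⟨c, hc⟩ : ∃ c, A *ᵥ Line.ax 1 = Line.ax c := by
      refine ⟨(A *ᵥ Line.ax 1) 0, funext fun i => ?_⟩
      fin_cases i
      · rfl
      obtain ⟨w, hw1, hw2⟩ := D'.act ⟨x', hx'E⟩ u1
      have h := (D'.mem_line hSE hfwd hbwd h4 w).1 (hw1.symm ▸ hx'L _ hu1L)
      show (A *ᵥ Line.ax 1) 1 = 0
      rw [← hu1]
      show (A *ᵥ Multiplicative.toAdd (D'.ψ u1)) 1 = 0
      rw [← hw2]
      exact h
    have hK : ⁅x', x⁆ ∈ S := by
      obtain ⟨a, ha⟩ := comm_uni hc (N := t) (d := lam) (by rw [ht]; funext i; fin_cases i <;> simp)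
      exact hbwd ⁅(⟨x', hx'E⟩ : ↥E), (⟨x, hx⟩ : ↥E)⁆ a (by rw [map_commutatorElement, hρx]; exact ha)
    have hcomm : ∀ u ∈ L, x' * (x * u * x⁻¹) * x'⁻¹ = x * (x' * u * x'⁻¹) * x⁻¹ := by
      intro u hu
      have hv := hxL _ (hx'L u hu)
      have h := D'.line_exact hE hSE hfwd hbwd h4 hv hK
      calc x' * (x * u * x⁻¹) * x'⁻¹ = ⁅x', x⁆ * (x * (x' * u * x'⁻¹) * x⁻¹) * ⁅x', x⁆⁻¹ := by
            simp only [commutatorElement_def]; group
        _ = x * (x' * u * x'⁻¹) * x⁻¹ := by rw [← h.eq, mul_inv_cancel_right]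
    have hx'M : ∀ a ∈ M, x' * a * x'⁻¹ ∈ M := by
      rintro _ ⟨v, hv, rfl⟩
      refine ⟨x' * v * x'⁻¹, hx'L v hv, ?_⟩
      calc x' * ⁅v, x⁆ * x'⁻¹ = (x' * v * x'⁻¹) * (x' * (x * v * x⁻¹) * x'⁻¹)⁻¹ := by
            simp only [commutatorElement_def]; group
        _ = ⁅x' * v * x'⁻¹, x⁆ := by rw [hcomm v hv]; simp only [commutatorElement_def]; group
    have hru := hrL u hu
    have e : r * ⁅u, x⁆ * r⁻¹ = ⁅r * u * r⁻¹, x'⁆ := by rw [hx']; simp only [commutatorElement_def]; group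
    rw [e]
    -- decompose
    set w := r * u * r⁻¹ with hw
    obtain ⟨v, hv⟩ := D'.exists_crd (Line.ax (D'.crd ⟨w, hLW hru⟩ 0 / (1 - lam)))
    have hvL : (v : G) ∈ L := (D'.mem_line hSE hfwd hbwd h4 v).2 (by rw [hv]; simp)
    obtain ⟨d, hd1, hd2⟩ := D'.crd_comm v ⟨x, hx⟩
    have hdM : (d : G) ∈ M := ⟨v, hvL, hd1⟩
    have hz : (d : G)⁻¹ * w ∈ zOf 2 E := by
      refine (D'.crd_eq_zero (d⁻¹ * ⟨w, hLW hru⟩)).1 ?_
      have e : D'.crd d = D'.crd ⟨w, hLW hru⟩ := by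
        rw [hd2, hv, hρx, ht]
        have h1 := (D'.mem_line hSE hfwd hbwd h4 ⟨w, hLW hru⟩).1 hru
        have hne : (1 - lam) ≠ 0 := sub_ne_zero.2 (Ne.symm hl1)
        funext i
        fin_cases i
        · show D'.crd ⟨w, hLW hru⟩ 0 / (1 - lam) - lam * (D'.crd ⟨w, hLW hru⟩ 0 / (1 - lam)) = _
          rw [← one_sub_mul, mul_div_cancel₀ _ hne]
          rfl
        · show (0 : F) - lam⁻¹ * 0 = _
          rw [mul_zero, sub_zero]
          exact h1.symm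
      simp only [LinMod.crd, map_mul, map_inv, toAdd_mul, toAdd_inv] at e ⊢
      rw [e, neg_add_cancel]
    rw [← mul_inv_cancel_left (d : G) w, comm_decompose hz hx'E, commutatorElement_def,
      show (d : G) * x' * (d : G)⁻¹ * x'⁻¹ = d * (x' * d * x'⁻¹)⁻¹ by group]
    exact mul_mem hdM (inv_mem (hx'M _ hdM))
  refine ⟨M, mof_le hE hx hLW, ?_, fun u hu huZ => mof_inf hE hx hLW hnco hxn hu huZ, ?_, fun _ => ?_⟩
  · intro r hr
    rw [mem_normalizer_iff]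
    intro d
    refine ⟨hPM r hr d, fun h => ?_⟩
    have := hPM _ (inv_mem hr) _ h
    simpa [mul_assoc] using this
  all_goals
    have hsurj : Fintype.card F ≤ Nat.card ↥M := by
      rw [← Nat.card_eq_fintype_card]
      refine Nat.card_le_card_of_surjective
        (fun d : ↥M => D'.crd ⟨(d : G), (mof_le hE hx hLW).trans (w1_le_wOf hE) d.2⟩ 0) fun l => ?_
      obtain ⟨v, hv⟩ := D'.exists_crd (Line.ax (l / (1 - lam)))
      have hvL : (v : G) ∈ L := (D'.mem_line hSE hfwd hbwd h4 v).2 (by rw [hv]; simp)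
      obtain ⟨d, hd1, hd2⟩ := D'.crd_comm v ⟨x, hx⟩
      refine ⟨⟨d, v, hvL, hd1⟩, ?_⟩
      show D'.crd d 0 = l
      rw [hd2, hv, hρx, ht]
      show l / (1 - lam) - lam * (l / (1 - lam)) = l
      rw [← one_sub_mul, mul_div_cancel₀ _ (sub_ne_zero.2 (Ne.symm hl1))]
  · intro h
    rw [h, card_bot] at hsurj
    omega
  · omega

/-- a part of `[W, E]` free of the centre part -/
theorem free_part (hE : IsBlk p E) {P : Subgroup G} (hP : IsPGroup p P)
    (hPE : P ≤ normalizer (E : Set G)) :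
    ∃ M : Subgroup G, M ≤ w1Of p E ∧ P ≤ normalizer (M : Set G) ∧ (∀ u ∈ M, u ∈ zOf p E → u = 1) ∧ M ≠ ⊥ ∧
      (p = 2 → 4 ≤ Nat.card M) := by
  have whole : (∀ u ∈ w1Of p E, u ∈ zOf p E → u = 1) → (p = 2 → 4 ≤ (zOf p E).relIndex (wOf p E)) →
      ∃ M : Subgroup G, M ≤ w1Of p E ∧ P ≤ normalizer (M : Set G) ∧ (∀ u ∈ M, u ∈ zOf p E → u = 1) ∧ M ≠ ⊥ ∧
        (p = 2 → 4 ≤ Nat.card M) := by
    intro h1 h2
    refine ⟨w1Of p E, le_rfl, fun x hx => ?_, h1, fun h => (irr_w1 hE).2.1 ?_,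
      fun h => (h2 h).trans (relIndex_le_card_w1 hE)⟩
    · rw [mem_normalizer_iff_map_conj_eq]
      show (w1Of p E).map (MulAut.conj x).toMonoidHom = _
      rw [map_w1Of, show E.map (MulAut.conj x).toMonoidHom = E from mem_normalizer_iff_map_conj_eq.1 (hPE hx)]
    · rw [h, bot_inf_eq]
  rcases shape hE with ⟨F, iF, iFt, ⟨D⟩⟩ | ⟨rfl, -, m, ⟨D⟩⟩
  swap
  · have h4 : 4 ≤ (zOf 2 E).relIndex (wOf 2 E) := D.four_le_relIndex hE
    rcases Nat.lt_or_ge m 2 with hm | hm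
    · obtain rfl : m = 1 := by have := D.pos; omega
      refine whole (inf_of_three hE rfl D.ρ D.kerρ (x₀ := tc 0 1 2) ?_ fun y hy => ?_) fun _ => h4
      · exact orderOf_eq_prime (p := 3) (tc_pow (by decide) (by decide) (by decide)) (by decide)
      · rw [D.range] at hy
        revert hy
        have : ∀ y : Equiv.Perm (Fin (2 * 1 + 1)), Equiv.Perm.sign y = 1 →
            y = 1 ∨ y = tc 0 1 2 ∨ y = tc 0 1 2 * tc 0 1 2 := by decide
        intro hy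
        rcases this y (Equiv.Perm.mem_alternatingGroup.1 hy) with h | h | h <;> rw [h]
        · exact one_mem _
        · exact mem_zpowers _
        · exact mul_mem (mem_zpowers _) (mem_zpowers _)
    · exact whole (D.inf_eq_bot hE hm) fun _ => h4
  by_cases hodd : p ≠ 2
  · exact whole (D.inf_eq_bot_odd hE hodd) fun h => absurd h hodd
  push Not at hodd
  subst hodd
  have h4W : 4 ≤ (zOf 2 E).relIndex (wOf 2 E) := by
    rw [D.relIndex]; exact Nat.pow_le_pow_left (Fintype.one_lt_card (α := F)) 2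
  by_cases h4 : 4 ≤ Fintype.card F
  swap
  · have hq : Fintype.card F = 2 := by
      have h1 := D.card
      have h2 := Fintype.one_lt_card (α := F)
      rcases hn : D.n with _ | _ | k
      · rw [hn] at h1; simp at h1; omega
      · rw [hn] at h1; simpa using h1
      · rw [hn] at h1
        have : 2 ^ 2 ≤ 2 ^ (k + 2) := Nat.pow_le_pow_right two_pos (by omega)
        omega
    have h6 : Nat.card SL(2, F) = 6 := by rw [Cfsg.Lib.Classical.SLTwoTori.card_SL2, hq]; norm_num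
    haveI := Fact.mk Nat.prime_three
    obtain ⟨x₀, hx₀⟩ := exists_prime_orderOf_dvd_card' (G := SL(2, F)) 3 (h6 ▸ by norm_num)
    refine whole (inf_of_three hE rfl D.ρ D.kerρ hx₀ ?_) fun _ => h4W
    rw [D.range]
    have hi : (zpowers x₀).index = 2 := by
      have := (zpowers x₀).card_mul_index
      rw [Nat.card_zpowers, hx₀, h6] at this
      omega
    haveI := Subgroup.normal_of_index_eq_two hi
    rw [_root_.commutator_def, commutator_le]
    intro a _ b _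
    rw [← QuotientGroup.eq_one_iff, ← QuotientGroup.mk'_apply, map_commutatorElement,
      commutatorElement_eq_one_iff_mul_comm]
    haveI : IsCyclic (SL(2, F) ⧸ zpowers x₀) :=
      isCyclic_of_prime_card (p := 2) (by rw [← Subgroup.index_eq_card, hi])
    letI := IsCyclic.commGroup (α := SL(2, F) ⧸ zpowers x₀)
    exact mul_comm _ _
  exact D.free_two hE h4 hP hPE

end Cfsg.Lib.BlockPair
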