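/-
The Baumann subgroups normalize every subnormal block.
-/
import Cfsg.Agent.BlockPair.Free
import Cfsg.Agent.Thompson.ElemToolkit

set_option autoImplicit false

namespace Cfsg.Lib.BlockPair

set_option linter.style.haveILetI false
set_option linter.unusedSectionVars false

open Subgroup
open scoped commutatorElement

universe u

variable {G : Type u} [Group G] [Finite G] {p : ℕ} [hp : Fact p.Prime] {E : Subgroup G}

theorem w1_le_self (hE : IsBlk p E) : w1Of p E ≤ E :=
  (w1_le_wOf hE).trans ((wOf_le E).trans (inf_le_left.trans (qOf_le E)))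

theorem w1_le_core (hE : IsBlk p E) (hEs : E.IsSubnormal) : w1Of p E ≤ Cfsg.pCore p G :=
  (w1_le_wOf hE).trans ((wOf_le E).trans (inf_le_left.trans (qOf_le_core hEs)))

theorem mem_cj {a x : G} {H : Subgroup G} (hx : x ∈ H) : a * x * a⁻¹ ∈ cj a H := ⟨x, hx, rfl⟩

/-- different conjugates commute -/
theorem comm_cj (hG : centralizer (Cfsg.pCore p G : Set G) ≤ Cfsg.pCore p G) (hE : IsBlk p E) (hEs : E.IsSubnormal)
    {a b x y : G} (hne : cj a E ≠ cj b E) (hx : x ∈ cj a E) (hy : y ∈ cj b E) : Commute x y := by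
  have h : ⁅cj a E, cj b E⁆ = ⊥ :=
    (pair hG (hE.conj a) (cj_isSubnormal hEs a) (hE.conj b) (cj_isSubnormal hEs b)).resolve_left hne
  exact (mem_centralizer_iff.1 (commutator_eq_bot_iff_le_centralizer.1 h hx) y hy).symm

/-- an element of the module commuting with a mover lies in the centre part -/
theorem mem_zOf_of_moved (hG : centralizer (Cfsg.pCore p G : Set G) ≤ Cfsg.pCore p G) (hE : IsBlk p E)
    (hEs : E.IsSubnormal) {a u : G} (hu : u ∈ w1Of p E) (ha : a ∉ normalizer (E : Set G)) (h : a * u * a⁻¹ ∈ E) :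
    u ∈ zOf p E := by
  refine mem_inf.2 ⟨w1_le_wOf hE hu, mem_centralizer_iff.2 fun e he => ?_⟩
  have hne : cj 1 E ≠ cj a E := fun h' => ha ((cj_eq_iff a E).1 (h'.symm.trans ((cj_eq_iff 1 E).2 (one_mem _))))
  have hc := comm_cj hG hE hEs hne (show a * u * a⁻¹ ∈ cj 1 E from by simpa using mem_cj (a := (1 : G)) h)
    (mem_cj (a := a) he)
  have h2 : a * (u * e) * a⁻¹ = a * (e * u) * a⁻¹ := by
    rw [show a * (u * e) * a⁻¹ = (a * u * a⁻¹) * (a * e * a⁻¹) by group, hc.eq]; group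
  exact (mul_left_cancel (mul_right_cancel h2)).symm

theorem closure_elementary {s : Set G} (hc : ∀ x ∈ s, ∀ y ∈ s, Commute x y) (hpw : ∀ x ∈ s, x ^ p = 1) :
    Cfsg.IsElementaryAbelian p (closure s) := by
  have hcl : closure s ≤ centralizer (closure s : Set G) := by
    rw [closure_le]
    intro x hx
    refine mem_centralizer_iff.2 fun y hy => ?_
    have h : closure s ≤ centralizer ({x} : Set G) := by
      rw [closure_le]
      intro z hz
      refine mem_centralizer_iff.2 fun w hw => ?_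
      rw [Set.mem_singleton_iff.1 hw]
      exact hc x hx z hz
    exact (mem_centralizer_iff.1 (h hy) x rfl).symm
  refine ⟨⟨⟨fun a b => Subtype.ext (mem_centralizer_iff.1 (hcl b.2) a a.2)⟩⟩, fun a ha => ?_⟩
  induction ha using closure_induction with
  | mem x hx => exact hpw x hx
  | one => exact one_pow _
  | mul x y hx hy h1 h2 =>
    rw [(show Commute x y from (mem_centralizer_iff.1 (hcl hy) x hx)).mul_pow, h1, h2, one_mul]
  | inv x _ h => rw [inv_pow, h, inv_one]

/-- the bound given by an elementary abelian subgroup of largest order -/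
theorem maxElem_bound {T A X : Subgroup G} (hA : Cfsg.Lib.Thompson.IsMaxElem p T A) (hXT : X ≤ T)
    (hXe : Cfsg.IsElementaryAbelian p X) :
    Nat.card ↥(A ⊓ centralizer (X : Set G)) * Nat.card X ≤ Nat.card A * Nat.card ↥(X ⊓ centralizer (A : Set G)) := by
  refine (Cfsg.Lib.ElemToolkit.mul_card_le _ _).trans (Nat.mul_le_mul (hA.2.2 _ (sup_le (inf_le_left.trans hA.1) hXT)
    (Cfsg.Lib.ElemToolkit.elementary_sup (Cfsg.Lib.ElemToolkit.elementary_mono inf_le_left hA.2.1) hXe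
      fun a ha x hx => (mem_centralizer_iff.1 (mem_inf.1 ha).2 x hx).symm)) ?_)
  refine Cfsg.Lib.ElemToolkit.card_le_card_of_le (le_inf inf_le_right fun x hx => ?_)
  exact mem_centralizer_iff.2 fun a ha =>
    Cfsg.Lib.ElemToolkit.comm_of hA.2.1.1 ha (mem_inf.1 (mem_inf.1 hx).1).1

theorem card_mul_le {M C X : Subgroup G} (hM : M ≤ X) (hC : C ≤ X) (hi : M ⊓ C = ⊥) :
    Nat.card M * Nat.card C ≤ Nat.card X := by
  refine (Cfsg.Lib.ElemToolkit.mul_card_le M C).trans ?_
  rw [hi, card_bot, mul_one]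
  exact Cfsg.Lib.ElemToolkit.card_le_card_of_le (sup_le hM hC)

theorem two_pow_pred_gt (m : ℕ) : m + 3 < 2 ^ (m + 2) := by
  induction m with
  | zero => norm_num
  | succ m ih => rw [pow_succ]; omega

/-- a maximal elementary abelian subgroup has at most two conjugates of the block -/
theorem moved_two (hG : centralizer (Cfsg.pCore p G : Set G) ≤ Cfsg.pCore p G) (hE : IsBlk p E)
    (hEs : E.IsSubnormal) (T : Sylow p G) {A : Subgroup G} (hA : Cfsg.Lib.Thompson.IsMaxElem p (T : Subgroup G) A)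
    (hAn : ¬ A ≤ normalizer (E : Set G)) {u : G} (hu : u ∈ w1Of p E) (huZ : u ∉ zOf p E)
    (hfix : ∀ x ∈ A ⊓ normalizer (E : Set G), Commute u x) :
    p = 2 ∧ Nat.card A = 2 * Nat.card ↥(A ⊓ normalizer (E : Set G)) := by
  classical
  set A0 := (A ⊓ normalizer (E : Set G)).subgroupOf A with hA0
  haveI : Fintype (↥A ⧸ A0) := Fintype.ofFinite _
  haveI : A0.Normal := ⟨fun n hn g => by
    rwa [show g * n = n * g from Subtype.ext (Cfsg.Lib.ElemToolkit.comm_of hA.2.1.1 g.2 n.2), mul_inv_cancel_right]⟩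
  let v : ↥A ⧸ A0 → G := fun q => ((q.out : ↥A) : G) * u * ((q.out : ↥A) : G)⁻¹
  have hvmem : ∀ q, v q ∈ cj ((q.out : ↥A) : G) E := fun q => mem_cj (w1_le_self hE hu)
  have hdist : ∀ q r : ↥A ⧸ A0, q ≠ r → cj ((q.out : ↥A) : G) E ≠ cj ((r.out : ↥A) : G) E := by
    intro q r hne h
    apply hne
    refine (QuotientGroup.out_eq' q).symm.trans ((QuotientGroup.eq.2 ?_).trans (QuotientGroup.out_eq' r))
    show ((q.out⁻¹ * r.out : ↥A) : G) ∈ A ⊓ normalizer (E : Set G)
    refine mem_inf.2 ⟨(q.out⁻¹ * r.out : ↥A).2, ?_⟩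
    rw [Subgroup.coe_mul, Subgroup.coe_inv, ← cj_eq_iff, ← cj_mul, ← h, cj_mul, inv_mul_cancel]
    exact (cj_eq_iff 1 E).2 (one_mem _)
  set X := closure (Set.range v) with hX
  have hXR : X ≤ Cfsg.pCore p G := by
    rw [hX, closure_le]
    rintro _ ⟨q, rfl⟩
    exact (Cfsg.Lib.Components.pCore_normal' p).conj_mem _ (w1_le_core hE hEs hu) _
  have hcomm : ∀ q r, Commute (v q) (v r) := fun q r => by
    by_cases h : q = r
    · rw [h]
    · exact comm_cj hG hE hEs (hdist q r h) (hvmem q) (hvmem r)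
  have hXe : Cfsg.IsElementaryAbelian p X :=
    closure_elementary (by rintro _ ⟨q, rfl⟩ _ ⟨r, rfl⟩; exact hcomm q r)
      (by
        rintro _ ⟨q, rfl⟩
        simp only [v, conj_pow, wOf_pow E (w1_le_wOf hE hu), mul_one, mul_inv_cancel])
  have hAC : A ⊓ normalizer (E : Set G) ≤ A ⊓ centralizer (X : Set G) := by
    refine le_inf inf_le_left ?_
    rw [le_centralizer_iff, hX, closure_le]
    rintro _ ⟨q, rfl⟩
    refine mem_centralizer_iff.2 fun x hx => ?_
    have h1 : Commute ((q.out : ↥A) : G) x := Cfsg.Lib.ElemToolkit.comm_of hA.2.1.1 q.out.2 (mem_inf.1 hx).1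
    exact ((h1.mul_left (hfix x hx)).mul_left h1.inv_left).symm.eq
  have hbound := (Nat.mul_le_mul_right _ (Cfsg.Lib.ElemToolkit.card_le_card_of_le hAC)).trans
    (maxElem_bound hA (hXR.trans ((Cfsg.Lib.Components.isPGroup_pCore p).le_sylow_of_normal T)) hXe)
  -- lower bound
  letI : CommGroup ↥X :=
    { (inferInstance : Group ↥X) with
      mul_comm := fun a b => Subtype.ext (Cfsg.Lib.ElemToolkit.comm_of hXe.1 a.2 b.2) }
  let w : ↥A ⧸ A0 → ↥X := fun q => ⟨v q, subset_closure ⟨q, rfl⟩⟩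
  let x : Finset (↥A ⧸ A0) → ↥X := fun S => ∏ q ∈ S, w q
  let H : ↥A ⧸ A0 → Subgroup ↥X := fun q => (centralizer (cj ((q.out : ↥A) : G) E : Set G)).subgroupOf X
  have hfar : ∀ q r, q ≠ r → w r ∈ H q := by
    intro q r h
    show v r ∈ centralizer _
    exact mem_centralizer_iff.2 fun y hy => (comm_cj hG hE hEs (hdist q r h) hy (hvmem r)).eq
  have hown : ∀ q, w q ∉ H q := by
    intro q h
    apply huZ
    refine mem_inf.2 ⟨w1_le_wOf hE hu, mem_centralizer_iff.2 fun e he => ?_⟩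
    have h' := mem_centralizer_iff.1 (show v q ∈ centralizer _ from h) _ (mem_cj he)
    set a := ((q.out : ↥A) : G)
    have h'' : (a * e * a⁻¹) * (a * u * a⁻¹) = (a * u * a⁻¹) * (a * e * a⁻¹) := h'
    have h2 : a * (e * u) * a⁻¹ = a * (u * e) * a⁻¹ := by
      rw [show a * (e * u) * a⁻¹ = (a * e * a⁻¹) * (a * u * a⁻¹) by group, h'']; group
    exact mul_left_cancel (mul_right_cancel h2)
  have hsep : ∀ S S' q, (x S)⁻¹ * x S' ∈ H q → q ∈ S' → q ∈ S := by
    intro S S' q hc hq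
    by_contra hqS
    apply hown q
    have h1 : x S ∈ H q := Subgroup.prod_mem _ fun r hr => hfar q r fun e => hqS (e ▸ hr)
    have h2 : x S' ∈ H q := by simpa using mul_mem h1 hc
    have h3 : ∏ r ∈ S'.erase q, w r ∈ H q :=
      Subgroup.prod_mem _ fun r hr => hfar q r (Finset.ne_of_mem_erase hr).symm
    have h4 : w q * ∏ r ∈ S'.erase q, w r = x S' := Finset.mul_prod_erase _ _ hq
    rw [eq_mul_inv_of_mul_eq h4]
    exact mul_mem h2 (inv_mem h3)
  set C := X ⊓ centralizer (A : Set G) with hC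
  have hone : ((1 : ↥A ⧸ A0).out : ↥A) ∈ A0 := by
    rw [← QuotientGroup.eq_one_iff, QuotientGroup.out_eq']
  have hlow : 2 ^ (Fintype.card (↥A ⧸ A0) - 1) * Nat.card C ≤ Nat.card X := by
    have h1 : 2 ^ (Fintype.card (↥A ⧸ A0) - 1) ≤ (C.subgroupOf X).index := by
      rw [← Finset.card_univ, ← Finset.card_erase_of_mem (Finset.mem_univ (1 : ↥A ⧸ A0)), ← Finset.card_powerset,
        ← Nat.card_eq_finsetCard, Subgroup.index_eq_card]
      refine Nat.card_le_card_of_injective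
        (fun S : ↥((Finset.univ.erase (1 : ↥A ⧸ A0)).powerset) => (QuotientGroup.mk (x S.1) : ↥X ⧸ _)) ?_
      rintro ⟨S, hS⟩ ⟨S', hS'⟩ he
      rw [Finset.mem_powerset] at hS hS'
      have hc : (((x S)⁻¹ * x S' : ↥X) : G) ∈ C := (QuotientGroup.eq (s := C.subgroupOf X) (a := x S) (b := x S')).1 he
      have hmem : ∀ q, (x S)⁻¹ * x S' ∈ H q := by
        have hE1 : ∀ e ∈ E, Commute (((x S)⁻¹ * x S' : ↥X) : G) e := by
          intro e he'
          have hH1 : (x S)⁻¹ * x S' ∈ H 1 := mul_mem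
            (inv_mem (Subgroup.prod_mem _ fun r hr => hfar 1 r (Finset.ne_of_mem_erase (hS hr)).symm))
            (Subgroup.prod_mem _ fun r hr => hfar 1 r (Finset.ne_of_mem_erase (hS' hr)).symm)
          refine (mem_centralizer_iff.1 (show _ ∈ centralizer _ from hH1) e ?_).symm
          rw [(cj_eq_iff _ E).2 (mem_inf.1 (mem_subgroupOf.1 hone)).2]
          exact he'
        intro q
        show (((x S)⁻¹ * x S' : ↥X) : G) ∈ centralizer _
        refine mem_centralizer_iff.2 ?_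
        rintro _ ⟨e, he', rfl⟩
        have h2 : Commute ((q.out : ↥A) : G) (((x S)⁻¹ * x S' : ↥X) : G) :=
          mem_centralizer_iff.1 (mem_inf.1 hc).2 _ q.out.2
        exact ((h2.mul_left (hE1 e he').symm).mul_left h2.inv_left).eq
      refine Subtype.ext (Finset.ext fun q => ⟨fun hq => ?_, fun hq => hsep S S' q (hmem q) hq⟩)
      refine hsep S' S q ?_ hq
      rw [show (x S')⁻¹ * x S = ((x S)⁻¹ * x S')⁻¹ by rw [_root_.mul_inv_rev, inv_inv]]
      exact inv_mem (hmem q)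
    refine (Nat.mul_le_mul_right _ h1).trans (le_of_eq ?_)
    rw [mul_comm, ← Nat.card_congr (subgroupOfEquivOfLe (inf_le_left : C ≤ X)).toEquiv, card_mul_index]
  have hcardA : Fintype.card (↥A ⧸ A0) * Nat.card ↥(A ⊓ normalizer (E : Set G)) = Nat.card A := by
    rw [← Nat.card_eq_fintype_card, ← Subgroup.index_eq_card,
      ← Nat.card_congr (subgroupOfEquivOfLe (inf_le_left : A ⊓ normalizer (E : Set G) ≤ A)).toEquiv, mul_comm,
      card_mul_index]
  set k := Fintype.card (↥A ⧸ A0) with hk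
  have hk1 : k ≠ 1 := by
    intro h
    apply hAn
    rw [h, one_mul] at hcardA
    exact (Subgroup.eq_of_le_of_card_ge (inf_le_left : A ⊓ normalizer (E : Set G) ≤ A) hcardA.ge).ge.trans
      inf_le_right
  have hk2 : 2 ^ (k - 1) ≤ k := by
    suffices h : 2 ^ (k - 1) * (Nat.card C * Nat.card ↥(A ⊓ normalizer (E : Set G))) ≤
        k * (Nat.card C * Nat.card ↥(A ⊓ normalizer (E : Set G))) from
      Nat.le_of_mul_le_mul_right h (Nat.mul_pos Nat.card_pos Nat.card_pos)
    calc 2 ^ (k - 1) * (Nat.card C * Nat.card ↥(A ⊓ normalizer (E : Set G)))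
        = Nat.card ↥(A ⊓ normalizer (E : Set G)) * (2 ^ (k - 1) * Nat.card C) := by ring
      _ ≤ Nat.card ↥(A ⊓ normalizer (E : Set G)) * Nat.card X := Nat.mul_le_mul_left _ hlow
      _ ≤ Nat.card A * Nat.card C := hbound
      _ = k * (Nat.card C * Nat.card ↥(A ⊓ normalizer (E : Set G))) := by rw [← hcardA]; ring
  have hkpos : 0 < k := Fintype.card_pos
  have hk3 : k = 2 := by
    by_contra h
    obtain ⟨m, hm⟩ : ∃ m, k = m + 3 := ⟨k - 3, by omega⟩
    have := two_pow_pred_gt m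
    rw [hm, show m + 3 - 1 = m + 2 by omega] at hk2
    omega
  refine ⟨?_, by rw [← hcardA, hk3]⟩
  have hAp : IsPGroup p A := T.2.to_le hA.1
  obtain ⟨i, hi⟩ := IsPGroup.iff_card.mp hAp
  have h2 : 2 ∣ p ^ i := hi ▸ ⟨_, (by rw [← hcardA, hk3])⟩
  exact ((Nat.prime_dvd_prime_iff_eq Nat.prime_two hp.out).1 (Nat.prime_two.dvd_of_dvd_pow h2)).symm

/-- the largest elementary abelian subgroups normalize the block -/
theorem maxElem_normalizes (hG : centralizer (Cfsg.pCore p G : Set G) ≤ Cfsg.pCore p G) (hE : IsBlk p E)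
    (hEs : E.IsSubnormal) (T : Sylow p G) {A : Subgroup G} (hA : Cfsg.Lib.Thompson.IsMaxElem p (T : Subgroup G) A) :
    A ≤ normalizer (E : Set G) := by
  by_contra hAn
  set A0 := A ⊓ normalizer (E : Set G) with hA0
  have hA0p : IsPGroup p A0 := T.2.to_le (inf_le_left.trans hA.1)
  obtain ⟨M, hM, hPM, hMZ, hMne, hM4⟩ := free_part hE hA0p inf_le_right
  have hMp : IsPGroup p M := (isPGroup_wOf E).to_le (hM.trans (w1_le_wOf hE))
  obtain ⟨u, huM, hu1, hfix⟩ := exists_fixed_exact hMp hMne hA0p hPM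
  obtain ⟨hp2, hcard⟩ := moved_two hG hE hEs T hA hAn (hM huM) (fun h => hu1 (hMZ u huM h)) hfix
  obtain ⟨a, haA, han⟩ := SetLike.not_le_iff_exists.1 hAn
  have hupow : ∀ m ∈ M, m ^ 2 = 1 := fun m hm => hp2 ▸ wOf_pow E (w1_le_wOf hE (hM hm))
  have hzu : Nat.card (zpowers u) = 2 := by
    rw [Nat.card_zpowers]
    haveI := Fact.mk Nat.prime_two
    exact orderOf_eq_prime (hupow u huM) hu1
  have hne : ¬ M ≤ zpowers u := fun h => by
    have := (hM4 hp2).trans (Cfsg.Lib.ElemToolkit.card_le_card_of_le h)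
    omega
  obtain ⟨u2, hu2M, hu2u, hfix2⟩ := exists_fixed_group (U₀ := zpowers u) hMp hne hA0p hPM
  have hconj : ∀ x ∈ A0, x * u2 * x⁻¹ = u2 ∨ x * u2 * x⁻¹ = u * u2 := by
    intro x hx
    obtain ⟨i, hi⟩ := mem_zpowers_iff.1 (hfix2 x hx)
    have h2 : (u ^ i)⁻¹ * u2 = x * u2 * x⁻¹ := by rw [hi, commutatorElement_def]; group
    rcases Int.even_or_odd i with ⟨j, rfl⟩ | ⟨j, rfl⟩
    · refine Or.inl (h2.symm.trans ?_)
      rw [← two_mul, zpow_mul, zpow_ofNat, hupow u huM, one_zpow, inv_one, one_mul]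
    · refine Or.inr (h2.symm.trans ?_)
      rw [zpow_add_one, zpow_mul, zpow_ofNat, hupow u huM, one_zpow, one_mul,
        inv_eq_of_mul_eq_one_left (by rw [← pow_two]; exact hupow u huM)]
  set B := A0 ⊓ centralizer ({u2} : Set G) with hB
  set X := closure ({u, u2, a * u * a⁻¹, a * u2 * a⁻¹} : Set G) with hX
  set M2 := closure ({u, u2} : Set G) with hM2
  have hM2M : M2 ≤ M := by
    rw [hM2, closure_le]; rintro y (rfl | rfl) <;> assumption
  have hone : cj (1 : G) E = E := (cj_eq_iff 1 E).2 (one_mem _)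
  have hmove : cj (1 : G) E ≠ cj a E := fun h => han ((cj_eq_iff a E).1 (h.symm.trans hone))
  have hgen : ∀ y ∈ ({u, u2, a * u * a⁻¹, a * u2 * a⁻¹} : Set G),
      y ∈ w1Of p E ∨ ∃ m ∈ w1Of p E, y = a * m * a⁻¹ := by
    rintro y (rfl | rfl | rfl | rfl)
    · exact Or.inl (hM huM)
    · exact Or.inl (hM hu2M)
    · exact Or.inr ⟨u, hM huM, rfl⟩
    · exact Or.inr ⟨u2, hM hu2M, rfl⟩
  have hcomm : ∀ y ∈ ({u, u2, a * u * a⁻¹, a * u2 * a⁻¹} : Set G),
      ∀ z ∈ ({u, u2, a * u * a⁻¹, a * u2 * a⁻¹} : Set G), Commute y z := by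
    intro y hy z hz
    have hW : ∀ {m n : G}, m ∈ w1Of p E → n ∈ w1Of p E → Commute m n := fun hm hn =>
      wOf_comm E (w1_le_wOf hE hm) (w1_le_wOf hE hn)
    have hEm : ∀ {m : G}, m ∈ w1Of p E → m ∈ cj (1 : G) E := fun {m} hm => by
      rw [hone]; exact w1_le_self hE hm
    rcases hgen y hy with hy' | ⟨m, hm, rfl⟩ <;> rcases hgen z hz with hz' | ⟨n, hn, rfl⟩
    · exact hW hy' hz'
    · exact comm_cj hG hE hEs hmove (hEm hy') (mem_cj (w1_le_self hE hn))
    · exact (comm_cj hG hE hEs hmove (hEm hz') (mem_cj (w1_le_self hE hm))).symm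
    · exact (hW hm hn).map (MulAut.conj a).toMonoidHom
  have hXe : Cfsg.IsElementaryAbelian p X := by
    refine closure_elementary hcomm fun y hy => ?_
    rcases hgen y hy with hy' | ⟨m, hm, rfl⟩
    · exact wOf_pow E (w1_le_wOf hE hy')
    · rw [conj_pow, wOf_pow E (w1_le_wOf hE hm), mul_one, mul_inv_cancel]
  have hXT : X ≤ (T : Subgroup G) := by
    refine le_trans ?_ ((Cfsg.Lib.Components.isPGroup_pCore p).le_sylow_of_normal T)
    rw [hX, closure_le]
    intro y hy
    rcases hgen y hy with hy' | ⟨m, hm, rfl⟩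
    · exact w1_le_core hE hEs hy'
    · exact (Cfsg.Lib.Components.pCore_normal' p).conj_mem _ (w1_le_core hE hEs hm) _
  have hBX : B ≤ A ⊓ centralizer (X : Set G) := by
    refine le_inf (inf_le_left.trans inf_le_left) ?_
    rw [le_centralizer_iff, hX, closure_le]
    intro y hy
    refine mem_centralizer_iff.2 fun b hb => ?_
    obtain ⟨hb0, hb2⟩ := mem_inf.1 hb
    have hab : Commute a b := Cfsg.Lib.ElemToolkit.comm_of hA.2.1.1 haA (mem_inf.1 hb0).1
    have c1 : Commute u b := hfix b hb0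
    have c2 : Commute u2 b := mem_centralizer_iff.1 hb2 u2 rfl
    rcases hy with rfl | rfl | rfl | rfl
    · exact c1.symm.eq
    · exact c2.symm.eq
    · exact ((hab.mul_left c1).mul_left hab.inv_left).symm.eq
    · exact ((hab.mul_left c2).mul_left hab.inv_left).symm.eq
  set C := X ⊓ centralizer (A : Set G) with hC
  have hbound := (Nat.mul_le_mul_right _ (Cfsg.Lib.ElemToolkit.card_le_card_of_le hBX)).trans
    (maxElem_bound hA hXT hXe)
  have hcX : ∀ c ∈ C, a * c * a⁻¹ = c := fun c hc => by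
    rw [mem_centralizer_iff.1 (mem_inf.1 hc).2 a haA, mul_inv_cancel_right]
  have hMC : M2 ⊓ C = ⊥ := by
    refine eq_bot_iff.2 fun c hc => ?_
    obtain ⟨hc2, hcC⟩ := mem_inf.1 hc
    rw [Subgroup.mem_bot]
    refine hMZ c (hM2M hc2) (mem_zOf_of_moved hG hE hEs (hM (hM2M hc2)) han ?_)
    rw [hcX c hcC]; exact w1_le_self hE (hM (hM2M hc2))
  have hM2X : M2 ≤ X := closure_mono (by rintro y (rfl | rfl) <;> simp)
  have hCX : C ≤ X := inf_le_left
  have hu2_2 : u2 ∈ M2 := subset_closure (Set.mem_insert_of_mem _ rfl)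
  have hu_2 : u ∈ M2 := subset_closure (Set.mem_insert _ _)
  have hM24 : 4 ≤ Nat.card M2 := by
    have hle : zpowers u ≤ M2 := zpowers_le.2 hu_2
    have hd := Subgroup.card_dvd_of_le hle
    rw [hzu] at hd
    have : Nat.card M2 ≠ 2 := fun e => hu2u (by
      rw [Subgroup.eq_of_le_of_card_ge hle (by rw [hzu, e])]; exact hu2_2)
    obtain ⟨j, hj⟩ := hd
    have : 0 < Nat.card M2 := Nat.card_pos
    omega
  have hA0card : 0 < Nat.card A0 := Nat.card_pos
  have hCcard : 0 < Nat.card C := Nat.card_pos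
  by_cases hall : ∀ x ∈ A0, x * u2 * x⁻¹ = u2
  · have hBA : A0 ≤ B := le_inf le_rfl fun x hx => mem_centralizer_iff.2 fun y hy => by
      rw [Set.mem_singleton_iff.1 hy]
      exact (mul_inv_eq_iff_eq_mul.1 (hall x hx)).symm
    have h1 := card_mul_le hM2X hCX hMC
    have h2 : Nat.card A0 * Nat.card X ≤ Nat.card A * Nat.card C :=
      (Nat.mul_le_mul_right _ (Cfsg.Lib.ElemToolkit.card_le_card_of_le hBA)).trans hbound
    rw [hcard] at h2
    replace h2 : Nat.card A0 * Nat.card X ≤ 2 * Nat.card A0 * Nat.card C := h2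
    have h2' : Nat.card A0 * Nat.card X ≤ Nat.card A0 * (2 * Nat.card C) := h2.trans_eq (by ring)
    have h3 : Nat.card X ≤ 2 * Nat.card C := Nat.le_of_mul_le_mul_left h2' hA0card
    have h4 := Nat.mul_le_mul_right (Nat.card C) hM24
    omega
  push Not at hall
  obtain ⟨x0, hx0, hmv⟩ := hall
  have hmv' := (hconj x0 hx0).resolve_left hmv
  have hB2 : Nat.card A0 ≤ Nat.card B * 2 := by
    classical
    rw [← Nat.card_eq_fintype_card.trans (Fintype.card_bool), ← Nat.card_prod]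
    refine Nat.card_le_card_of_injective (fun y : ↥A0 =>
      if h : (y : G) * u2 * (y : G)⁻¹ = u2 then
        ((⟨y, mem_inf.2 ⟨y.2, mem_centralizer_iff.2 fun z hz => by
          rw [Set.mem_singleton_iff.1 hz]; exact (mul_inv_eq_iff_eq_mul.1 h).symm⟩⟩ : ↥B), false)
      else ((⟨x0⁻¹ * y, mem_inf.2 ⟨mul_mem (inv_mem hx0) y.2, mem_centralizer_iff.2 fun z hz => by
          rw [Set.mem_singleton_iff.1 hz]
          refine (mul_inv_eq_iff_eq_mul.1 ?_).symm
          calc x0⁻¹ * y * u2 * (x0⁻¹ * y)⁻¹ = x0⁻¹ * ((y : G) * u2 * (y : G)⁻¹) * x0 := by group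
            _ = x0⁻¹ * (x0 * u2 * x0⁻¹) * x0 := by rw [(hconj y y.2).resolve_left h, hmv']
            _ = u2 := by group⟩⟩ : ↥B), true)) ?_
    intro y z hyz
    simp only at hyz
    split_ifs at hyz
    · exact Subtype.ext (congrArg (fun q : ↥B × Bool => (q.1 : G)) hyz)
    · exact absurd (congrArg Prod.snd hyz) (by simp)
    · exact absurd (congrArg Prod.snd hyz) (by simp)
    · exact Subtype.ext (mul_left_cancel (congrArg (fun q : ↥B × Bool => (q.1 : G)) hyz))
  set t := a * u2 * a⁻¹ with ht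
  set Y := M2 ⊔ zpowers t with hY
  have htX : t ∈ X := subset_closure (by simp [ht])
  have hYX : Y ≤ X := sup_le hM2X (zpowers_le.2 htX)
  have hYC : Y ⊓ C = ⊥ := by
    refine eq_bot_iff.2 fun c hc => ?_
    obtain ⟨hcY, hcC⟩ := mem_inf.1 hc
    have hn : zpowers t ≤ normalizer (M2 : Set G) := by
      refine zpowers_le.2 (centralizer_le_normalizer _ (mem_centralizer_iff.2 fun m hm => ?_))
      exact Cfsg.Lib.ElemToolkit.comm_of hXe.1 (hM2X hm) htX
    rw [hY, ← SetLike.mem_coe, coe_mul_of_right_le_normalizer_left _ _ hn] at hcY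
    obtain ⟨m, hm, s, hs, rfl⟩ := Set.mem_mul.1 hcY
    obtain ⟨i, rfl⟩ := mem_zpowers_iff.1 hs
    have ht2 : t ^ 2 = 1 := by rw [ht, conj_pow, hupow u2 hu2M, mul_one, mul_inv_cancel]
    rcases Int.even_or_odd i with ⟨j, rfl⟩ | ⟨j, rfl⟩
    · have e1 : t ^ (j + j) = 1 := by rw [← two_mul, zpow_mul, zpow_ofNat, ht2, one_zpow]
      simp only [e1, mul_one] at hcC ⊢
      rw [← hMC]
      exact mem_inf.2 ⟨hm, hcC⟩
    exfalso
    have e1 : t ^ (2 * j + 1) = t := by rw [zpow_add_one, zpow_mul, zpow_ofNat, ht2, one_zpow, one_mul]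
    simp only [e1] at hcC
    have hfix' : x0 * (m * t) * x0⁻¹ = m * t := by
      rw [mem_centralizer_iff.1 (mem_inf.1 hcC).2 x0 (mem_inf.1 hx0).1, mul_inv_cancel_right]
    have hax : Commute a x0 := Cfsg.Lib.ElemToolkit.comm_of hA.2.1.1 haA (mem_inf.1 hx0).1
    have htx : x0 * t * x0⁻¹ = (a * u * a⁻¹) * t := by
      calc x0 * t * x0⁻¹ = (x0 * a) * u2 * (x0 * a)⁻¹ := by rw [ht]; group
        _ = (a * x0) * u2 * (a * x0)⁻¹ := by rw [hax.eq]
        _ = a * (x0 * u2 * x0⁻¹) * a⁻¹ := by group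
        _ = a * (u * u2) * a⁻¹ := by rw [hmv']
        _ = a * u * a⁻¹ * t := by rw [ht]; group
    rw [show x0 * (m * t) * x0⁻¹ = (x0 * m * x0⁻¹) * (x0 * t * x0⁻¹) by group, htx, ← mul_assoc,
      mul_right_cancel_iff] at hfix'
    refine hu1 (hMZ u huM (mem_zOf_of_moved hG hE hEs (hM huM) han ?_))
    rw [← inv_mul_eq_iff_eq_mul.2 hfix'.symm]
    exact mul_mem (inv_mem (w1_le_self hE (hM ((mem_normalizer_iff.1 (hPM hx0) m).1 (hM2M hm)))))
      (w1_le_self hE (hM (hM2M hm)))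
  have hY5 : 4 < Nat.card Y := by
    refine lt_of_le_of_lt hM24 ?_
    refine lt_of_le_of_ne (Cfsg.Lib.ElemToolkit.card_le_card_of_le le_sup_left) fun e => ?_
    have h : t ∈ M2 := by
      rw [Subgroup.eq_of_le_of_card_ge (le_sup_left : M2 ≤ Y) e.ge]
      exact mem_sup_right (mem_zpowers t)
    exact hu2u ((hMZ u2 hu2M (mem_zOf_of_moved hG hE hEs (hM hu2M) han (w1_le_self hE (hM (hM2M h))))) ▸ one_mem _)
  have h1 := card_mul_le hYX hCX hYC
  have h3 : Nat.card X ≤ 4 * Nat.card C := by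
    suffices h : Nat.card B * Nat.card X ≤ Nat.card B * (4 * Nat.card C) from
      Nat.le_of_mul_le_mul_left h Nat.card_pos
    refine hbound.trans ?_
    rw [hcard]
    calc 2 * Nat.card A0 * Nat.card C ≤ 2 * (Nat.card B * 2) * Nat.card C :=
          Nat.mul_le_mul_right _ (Nat.mul_le_mul_left _ hB2)
      _ = Nat.card B * (4 * Nat.card C) := by ring
  have h4 := Nat.mul_le_mul_right (Nat.card C) (show 5 ≤ Nat.card Y from hY5)
  omega

/-- every Baumann subgroup normalizes a subnormal block -/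
theorem baumann_normalizes (hG : centralizer (Cfsg.pCore p G : Set G) ≤ Cfsg.pCore p G) (hE : IsBlk p E)
    (hEs : E.IsSubnormal) (T : Sylow p G) :
    Cfsg.baumannSubgroupOf p (T : Subgroup G) ≤ normalizer (E : Set G) := by
  set J := Cfsg.thompsonSubgroupOf p (T : Subgroup G) with hJ
  have hJn : J ≤ normalizer (E : Set G) := by
    rw [hJ, Cfsg.Lib.Thompson.thompsonSubgroupOf_eq]
    exact sSup_le fun A hA => maxElem_normalizes hG hE hEs T hA
  have hJp : IsPGroup p J := T.2.to_le (Cfsg.Lib.Thompson.thompsonSubgroupOf_le _)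
  obtain ⟨M, hM, hPM, hMZ, hMne, -⟩ := free_part hE hJp hJn
  obtain ⟨u, huM, hu1, hfix⟩ := exists_fixed_exact ((isPGroup_wOf E).to_le (hM.trans (w1_le_wOf hE))) hMne hJp hPM
  have huW := hM huM
  intro b hb
  by_contra hbn
  refine hu1 (hMZ u huM (mem_zOf_of_moved hG hE hEs huW hbn ?_))
  have huO : u ∈ Cfsg.omegaOne p (Cfsg.centerThompsonOf p (T : Subgroup G)) := by
    obtain ⟨A, hA⟩ := Cfsg.Lib.Thompson.exists_isMaxElem (p := p) (T : Subgroup G)
    have hAJ : A ≤ J := by rw [hJ, Cfsg.Lib.Thompson.thompsonSubgroupOf_eq]; exact le_sSup hA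
    have huT : u ∈ (T : Subgroup G) :=
      (Cfsg.Lib.Components.isPGroup_pCore p).le_sylow_of_normal T (w1_le_core hE hEs huW)
    have hup := wOf_pow E (w1_le_wOf hE huW)
    have hel := Cfsg.Lib.OddP.isElementaryAbelian_sup_zpowers hA.2.1 hup fun a ha => (hfix a (hAJ ha)).symm
    have heq : A = A ⊔ zpowers u := Subgroup.eq_of_le_of_card_ge le_sup_left
      (hA.2.2 _ (sup_le hA.1 (zpowers_le.2 huT)) hel)
    exact subset_closure ⟨mem_inf.2 ⟨hAJ (heq.ge (mem_sup_right (mem_zpowers u))),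
      mem_centralizer_iff.2 fun x hx => (hfix x hx).symm⟩, hup⟩
  rw [show b * u * b⁻¹ = u by rw [← mem_centralizer_iff.1 (mem_inf.1 hb).2 u huO, mul_inv_cancel_right]]
  exact w1_le_self hE huW

end Cfsg.Lib.BlockPair
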