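/-
A subnormal block lies in, and is normalized by, the Baumann subgroup, and is a block for every Sylow subgroup.
-/
import Cfsg.Agent.BlockPair.Moves

set_option autoImplicit false

namespace Cfsg.Lib.BlockPair

set_option linter.style.haveILetI false
set_option linter.unusedSectionVars false

open Subgroup
open scoped commutatorElement

universe u

variable {G : Type u} [Group G] [Finite G] {p : ℕ} [hp : Fact p.Prime] {E : Subgroup G}

theorem bt_map (g : G) (T : Sylow p G) :
    cj g (Cfsg.baumannSubgroupOf p (T : Subgroup G)) = Cfsg.baumannSubgroupOf p ((g • T : Sylow p G) : Subgroup G) :=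
  Cfsg.Lib.BlockBasic.map_baumannSubgroupOf _ _

/-- a Sylow subgroup containing the Baumann subgroup has the same Baumann subgroup -/
theorem baumann_eq (T T' : Sylow p G) (h : Cfsg.baumannSubgroupOf p (T : Subgroup G) ≤ (T' : Subgroup G)) :
    Cfsg.baumannSubgroupOf p (T : Subgroup G) = Cfsg.baumannSubgroupOf p (T' : Subgroup G) := by
  obtain ⟨g, hg⟩ := MulAction.exists_smul_eq G T T'
  have hmap : (T : Subgroup G).map (MulAut.conj g).toMonoidHom = (T' : Subgroup G) := by
    rw [← hg]; rfl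
  have hJeq : Cfsg.thompsonSubgroupOf p (T : Subgroup G) = Cfsg.thompsonSubgroupOf p (T' : Subgroup G) := by
    refine Subgroup.eq_of_le_of_card_ge ?_ ?_
    · rw [Cfsg.Lib.Thompson.thompsonSubgroupOf_eq, Cfsg.Lib.Thompson.thompsonSubgroupOf_eq]
      refine sSup_le fun A hA => le_sSup ⟨?_, hA.2.1, fun C hC hCe => ?_⟩
      · refine le_trans ?_ ((Cfsg.Lib.BlockBasic.thompson_le_baumann _).trans h)
        rw [Cfsg.Lib.Thompson.thompsonSubgroupOf_eq]
        exact le_sSup hA
      · rw [← hmap] at hC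
        have h' := hA.2.2 (C.map (MulAut.conj g).symm.toMonoidHom) ?_
          ((Cfsg.Lib.Thompson.isElementaryAbelian_map_iff (MulAut.conj g).symm.injective.injOn).2 hCe)
        · rwa [Cfsg.Lib.Thompson.card_map_of_injOn (MulAut.conj g).symm.injective.injOn] at h'
        · refine (Subgroup.map_mono hC).trans ?_
          rw [map_map]
          rintro _ ⟨y, hy, rfl⟩
          have e1 : ((MulAut.conj g).symm.toMonoidHom.comp (MulAut.conj g).toMonoidHom) y = y := by
            simp [mul_assoc]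
          rw [e1]; exact hy
    · rw [← hmap, ← Cfsg.Lib.Thompson.map_thompsonSubgroupOf (MulAut.conj g).injective.injOn,
        Cfsg.Lib.Thompson.card_map_of_injOn (MulAut.conj g).injective.injOn]
  refine Subgroup.eq_of_le_of_card_ge ?_ ?_
  · refine le_inf h ?_
    rw [Cfsg.centerThompsonOf, ← hJeq]
    exact inf_le_right
  · rw [← hmap, ← Cfsg.Lib.BlockBasic.map_baumannSubgroupOf,
      Cfsg.Lib.Thompson.card_map_of_injOn (MulAut.conj g).injective.injOn]

theorem bt_le (T : Sylow p G) : Cfsg.baumannSubgroupOf p (T : Subgroup G) ≤ Cfsg.baumannSubgroup p G :=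
  le_iSup (fun T : Sylow p G => Cfsg.baumannSubgroupOf p (T : Subgroup G)) T

theorem bg_normal : (Cfsg.baumannSubgroup p G).Normal := by
  refine ⟨fun x hx g => ?_⟩
  refine (iSup_le fun T => ?_ : Cfsg.baumannSubgroup p G ≤
    (Cfsg.baumannSubgroup p G).comap (MulAut.conj g).toMonoidHom) hx
  intro y hy
  show g * y * g⁻¹ ∈ Cfsg.baumannSubgroup p G
  exact bt_le (g • T) ((bt_map g T) ▸ mem_cj hy)

theorem bg_normalizes (hG : centralizer (Cfsg.pCore p G : Set G) ≤ Cfsg.pCore p G) (hE : IsBlk p E)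
    (hEs : E.IsSubnormal) : Cfsg.baumannSubgroup p G ≤ normalizer (E : Set G) :=
  iSup_le fun T => baumann_normalizes hG hE hEs T

theorem le_bg (hE : IsBlk p E) : E ≤ Cfsg.baumannSubgroup p G := by
  obtain ⟨T, hT⟩ := hE
  haveI : (Cfsg.baumannSubgroup p G).Normal := bg_normal
  rw [← hT.2.1]
  exact (commutator_mono le_rfl (bt_le T)).trans (commutator_le_right _ _)

/-- some central element of order `p` of a Sylow subgroup moves the block -/
theorem commutator_omega_ne (hG : centralizer (Cfsg.pCore p G : Set G) ≤ Cfsg.pCore p G) (hE : IsBlk p E)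
    (hEs : E.IsSubnormal) (T : Sylow p G) : ⁅E, Cfsg.omegaOneCenter p (T : Subgroup G)⁆ ≠ ⊥ := by
  classical
  set P := (T : Subgroup G) ⊓ normalizer (E : Set G) with hP
  have hPp : IsPGroup p P := T.2.to_le inf_le_left
  obtain ⟨M, hM, hPM, hMZ, hMne, -⟩ := free_part hE hPp inf_le_right
  obtain ⟨u, huM, hu1, hfix⟩ := exists_fixed_exact ((isPGroup_wOf E).to_le (hM.trans (w1_le_wOf hE))) hMne hPp hPM
  have hu := hM huM
  have huZ : u ∉ zOf p E := fun h => hu1 (hMZ u huM h)
  set P' := P.subgroupOf (T : Subgroup G) with hP'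
  haveI : Fintype (↥(T : Subgroup G) ⧸ P') := Fintype.ofFinite _
  let f : ↥(T : Subgroup G) → G := fun t => (t : G) * u * (t : G)⁻¹
  have hwell : ∀ a b : ↥(T : Subgroup G), (QuotientGroup.mk a : ↥(T : Subgroup G) ⧸ P') = QuotientGroup.mk b →
      f a = f b := by
    intro a b h
    have hm : ((a⁻¹ * b : ↥(T : Subgroup G)) : G) ∈ P := (QuotientGroup.eq (s := P')).1 h
    have hc := (hfix _ hm).eq
    have e : (b : G) = (a : G) * ((a⁻¹ * b : ↥(T : Subgroup G)) : G) := by
      rw [Subgroup.coe_mul, Subgroup.coe_inv, mul_inv_cancel_left]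
    show (a : G) * u * (a : G)⁻¹ = (b : G) * u * (b : G)⁻¹
    rw [e]
    calc (a : G) * u * (a : G)⁻¹ = (a : G) * (u * ((a⁻¹ * b : ↥(T : Subgroup G)) : G)) *
          ((a : G) * ((a⁻¹ * b : ↥(T : Subgroup G)) : G))⁻¹ := by group
      _ = _ := by rw [hc]; group
  have hdist : ∀ a b : ↥(T : Subgroup G), (QuotientGroup.mk a : ↥(T : Subgroup G) ⧸ P') ≠ QuotientGroup.mk b →
      cj (a : G) E ≠ cj (b : G) E := by
    intro a b hne h
    apply hne
    refine QuotientGroup.eq.2 ?_
    show ((a⁻¹ * b : ↥(T : Subgroup G)) : G) ∈ P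
    refine mem_inf.2 ⟨(a⁻¹ * b).2, ?_⟩
    rw [Subgroup.coe_mul, Subgroup.coe_inv, ← cj_eq_iff, ← cj_mul, ← h, cj_mul, inv_mul_cancel]
    exact (cj_eq_iff 1 E).2 (one_mem _)
  set X := closure (Set.range f) with hX
  have hXR : X ≤ Cfsg.pCore p G := by
    rw [hX, closure_le]
    rintro _ ⟨t, rfl⟩
    exact (Cfsg.Lib.Components.pCore_normal' p).conj_mem _ (w1_le_core hE hEs hu) _
  have hXe : Cfsg.IsElementaryAbelian p X := by
    refine closure_elementary ?_ ?_
    · rintro _ ⟨a, rfl⟩ _ ⟨b, rfl⟩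
      by_cases h : (QuotientGroup.mk a : ↥(T : Subgroup G) ⧸ P') = QuotientGroup.mk b
      · rw [hwell a b h]
      · exact comm_cj hG hE hEs (hdist a b h) (mem_cj (w1_le_self hE hu)) (mem_cj (w1_le_self hE hu))
    · rintro _ ⟨a, rfl⟩
      simp only [f, conj_pow, wOf_pow E (w1_le_wOf hE hu), mul_one, mul_inv_cancel]
  letI : CommGroup ↥X :=
    { (inferInstance : Group ↥X) with
      mul_comm := fun a b => Subtype.ext (Cfsg.Lib.ElemToolkit.comm_of hXe.1 a.2 b.2) }
  let w : ↥(T : Subgroup G) ⧸ P' → ↥X := fun q => ⟨f q.out, subset_closure ⟨q.out, rfl⟩⟩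
  set x : ↥X := ∏ q, w q with hx
  have hXT : X ≤ (T : Subgroup G) := hXR.trans ((Cfsg.Lib.Components.isPGroup_pCore p).le_sylow_of_normal T)
  have hfixed : ∀ t : ↥(T : Subgroup G), (t : G) * (x : G) * (t : G)⁻¹ = x := by
    intro t
    have hstab : X ≤ X.comap (MulAut.conj (t : G)).toMonoidHom := by
      rw [hX, closure_le]
      rintro _ ⟨a, rfl⟩
      refine subset_closure ⟨t * a, ?_⟩
      show ((t * a : ↥(T : Subgroup G)) : G) * u * ((t * a : ↥(T : Subgroup G)) : G)⁻¹ =
        (t : G) * ((a : G) * u * (a : G)⁻¹) * (t : G)⁻¹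
      rw [Subgroup.coe_mul]; group
    let φ : ↥X →* ↥X :=
      { toFun := fun y => ⟨(t : G) * y * (t : G)⁻¹, hstab y.2⟩
        map_one' := Subtype.ext (by simp)
        map_mul' := fun y z => Subtype.ext (by
          show (t : G) * ((y : G) * z) * (t : G)⁻¹ = ((t : G) * y * (t : G)⁻¹) * ((t : G) * z * (t : G)⁻¹)
          group) }
    have h : φ x = x := by
      rw [hx, map_prod]
      refine Fintype.prod_equiv (MulAction.toPerm t) _ _ fun q => Subtype.ext ?_
      show (t : G) * f q.out * (t : G)⁻¹ = f (t • q).out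
      rw [← hwell (t * q.out) (t • q).out (by
        rw [QuotientGroup.out_eq']
        conv_rhs => rw [← QuotientGroup.out_eq' q]
        rfl)]
      simp only [f, Subgroup.coe_mul]; group
    exact congrArg Subtype.val h
  have hxO : (x : G) ∈ Cfsg.omegaOneCenter p (T : Subgroup G) := by
    refine subset_closure ⟨mem_inf.2 ⟨hXT x.2, mem_centralizer_iff.2 fun t ht => ?_⟩, hXe.2 _ x.2⟩
    exact mul_inv_eq_iff_eq_mul.1 (hfixed ⟨t, ht⟩)
  intro hbot
  apply huZ
  refine mem_inf.2 ⟨w1_le_wOf hE hu, mem_centralizer_iff.2 fun e he => ?_⟩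
  have hxe : Commute e (x : G) := commutatorElement_eq_one_iff_mul_comm.1
    (Subgroup.mem_bot.1 (hbot ▸ commutator_mem_commutator he hxO))
  let H : Subgroup ↥X := (centralizer ({e} : Set G)).subgroupOf X
  set q0 : ↥(T : Subgroup G) ⧸ P' := QuotientGroup.mk 1 with hq0
  have hfar : ∀ q, q ≠ q0 → w q ∈ H := by
    intro q hq
    show f q.out ∈ centralizer _
    refine mem_centralizer_iff.2 fun y hy => ?_
    rw [Set.mem_singleton_iff.1 hy]
    have hne : cj ((1 : ↥(T : Subgroup G)) : G) E ≠ cj (q.out : G) E :=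
      hdist 1 q.out (by rw [QuotientGroup.out_eq']; exact Ne.symm hq)
    rw [OneMemClass.coe_one, (cj_eq_iff 1 E).2 (one_mem _)] at hne
    refine (comm_cj hG hE hEs (a := 1) ?_ ?_ (mem_cj (w1_le_self hE hu))).eq
    · rwa [(cj_eq_iff 1 E).2 (one_mem _)]
    · rw [(cj_eq_iff 1 E).2 (one_mem _)]; exact he
  have hxH : x ∈ H := mem_centralizer_iff.2 fun y hy => by
    rw [Set.mem_singleton_iff.1 hy]; exact hxe.eq
  have h3 : ∏ q ∈ Finset.univ.erase q0, w q ∈ H :=
    Subgroup.prod_mem _ fun q hq => hfar q (Finset.ne_of_mem_erase hq)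
  have h4 : w q0 * ∏ q ∈ Finset.univ.erase q0, w q = x := Finset.mul_prod_erase _ _ (Finset.mem_univ _)
  have h5 : w q0 ∈ H := by rw [eq_mul_inv_of_mul_eq h4]; exact mul_mem hxH (inv_mem h3)
  have h6 : f q0.out = u := by
    rw [hwell q0.out 1 (by rw [QuotientGroup.out_eq'])]
    simp [f]
  have h7 := mem_centralizer_iff.1 (show f q0.out ∈ centralizer _ from h5) e rfl
  rwa [h6] at h7

/-- a subnormal block is a block for every Sylow subgroup -/
theorem block_all (hG : centralizer (Cfsg.pCore p G : Set G) ≤ Cfsg.pCore p G) (hE : IsBlk p E)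
    (hEs : E.IsSubnormal) (T' : Sylow p G) : Cfsg.IsBaumannBlock p (T' : Subgroup G) E := by
  have hne := commutator_omega_ne hG hE hEs T'
  obtain ⟨T, hT⟩ := hE
  have hE' : IsBlk p E := ⟨T, hT⟩
  set N := Cfsg.baumannSubgroup p G with hN
  haveI : N.Normal := bg_normal
  set B := Cfsg.baumannSubgroupOf p (T : Subgroup G) with hB
  obtain ⟨P, hP⟩ := (IsPGroup.comap_subtype (K := N) (T.2.to_le inf_le_left : IsPGroup p B)).exists_le_sylow
  set S := (P : Subgroup ↥N).map N.subtype with hS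
  have hBS : B ≤ S := fun b hb => ⟨⟨b, bt_le T hb⟩, hP hb, rfl⟩
  have hnorm : normalizer (S : Set G) ≤ normalizer (B : Set G) := by
    intro n hn
    obtain ⟨T1, hT1⟩ := (P.2.map N.subtype).exists_le_sylow
    have h1 : cj n B ≤ S := by
      rintro _ ⟨b, hb, rfl⟩
      exact (mem_normalizer_iff.1 hn b).1 (hBS hb)
    rw [← cj_eq_iff]
    conv_rhs => rw [hB, baumann_eq T T1 (hBS.trans hT1)]
    rw [hB, bt_map]
    exact baumann_eq (n • T) T1 (by rw [← bt_map]; exact h1.trans hT1)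
  obtain ⟨g, hg⟩ := MulAction.exists_smul_eq G T T'
  have hgm : g ∈ N ⊔ normalizer (S : Set G) := by
    rw [sup_comm, Sylow.normalizer_sup_eq_top P]; exact mem_top g
  rw [← SetLike.mem_coe, normal_mul, Set.mem_mul] at hgm
  obtain ⟨h, hhN, n, hnS, hgn⟩ := hgm
  have hBeq : Cfsg.baumannSubgroupOf p ((h • T : Sylow p G) : Subgroup G) =
      Cfsg.baumannSubgroupOf p (T' : Subgroup G) := by
    rw [← bt_map, ← hg, ← bt_map, ← hgn, ← cj_mul, (cj_eq_iff n _).2 (hnorm hnS)]
  have hb := block_map (p := p) (MulAut.conj h) hT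
  rw [show E.map (MulAut.conj h).toMonoidHom = E from (cj_eq_iff h E).2 (bg_normalizes hG hE' hEs hhN)] at hb
  obtain ⟨h1, h2, h3, -, hcase⟩ := hb
  change ⁅E, Cfsg.baumannSubgroupOf p ((h • T : Sylow p G) : Subgroup G)⁆ = E at h2
  rw [hBeq] at h2
  refine ⟨h1, h2, h3, hne, ?_⟩
  change (_ ∨ _) at hcase
  rcases hcase with ⟨F, iF, iFt, n', hF, hi, hact, hex⟩ | hcase
  · refine Or.inl ⟨F, iF, iFt, n', hF, hi, hact, hex.imp_right ?_⟩
    rintro ⟨a1, a2, a3, a4, a5, a6, a7⟩
    refine ⟨a1, a2, a3, a4, a5, a6, fun b hb' => a7 b ?_⟩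
    show b ∈ Cfsg.baumannSubgroupOf p ((h • T : Sylow p G) : Subgroup G)
    rwa [hBeq]
  · exact Or.inr hcase

end Cfsg.Lib.BlockPair
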