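/-
For a linear block over a field with at least four elements the Baumann subgroups act on the module as inner elements.
-/
import Cfsg.Agent.BlockPair.Global

set_option autoImplicit false

namespace Cfsg.Lib.BlockPair

set_option linter.style.haveILetI false
set_option linter.unusedSectionVars false

open Subgroup Matrix
open scoped commutatorElement MatrixGroups

universe u

variable {G : Type u} [Group G] [Finite G] {p : ℕ} [hp : Fact p.Prime] {E : Subgroup G} {F : Type} [Field F]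
  [Fintype F]

theorem LinMod.crd_mul (D : LinMod p E F) (a b : ↥(wOf p E)) : D.crd (a * b) = D.crd a + D.crd b := by
  simp only [LinMod.crd, map_mul, toAdd_mul]

theorem LinMod.crd_eq_iff (D : LinMod p E F) (a b : ↥(wOf p E)) :
    D.crd a = D.crd b ↔ (a : G)⁻¹ * b ∈ zOf p E := by
  rw [← Subgroup.coe_inv, ← Subgroup.coe_mul, ← D.crd_eq_zero]
  simp only [LinMod.crd, map_mul, map_inv, toAdd_mul, toAdd_inv, neg_add_eq_zero]

/-- conjugation on the module -/
def conjW {t : G} (ht : t ∈ normalizer (E : Set G)) (u : ↥(wOf p E)) : ↥(wOf p E) :=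
  ⟨t * u * t⁻¹, conj_wOf ht u.2⟩

/-- the action on coordinates -/
noncomputable def LinMod.act' (D : LinMod p E F) {t : G} (ht : t ∈ normalizer (E : Set G)) (v : Fin 2 → F) :
    Fin 2 → F :=
  D.crd (conjW ht (D.exists_crd v).choose)

theorem LinMod.act'_crd (D : LinMod p E F) {t : G} (ht : t ∈ normalizer (E : Set G)) (u : ↥(wOf p E)) :
    D.act' ht (D.crd u) = D.crd (conjW ht u) := by
  refine (D.crd_eq_iff _ _).2 ?_
  set w := (D.exists_crd (D.crd u)).choose
  have h := conj_zOf ht ((D.crd_eq_iff w u).1 (D.exists_crd (D.crd u)).choose_spec)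
  show (t * (w : G) * t⁻¹)⁻¹ * (t * (u : G) * t⁻¹) ∈ zOf p E
  rw [show (t * (w : G) * t⁻¹)⁻¹ * (t * (u : G) * t⁻¹) = t * ((w : G)⁻¹ * u) * t⁻¹ by group]
  exact h

theorem LinMod.act'_mul (D : LinMod p E F) {a b : G} (ha : a ∈ normalizer (E : Set G))
    (hb : b ∈ normalizer (E : Set G)) (v : Fin 2 → F) :
    D.act' (mul_mem ha hb) v = D.act' ha (D.act' hb v) := by
  obtain ⟨u, rfl⟩ := D.exists_crd v
  rw [D.act'_crd, D.act'_crd, D.act'_crd]
  congr 1
  apply Subtype.ext
  show a * b * (u : G) * (a * b)⁻¹ = a * (b * (u : G) * b⁻¹) * a⁻¹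
  group

theorem LinMod.act'_congr (D : LinMod p E F) {a b : G} (h : a = b) (ha : a ∈ normalizer (E : Set G))
    (hb : b ∈ normalizer (E : Set G)) (v : Fin 2 → F) : D.act' ha v = D.act' hb v := by
  subst h; rfl

theorem LinMod.act'_one (D : LinMod p E F) (h : (1 : G) ∈ normalizer (E : Set G)) (v : Fin 2 → F) :
    D.act' h v = v := by
  obtain ⟨u, rfl⟩ := D.exists_crd v
  rw [D.act'_crd]
  congr 1
  exact Subtype.ext (by simp [conjW])

/-- the action as an additive bijection -/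
noncomputable def LinMod.beta (D : LinMod p E F) {t : G} (ht : t ∈ normalizer (E : Set G)) :
    (Fin 2 → F) ≃+ (Fin 2 → F) where
  toFun := D.act' ht
  invFun := D.act' (inv_mem ht)
  left_inv v := by
    rw [← D.act'_mul (inv_mem ht) ht, D.act'_congr (inv_mul_cancel t) _ (one_mem _), D.act'_one]
  right_inv v := by
    rw [← D.act'_mul ht (inv_mem ht), D.act'_congr (mul_inv_cancel t) _ (one_mem _), D.act'_one]
  map_add' v w := by
    obtain ⟨a, rfl⟩ := D.exists_crd v
    obtain ⟨b, rfl⟩ := D.exists_crd w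
    rw [← D.crd_mul, D.act'_crd, D.act'_crd, D.act'_crd, ← D.crd_mul]
    congr 1
    apply Subtype.ext
    show t * ((a : G) * b) * t⁻¹ = (t * (a : G) * t⁻¹) * (t * (b : G) * t⁻¹)
    group

theorem LinMod.crd_act (D : LinMod p E F) (e : ↥E) (u : ↥(wOf p E)) :
    D.crd (conjW (le_normalizer e.2) u) = ((D.ρ e : SL(2, F)) : Matrix (Fin 2) (Fin 2) F) *ᵥ D.crd u := by
  obtain ⟨w, hw1, hw2⟩ := D.act e u
  rw [show conjW (le_normalizer e.2) u = w from Subtype.ext hw1.symm]
  exact hw2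

theorem LinMod.beta_normalizes (D : LinMod p E F) (h4 : 4 ≤ Fintype.card F) {t : G}
    (ht : t ∈ normalizer (E : Set G)) : Line.Normalizes (D.beta ht) := by
  intro g
  obtain ⟨e, rfl⟩ := D.range_top h4 g
  set e' : ↥E := ⟨t * e * t⁻¹, (mem_normalizer_iff.1 ht _).1 e.2⟩
  refine ⟨D.ρ e', fun v => ?_⟩
  obtain ⟨u, rfl⟩ := D.exists_crd v
  show D.act' ht _ = _ *ᵥ D.act' ht _
  rw [← D.crd_act, D.act'_crd, D.act'_crd, ← D.crd_act]
  congr 1
  apply Subtype.ext
  show t * ((e : G) * (u : G) * (e : G)⁻¹) * t⁻¹ = (t * (e : G) * t⁻¹) * (t * (u : G) * t⁻¹) * (t * (e : G) * t⁻¹)⁻¹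
  group

/-- an element acting as an element of the block -/
theorem LinMod.exists_inner (D : LinMod p E F) (hE : IsBlk p E) {t : G} (ht : t ∈ normalizer (E : Set G)) (e : ↥E)
    (h : ∀ v, D.act' ht v = ((D.ρ e : SL(2, F)) : Matrix (Fin 2) (Fin 2) F) *ᵥ v) :
    TrivMod p E ((e : G)⁻¹ * t) := by
  have hn : (e : G)⁻¹ * t ∈ normalizer (E : Set G) := mul_mem (inv_mem (le_normalizer e.2)) ht
  refine ⟨hn, fun u hu => ?_⟩
  have h1 : D.crd (conjW hn ⟨u, hu⟩) = D.crd ⟨u, hu⟩ := by
    rw [← D.act'_crd hn, D.act'_mul (inv_mem (le_normalizer e.2)) ht, h, ← D.crd_act, D.act'_crd]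
    congr 1
    exact Subtype.ext (by
      show (e : G)⁻¹ * ((e : G) * u * (e : G)⁻¹) * (e : G)⁻¹⁻¹ = u
      group)
  have h2 := (mem_normalizer_iff.1 (w1_normalizer_zOf hE le_rfl hu) _).1 ((D.crd_eq_iff _ _).1 h1)
  have e' : u * ((conjW hn ⟨u, hu⟩ : G)⁻¹ * u) * u⁻¹ = ⁅u, (e : G)⁻¹ * t⁆ := by
    show u * (((e : G)⁻¹ * t * u * ((e : G)⁻¹ * t)⁻¹)⁻¹ * u) * u⁻¹ = _
    rw [commutatorElement_def]; group
  exact e' ▸ h2

theorem card_le_fibre {A : Type*} [Group A] [Finite A] {Y : Type*} [Finite Y] (H : Subgroup A) (f : A → Y)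
    (h : ∀ a b, f a = f b → a⁻¹ * b ∈ H) : Nat.card A ≤ Nat.card Y * Nat.card H := by
  classical
  let g : Y → A := fun y => if hy : ∃ a, f a = y then hy.choose else 1
  have hg : ∀ a, f (g (f a)) = f a := fun a => by
    have hy : ∃ x, f x = f a := ⟨a, rfl⟩
    simp only [g, dif_pos hy]
    exact hy.choose_spec
  rw [← Nat.card_prod]
  refine Nat.card_le_card_of_injective (fun a => (f a, (⟨(g (f a))⁻¹ * a, h _ _ (hg a)⟩ : ↥H))) ?_
  intro a b hab
  have h1 : f a = f b := congrArg Prod.fst hab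
  have h2 : (g (f a))⁻¹ * a = (g (f b))⁻¹ * b := congrArg (fun q : Y × ↥H => (q.2 : A)) hab
  rw [h1] at h2
  exact mul_left_cancel h2

theorem eq_one_of_pow_char {x : F} (hchar : ringChar F = p) {i : ℕ} (h : x ^ p ^ i = 1) : x = 1 := by
  haveI : CharP F p := hchar ▸ ringChar.charP F
  refine sub_eq_zero.1 (eq_zero_of_pow_eq_zero (n := p ^ i) ?_)
  rw [sub_pow_char_pow, h, one_pow, sub_self]

/-- semilinear triangular data of a map -/
def Tri (β : (Fin 2 → F) → Fin 2 → F) (σ : F →+* F) (d₁ c d₂ : F) : Prop :=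
  d₁ ≠ 0 ∧ d₂ ≠ 0 ∧ ∀ v : Fin 2 → F, β v = ![σ (v 0) * d₁ + σ (v 1) * c, σ (v 1) * d₂]

theorem Tri.eq_uni {β : (Fin 2 → F) → Fin 2 → F} {σ : F →+* F} {c : F} (h : Tri β σ 1 c 1) (hσ : σ = RingHom.id F)
    (v : Fin 2 → F) : β v = (Line.uni c : Matrix (Fin 2) (Fin 2) F) *ᵥ v := by
  rw [h.2.2, Line.uni_mulVec, hσ]
  funext i; fin_cases i <;> simp [mul_comm]

/-- if `σ` is trivial a `p`-element is unipotent -/
theorem LinMod.unipotent (D : LinMod p E F) {t : G} (ht : t ∈ normalizer (E : Set G)) {i : ℕ} (hi : t ^ p ^ i = 1)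
    {σ : F →+* F} {d₁ c d₂ : F} (h : Tri (D.act' ht) σ d₁ c d₂) (hσ : σ = RingHom.id F) : d₁ = 1 ∧ d₂ = 1 := by
  have hit : ∀ k : ℕ, ∃ (hk : t ^ k ∈ normalizer (E : Set G)),
      (∀ l, D.act' hk (Line.ax l) = Line.ax (l * d₁ ^ k)) ∧ D.act' hk ![0, 1] 1 = d₂ ^ k := by
    intro k
    induction k with
    | zero =>
      refine ⟨pow_mem ht 0, fun l => ?_, ?_⟩
      · rw [D.act'_congr (pow_zero t) _ (one_mem _), D.act'_one, pow_zero, mul_one]
      · rw [D.act'_congr (pow_zero t) _ (one_mem _), D.act'_one, pow_zero]; rfl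
    | succ k ih =>
      obtain ⟨hk, h1, h2⟩ := ih
      refine ⟨pow_mem ht (k + 1), fun l => ?_, ?_⟩
      · rw [D.act'_congr (pow_succ' t k) _ (mul_mem ht hk), D.act'_mul ht hk, h1, h.2.2, hσ]
        funext j; fin_cases j
        · simp [pow_succ, mul_assoc]
        · simp
      · rw [D.act'_congr (pow_succ' t k) _ (mul_mem ht hk), D.act'_mul ht hk, h.2.2, hσ]
        show (RingHom.id F) (D.act' hk ![0, 1] 1) * d₂ = _
        rw [RingHom.id_apply, h2, pow_succ]
  obtain ⟨hk, h1, h2⟩ := hit (p ^ i)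
  constructor
  · refine eq_one_of_pow_char D.ringChar_eq (i := i) ?_
    have := congrFun (h1 1) 0
    rw [D.act'_congr hi _ (one_mem _), D.act'_one] at this
    simpa using this.symm
  · refine eq_one_of_pow_char D.ringChar_eq (i := i) ?_
    rw [D.act'_congr hi _ (one_mem _), D.act'_one] at h2
    simpa using h2.symm

theorem mem_omega_of_centralize {T : Subgroup G} {u : G} (huT : u ∈ T) (hup : u ^ p = 1)
    (h : ∀ x ∈ Cfsg.thompsonSubgroupOf p T, Commute x u) :
    u ∈ Cfsg.omegaOne p (Cfsg.centerThompsonOf p T) := by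
  obtain ⟨A, hA⟩ := Cfsg.Lib.Thompson.exists_isMaxElem (p := p) T
  have hAJ : A ≤ Cfsg.thompsonSubgroupOf p T := by
    rw [Cfsg.Lib.Thompson.thompsonSubgroupOf_eq]; exact le_sSup hA
  have hel := Cfsg.Lib.OddP.isElementaryAbelian_sup_zpowers hA.2.1 hup fun a ha => h a (hAJ ha)
  have heq : A = A ⊔ zpowers u := Subgroup.eq_of_le_of_card_ge le_sup_left
    (hA.2.2 _ (sup_le hA.1 (zpowers_le.2 huT)) hel)
  exact subset_closure ⟨mem_inf.2 ⟨hAJ (heq.ge (mem_sup_right (mem_zpowers u))),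
    mem_centralizer_iff.2 fun x hx => h x hx⟩, hup⟩

/-- the fixed points of a semilinear triangular map -/
theorem card_fixed_le {a : (Fin 2 → F) → Fin 2 → F} {σ : F →+* F} {d₁ c d₂ : F} (h : Tri a σ d₁ c d₂)
    (I : Set (Fin 2 → F)) (hI : ∀ v ∈ I, a v = v) :
    Nat.card I ≤ Nat.card {x : F // σ x * d₂ = x * 1} * Nat.card {x : F // σ x * d₁ = x * 1} := by
  classical
  have e1 : ∀ v ∈ I, σ (v 1) * d₂ = v 1 * 1 := fun v hv => by
    have := congrFun (hI v hv) 1
    rw [h.2.2] at this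
    rw [mul_one]
    simpa using this
  have e0 : ∀ v ∈ I, σ (v 0) * d₁ + σ (v 1) * c = v 0 := fun v hv => by
    have := congrFun (hI v hv) 0
    rw [h.2.2] at this
    simpa using this
  let g : {x : F // σ x * d₂ = x * 1} → F := fun y => if hy : ∃ v ∈ I, v 1 = y.1 then hy.choose 0 else 0
  rw [← Nat.card_prod]
  refine Nat.card_le_card_of_injective (fun v : I =>
    ((⟨v.1 1, e1 v v.2⟩ : {x : F // σ x * d₂ = x * 1}), (⟨v.1 0 - g ⟨v.1 1, e1 v v.2⟩, ?_⟩ : {x : F // σ x * d₁ = x * 1}))) ?_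
  · have hy : ∃ w ∈ I, w 1 = v.1 1 := ⟨v.1, v.2, rfl⟩
    simp only [g, dif_pos hy]
    obtain ⟨hw, hw1⟩ := hy.choose_spec
    have h1 := e0 _ hw
    rw [hw1] at h1
    rw [map_sub, mul_one]
    linear_combination e0 v v.2 - h1
  · intro v w hvw
    have h1 : v.1 1 = w.1 1 := congrArg (fun q => (q.1 : F)) hvw
    have h0 : v.1 0 - g ⟨v.1 1, e1 v v.2⟩ = w.1 0 - g ⟨w.1 1, e1 w w.2⟩ := congrArg (fun q => (q.2 : F)) hvw
    simp only [h1, sub_left_inj] at h0
    refine Subtype.ext (funext fun j => ?_)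
    fin_cases j
    · exact h0
    · exact h1

/-- the Baumann subgroups act as inner elements -/
theorem LinMod.baumann_inner (D : LinMod p E F) (hG : centralizer (Cfsg.pCore p G : Set G) ≤ Cfsg.pCore p G)
    (hE : IsBlk p E) (h4 : 4 ≤ Fintype.card F) (T : Sylow p G)
    (hBE : Cfsg.baumannSubgroupOf p (T : Subgroup G) ≤ normalizer (E : Set G)) {b : G}
    (hb : b ∈ Cfsg.baumannSubgroupOf p (T : Subgroup G)) : ∃ e ∈ E, TrivMod p E (e⁻¹ * b) := by
  classical
  set P := (T : Subgroup G) ⊓ normalizer (E : Set G) with hP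
  obtain ⟨S, hSE, hS, hPS, -, hmax⟩ := exists_sylow_invariant (T.2.to_le inf_le_left : IsPGroup p P) inf_le_right
  obtain ⟨D', hfwd, hbwd⟩ := D.adapted hE h4 hSE hS hmax
  have hn : wOf p E ≤ normalizer (zOf p E : Set G) := w1_normalizer_zOf hE le_rfl
  set L := fixedClass p E S hn with hL
  have hPE : ∀ t ∈ P, t ∈ normalizer (E : Set G) := fun t ht => (mem_inf.1 ht).2
  have hform : ∀ t : ↥P, ∃ σ : F →+* F, ∃ d₁ c d₂ : F, Tri (D'.act' (hPE t t.2)) σ d₁ c d₂ := by
    rintro ⟨t, ht⟩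
    refine Line.form (D'.beta_normalizes h4 (hPE t ht)) fun l => ?_
    obtain ⟨u, hu⟩ := D'.exists_crd (Line.ax l)
    have huL : (u : G) ∈ L := (D'.mem_line hSE hfwd hbwd h4 u).2 (by rw [hu]; simp)
    show D'.act' _ (Line.ax l) 1 = 0
    rw [← hu, D'.act'_crd]
    refine (D'.mem_line hSE hfwd hbwd h4 (hn := hn) _).1 ?_
    obtain ⟨h1, h2⟩ := mem_fixedClass.1 huL
    refine mem_fixedClass.2 ⟨conj_wOf (hPE t ht) h1, fun s hs => ?_⟩
    have hs' : t⁻¹ * s * t⁻¹⁻¹ ∈ S := (mem_normalizer_iff.1 (inv_mem (hPS ht)) s).1 hs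
    have := conj_zOf (hPE t ht) (h2 _ hs')
    have e : t * ⁅(u : G), t⁻¹ * s * t⁻¹⁻¹⁆ * t⁻¹ = ⁅t * (u : G) * t⁻¹, s⁆ := by
      simp only [commutatorElement_def]; group
    rwa [e] at this
  choose σ d₁ c d₂ hT using hform
  have hpow : ∀ t : ↥P, ∃ i : ℕ, (t : G) ^ p ^ i = 1 := fun t => by
    obtain ⟨i, hi⟩ := T.2 ⟨t, (mem_inf.1 t.2).1⟩
    exact ⟨i, congrArg Subtype.val hi⟩
  have huni : ∀ t : ↥P, σ t = RingHom.id F → d₁ t = 1 ∧ d₂ t = 1 := fun t ht => by
    obtain ⟨i, hi⟩ := hpow t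
    exact D'.unipotent (hPE t t.2) hi (hT t) ht
  have hinner : ∀ t : ↥P, σ t = RingHom.id F → ∃ e : ↥E, (e : G) ∈ S ∧ TrivMod p E ((e : G)⁻¹ * t) := fun t ht => by
    obtain ⟨h1, h2⟩ := huni t ht
    obtain ⟨e, he⟩ := D'.range_top h4 (Line.uni (c t))
    refine ⟨e, hbwd e _ he, D'.exists_inner hE (hPE t t.2) e fun v => ?_⟩
    rw [he]
    have h3 := hT t
    rw [h1, h2] at h3
    exact h3.eq_uni ht v
  -- elementary abelian subgroups of largest order
  have hA : ∀ A, Cfsg.Lib.Thompson.IsMaxElem p (T : Subgroup G) A →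
      ∀ a ∈ A, ∀ u ∈ L ⊓ w1Of p E, Commute a u := by
    intro A hA
    have hAP : A ≤ P := le_inf hA.1 (le_trans (le_trans (by
      rw [Cfsg.Lib.Thompson.thompsonSubgroupOf_eq]; exact le_sSup hA)
      (Cfsg.Lib.BlockBasic.thompson_le_baumann (p := p) (T : Subgroup G))) hBE)
    let ι : ↥A → ↥P := fun a => ⟨a, hAP a.2⟩
    have hmul : ∀ a b : ↥A, σ (ι (a * b)) = (σ (ι a)).comp (σ (ι b)) ∧
        d₁ (ι (a * b)) = σ (ι a) (d₁ (ι b)) * d₁ (ι a) := by
      intro a b
      have key : ∀ l, σ (ι (a * b)) l * d₁ (ι (a * b)) = σ (ι a) (σ (ι b) l * d₁ (ι b)) * d₁ (ι a) := by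
        intro l
        have h := D'.act'_mul (hPE _ (ι a).2) (hPE _ (ι b).2) (Line.ax l)
        rw [D'.act'_congr (show (a : G) * b = ((ι (a * b) : ↥P) : G) from rfl) _ (hPE _ (ι (a * b)).2),
          (hT _).2.2, (hT (ι b)).2.2, (hT (ι a)).2.2] at h
        have h0 := congrFun h 0
        simpa using h0
      have h1 := key 1
      rw [map_one, one_mul, map_one, one_mul] at h1
      refine ⟨RingHom.ext fun l => ?_, h1⟩
      have hl := key l
      rw [h1, map_mul] at hl
      have hne : σ (ι a) (d₁ (ι b)) * d₁ (ι a) ≠ 0 := mul_ne_zero ((map_ne_zero _).2 (hT (ι b)).1) (hT (ι a)).1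
      refine mul_right_cancel₀ hne ?_
      rw [RingHom.comp_apply]
      linear_combination hl
    have hσone : σ (ι 1) = RingHom.id F := by
      have h := (hmul 1 1).1
      rw [mul_one] at h
      refine RingHom.ext fun l => (σ (ι 1)).injective ?_
      exact (RingHom.congr_fun h l).symm
    let A1 : Subgroup ↥A :=
      { carrier := {a | σ (ι a) = RingHom.id F}
        one_mem' := hσone
        mul_mem' := fun {a b} ha hb => by
          show σ (ι (a * b)) = _
          rw [(hmul a b).1, ha, hb]; rfl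
        inv_mem' := fun {a} ha => by
          have h := (hmul a⁻¹ a).1
          rw [inv_mul_cancel, hσone, ha, RingHom.comp_id] at h
          exact h.symm }
    by_cases hall : A1 = ⊤
    · intro a ha u hu
      obtain ⟨huL, huW⟩ := mem_inf.1 hu
      have haσ : σ (ι ⟨a, ha⟩) = RingHom.id F :=
        (show (⟨a, ha⟩ : ↥A) ∈ A1 from hall.symm ▸ mem_top _)
      obtain ⟨e, heS, htm⟩ := hinner _ haσ
      have hk : Commute ((e : G)⁻¹ * a) u := (htm.exact hE).1 u huW
      suffices hes : Commute (e : G) u by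
        have := hes.mul_left hk
        rwa [mul_inv_cancel_left] at this
      by_cases h2 : p = 2
      · subst h2
        exact (D'.line_exact hE hSE hfwd hbwd h4 huL heS).symm
      · refine (commutatorElement_eq_one_iff_mul_comm.1 (D.inf_eq_bot_odd hE h2 _ ?_
          ((mem_fixedClass.1 huL).2 _ heS))).symm
        rw [commutatorElement_def, show u * (e : G) * u⁻¹ * (e : G)⁻¹ = u * ((e : G) * u * (e : G)⁻¹)⁻¹ by group]
        exact mul_mem huW (inv_mem (conj_w1_self hE (le_normalizer e.2) huW))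
    exfalso
    obtain ⟨a0, -, ha0⟩ := SetLike.not_le_iff_exists.1 fun h : ⊤ ≤ A1 => hall (top_le_iff.1 h)
    set σ0 := σ (ι a0) with hσ0
    have hσne : σ0 ≠ RingHom.id F := ha0
    set K := A ⊓ centralizer (w1Of p E : Set G) with hK
    set K' := K.subgroupOf A with hK'
    set kf := Nat.card {x : F // σ0 x = x} with hkf
    have hkf2 : kf * kf ≤ Fintype.card F := Line.card_fixed_sq hσne
    have hd1 : ∀ a : ↥A1, d₁ (ι a) = 1 ∧ d₂ (ι a) = 1 := fun a => huni _ a.2
    -- unipotent part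
    have hA1 : Nat.card A1 ≤ kf * Nat.card K := by
      have h1 := card_le_fibre (K'.subgroupOf A1) (fun a : ↥A1 =>
        (⟨c (ι a), by
          obtain ⟨e1, e2⟩ := hd1 a
          have hc := D'.act'_mul (hPE _ (ι a0).2) (hPE _ (ι a).2) ![0, 1]
          have hc' := D'.act'_mul (hPE _ (ι a).2) (hPE _ (ι a0).2) ![0, 1]
          rw [D'.act'_congr (show (a0 : G) * (a : ↥A) = (a : ↥A) * a0 from
            Cfsg.Lib.ElemToolkit.comm_of hA.2.1.1 a0.2 (a : ↥A).2) _ (mul_mem (hPE _ (ι a).2) (hPE _ (ι a0).2))] at hc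
          have h := congrFun (hc.symm.trans hc') 0
          rw [(hT (ι a)).2.2, (hT (ι a0)).2.2, (hT (ι a0)).2.2, (hT (ι a)).2.2,
            show σ (ι a) = RingHom.id F from a.2, e1, e2] at h
          simp [← hσ0] at h
          linear_combination h⟩ :
          {x : F // σ0 x * d₁ (ι a0) = x * d₂ (ι a0)})) ?_
      · refine h1.trans (Nat.mul_le_mul (Line.card_twisted_le (hT _).1) ?_)
        refine Nat.card_le_card_of_injective (fun x : ↥(K'.subgroupOf A1) =>
          (⟨((x : ↥A1) : ↥A), mem_subgroupOf.1 (mem_subgroupOf.1 x.2)⟩ : ↥K)) fun x y hxy => ?_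
        exact Subtype.ext (Subtype.ext (Subtype.ext (congrArg Subtype.val hxy :)))
      · intro a b hab
        have hc : c (ι a) = c (ι b) := congrArg Subtype.val hab
        have hact : ∀ v, D'.act' (hPE _ (ι a).2) v = D'.act' (hPE _ (ι b).2) v := fun v => by
          rw [(hT (ι a)).2.2, (hT (ι b)).2.2, show σ (ι a) = RingHom.id F from a.2,
            show σ (ι b) = RingHom.id F from b.2, (hd1 a).1, (hd1 a).2, (hd1 b).1, (hd1 b).2, hc]
        show (((a⁻¹ * b : ↥A1) : ↥A) : G) ∈ K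
        refine mem_inf.2 ⟨((a⁻¹ * b : ↥A1) : ↥A).2, ?_⟩
        simp only [Subgroup.coe_mul, Subgroup.coe_inv]
        have hn1 : ((a : ↥A) : G)⁻¹ * ((b : ↥A) : G) ∈ normalizer (E : Set G) :=
          mul_mem (inv_mem (hPE _ (ι a).2)) (hPE _ (ι b).2)
        have htm := D'.exists_inner hE hn1 1 fun v => by
          rw [D'.act'_mul (inv_mem (hPE _ (ι a).2)) (hPE _ (ι b).2), ← hact, ← D'.act'_mul,
            D'.act'_congr (inv_mul_cancel _) _ (one_mem _), D'.act'_one, map_one]
          exact (one_mulVec v).symm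
        rw [OneMemClass.coe_one, inv_one, one_mul] at htm
        exact mem_centralizer_iff.2 fun u hu => ((htm.exact hE).1 u hu).eq.symm
    have hAA : Nat.card A ≤ (Fintype.card F - 1) * Nat.card A1 := by
      obtain ⟨z, hz0, hz⟩ := Line.exists_determining F
      have h1 := card_le_fibre A1 (fun a : ↥A => Units.mk0 (σ (ι a) z) ((map_ne_zero _).2 hz0)) ?_
      · rwa [Nat.card_units, Nat.card_eq_fintype_card (α := F)] at h1
      · intro a b hab
        have heq : σ (ι a) = σ (ι b) := hz _ _ (congrArg Units.val hab)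
        have h := (hmul a (a⁻¹ * b)).1
        rw [mul_inv_cancel_left] at h
        show σ (ι (a⁻¹ * b)) = RingHom.id F
        refine RingHom.ext fun l => (σ (ι a)).injective ?_
        rw [RingHom.id_apply, ← RingHom.comp_apply, ← h, heq]
    -- the bound
    set I : Set (Fin 2 → F) := {v | ∀ a : ↥A, D'.act' (hPE _ (ι a).2) v = v} with hI
    have hlow : Fintype.card F ^ 2 * Nat.card K ≤ Nat.card A * Nat.card I := by
      have hX : w1Of p E ≤ (T : Subgroup G) :=
        ((w1_le_vOf hG hE).trans (vOf_le.trans inf_le_left)).trans ((Cfsg.Lib.Components.isPGroup_pCore p).le_sylow_of_normal T)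
      have hXe : Cfsg.IsElementaryAbelian p (w1Of p E) :=
        ⟨⟨⟨fun x y => Subtype.ext (wOf_comm E (w1_le_wOf hE x.2) (w1_le_wOf hE y.2)).eq⟩⟩,
          fun x hx => wOf_pow E (w1_le_wOf hE hx)⟩
      have hb := maxElem_bound hA hX hXe
      let φ : ↥(w1Of p E) →* Multiplicative (Fin 2 → F) := D'.ψ.comp (Subgroup.inclusion (w1_le_wOf hE))
      have hsur : Function.Surjective φ := fun v => by
        obtain ⟨u, hu⟩ := D'.surj v
        obtain ⟨x, hx, z, hz, he⟩ := decompose hE u.2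
        refine ⟨⟨x, hx⟩, ?_⟩
        show D'.ψ ⟨x, w1_le_wOf hE hx⟩ = v
        rw [← hu, show u = ⟨x, w1_le_wOf hE hx⟩ * ⟨z, (mem_inf.1 hz).1⟩ from Subtype.ext he, map_mul,
          (D'.kerψ ⟨z, _⟩).2 hz, mul_one]
      have hq : Nat.card (w1Of p E) = Nat.card φ.ker * Fintype.card F ^ 2 := by
        rw [← φ.ker.card_mul_index, Subgroup.index_ker, MonoidHom.range_eq_top.2 hsur, card_top,
          Nat.card_congr Multiplicative.toAdd, Nat.card_fun, Nat.card_fin, Nat.card_eq_fintype_card (α := F)]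
      set U := (w1Of p E ⊓ centralizer (A : Set G)).subgroupOf (w1Of p E) with hU
      have hup : Nat.card ↥(w1Of p E ⊓ centralizer (A : Set G)) ≤ Nat.card φ.ker * Nat.card I := by
        rw [← Nat.card_congr (subgroupOfEquivOfLe (inf_le_left : w1Of p E ⊓ centralizer (A : Set G) ≤ _)).toEquiv,
          ← hU, ← (φ.comp U.subtype).ker.card_mul_index, Subgroup.index_ker]
        refine Nat.mul_le_mul ?_ ?_
        · exact Nat.card_le_card_of_injective (fun x => (⟨((x : ↥U) : ↥(w1Of p E)), x.2⟩ : ↥φ.ker))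
            fun x y hxy => Subtype.ext (Subtype.ext (congrArg Subtype.val hxy :))
        · refine Nat.card_le_card_of_injective
            (fun y : ↥(φ.comp U.subtype).range => (⟨Multiplicative.toAdd y.1, ?_⟩ : I))
            fun x y hxy => Subtype.ext (Multiplicative.toAdd.injective (congrArg Subtype.val hxy :))
          obtain ⟨x, hx⟩ := y.2
          intro a
          rw [← hx]
          show D'.act' _ (D'.crd ⟨((x : ↥(w1Of p E)) : G), w1_le_wOf hE (x : ↥(w1Of p E)).2⟩) = _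
          rw [D'.act'_crd]
          refine congrArg D'.crd (Subtype.ext ?_)
          show (a : G) * ((x : ↥(w1Of p E)) : G) * (a : G)⁻¹ = _
          rw [mem_centralizer_iff.1 (mem_inf.1 (mem_subgroupOf.1 x.2)).2 a a.2, mul_inv_cancel_right]
          rfl
      have := hb.trans (Nat.mul_le_mul_left _ hup)
      rw [hq] at this
      suffices h : Nat.card φ.ker * (Fintype.card F ^ 2 * Nat.card K) ≤ Nat.card φ.ker * (Nat.card A * Nat.card I) from
        Nat.le_of_mul_le_mul_left h Nat.card_pos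
      calc Nat.card φ.ker * (Fintype.card F ^ 2 * Nat.card K) = Nat.card K * (Nat.card φ.ker * Fintype.card F ^ 2) := by ring
        _ ≤ Nat.card A * (Nat.card φ.ker * Nat.card I) := this
        _ = Nat.card φ.ker * (Nat.card A * Nat.card I) := by ring
    have hIk : Nat.card I ≤ kf * kf := (card_fixed_le (hT (ι a0)) I (fun v hv => hv a0)).trans
      (Nat.mul_le_mul (Line.card_twisted_le (hT _).2.1) (Line.card_twisted_le (hT _).1))
    have hq4 : 0 < Fintype.card F := Fintype.card_pos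
    by_cases hbig : ∃ a : ↥A1, c (ι a) ≠ 0
    · obtain ⟨a, hac⟩ := hbig
      have hI1 : Nat.card I ≤ kf := by
        refine le_trans ?_ (Line.card_twisted_le (hT (ι a0)).1 (e := 1))
        have hv1 : ∀ v ∈ I, v 1 = 0 := fun v hv => by
          have h := congrFun (hv (a : ↥A)) 0
          rw [(hT (ι a)).2.2, show σ (ι a) = RingHom.id F from a.2, (hd1 a).1] at h
          simp at h
          exact h.resolve_right hac
        refine Nat.card_le_card_of_injective (fun v : I => (⟨v.1 0, ?_⟩ : {x : F // σ0 x * d₁ (ι a0) = x * 1}))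
          fun v w hvw => Subtype.ext (funext fun j => ?_)
        · have h := congrFun (v.2 a0) 0
          rw [(hT (ι a0)).2.2, hv1 _ v.2] at h
          simpa [mul_one] using h
        · fin_cases j
          · exact congrArg Subtype.val hvw
          · exact (hv1 _ v.2).trans (hv1 _ w.2).symm
      have h5 : Fintype.card F ^ 2 * Nat.card K ≤ ((Fintype.card F - 1) * Fintype.card F) * Nat.card K :=
        calc _ ≤ Nat.card A * Nat.card I := hlow
          _ ≤ ((Fintype.card F - 1) * (kf * Nat.card K)) * kf :=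
            Nat.mul_le_mul (hAA.trans (Nat.mul_le_mul_left _ hA1)) hI1
          _ = ((Fintype.card F - 1) * (kf * kf)) * Nat.card K := by ring
          _ ≤ _ := Nat.mul_le_mul_right _ (Nat.mul_le_mul_left _ hkf2)
      have h6 := Nat.le_of_mul_le_mul_right h5 Nat.card_pos
      rw [pow_two] at h6
      have := Nat.le_of_mul_le_mul_right h6 hq4
      omega
    · push Not at hbig
      have hA1K : Nat.card A1 ≤ Nat.card K := by
        refine Nat.card_le_card_of_injective (fun a : ↥A1 => (⟨((a : ↥A) : G), mem_inf.2 ⟨(a : ↥A).2, ?_⟩⟩ : ↥K))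
          fun a b hab => Subtype.ext (Subtype.ext (congrArg Subtype.val hab :))
        have htm := D'.exists_inner hE (hPE _ (ι a).2) 1 fun v => by
          rw [(hT (ι a)).2.2, show σ (ι a) = RingHom.id F from a.2, (hd1 a).1, (hd1 a).2, hbig a, map_one]
          refine Eq.trans ?_ (one_mulVec v).symm
          funext j; fin_cases j <;> simp
        rw [OneMemClass.coe_one, inv_one, one_mul] at htm
        exact mem_centralizer_iff.2 fun u hu => ((htm.exact hE).1 u hu).eq.symm
      have h5 : Fintype.card F ^ 2 * Nat.card K ≤ ((Fintype.card F - 1) * Fintype.card F) * Nat.card K :=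
        calc _ ≤ Nat.card A * Nat.card I := hlow
          _ ≤ ((Fintype.card F - 1) * Nat.card K) * Fintype.card F :=
            Nat.mul_le_mul (hAA.trans (Nat.mul_le_mul_left _ hA1K)) (hIk.trans hkf2)
          _ = _ := by ring
      have h6 := Nat.le_of_mul_le_mul_right h5 Nat.card_pos
      rw [pow_two] at h6
      have := Nat.le_of_mul_le_mul_right h6 hq4
      omega
  -- the Baumann subgroup fixes the axis
  have hJ : ∀ u ∈ L ⊓ w1Of p E, ∀ x ∈ Cfsg.thompsonSubgroupOf p (T : Subgroup G), Commute x u := by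
    intro u hu
    have h : Cfsg.thompsonSubgroupOf p (T : Subgroup G) ≤ centralizer ({u} : Set G) := by
      rw [Cfsg.Lib.Thompson.thompsonSubgroupOf_eq]
      exact sSup_le fun A hA' a ha => mem_centralizer_iff.2 fun y hy => by
        rw [Set.mem_singleton_iff.1 hy]; exact (hA A hA' a ha u hu).eq.symm
    exact fun x hx => (mem_centralizer_iff.1 (h hx) u rfl).symm
  have hbP : b ∈ P := mem_inf.2 ⟨(mem_inf.1 hb).1, hBE hb⟩
  set t : ↥P := ⟨b, hbP⟩ with ht
  have hfix : ∀ l, D'.act' (hPE b hbP) (Line.ax l) = Line.ax l := by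
    intro l
    obtain ⟨u, hu⟩ := D'.exists_crd (Line.ax l)
    obtain ⟨x, hx, z, hz, he⟩ := decompose hE u.2
    have hcx : D'.crd ⟨x, w1_le_wOf hE hx⟩ = Line.ax l := by
      rw [← hu]
      refine (D'.crd_eq_iff _ _).2 ?_
      show x⁻¹ * (u : G) ∈ zOf p E
      rw [he, inv_mul_cancel_left]; exact hz
    have hxL : x ∈ L := (D'.mem_line hSE hfwd hbwd h4 ⟨x, w1_le_wOf hE hx⟩).2 (by rw [hcx]; simp)
    have hxO := mem_omega_of_centralize
      ((Cfsg.Lib.Components.isPGroup_pCore p).le_sylow_of_normal T ((w1_le_vOf hG hE).trans (vOf_le.trans inf_le_left) hx))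
      (wOf_pow E (w1_le_wOf hE hx)) (hJ x (mem_inf.2 ⟨hxL, hx⟩))
    rw [← hcx, D'.act'_crd]
    refine congrArg D'.crd (Subtype.ext ?_)
    show b * x * b⁻¹ = x
    rw [← mem_centralizer_iff.1 (mem_inf.1 hb).2 x hxO, mul_inv_cancel_right]
  have hσt : σ t = RingHom.id F := by
    have h1 := congrFun (hfix 1) 0
    rw [(hT t).2.2] at h1
    simp at h1
    refine RingHom.ext fun l => ?_
    have h2 := congrFun (hfix l) 0
    rw [(hT t).2.2] at h2
    simp [h1] at h2
    exact h2
  obtain ⟨e, -, htm⟩ := hinner t hσt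
  exact ⟨e, e.2, htm⟩

end Cfsg.Lib.BlockPair
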