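/-
Coprime elements acting on a block.
-/
import Cfsg.Agent.BlockPair.Inner

set_option autoImplicit false

namespace Cfsg.Lib.BlockPair

set_option linter.style.haveILetI false
set_option linter.unusedSectionVars false

open Subgroup Matrix
open scoped commutatorElement MatrixGroups

universe u

variable {G : Type u} [Group G] [Finite G] {p : ℕ} [hp : Fact p.Prime] {E : Subgroup G}

/-- a coprime element moving `g` by something it fixes fixes `g` -/
theorem coprime_fix {f g s : G} (h : f * g * f⁻¹ = s * g) (hs : Commute f s) (hf : (orderOf f).Coprime p) {i : ℕ}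
    (hsp : s ^ p ^ i = 1) : Commute f g := by
  have hit : ∀ k : ℕ, f ^ k * g * (f ^ k)⁻¹ = s ^ k * g := by
    intro k
    induction k with
    | zero => simp
    | succ k ih =>
      calc f ^ (k + 1) * g * (f ^ (k + 1))⁻¹ = f * (f ^ k * g * (f ^ k)⁻¹) * f⁻¹ := by rw [pow_succ']; group
        _ = (f * s ^ k) * g * f⁻¹ := by rw [ih]; group
        _ = (s ^ k * f) * g * f⁻¹ := by rw [(hs.pow_right k).eq]
        _ = s ^ k * (f * g * f⁻¹) := by group
        _ = s ^ (k + 1) * g := by rw [h, ← mul_assoc, ← pow_succ]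
  have h1 := hit (orderOf f)
  rw [pow_orderOf_eq_one, one_mul, inv_one, mul_one, eq_comm, mul_eq_right] at h1
  have h2 : s = 1 := orderOf_eq_one_iff.mp (Nat.eq_one_of_dvd_coprimes (hf.pow_right i)
    (orderOf_dvd_of_pow_eq_one h1) (orderOf_dvd_of_pow_eq_one hsp))
  rw [h2, one_mul, mul_inv_eq_iff_eq_mul] at h
  exact h

theorem pow_of_pgroup {H : Subgroup G} (hH : IsPGroup p H) {s : G} (hs : s ∈ H) : ∃ i, s ^ p ^ i = 1 := by
  obtain ⟨i, hi⟩ := hH ⟨s, hs⟩
  exact ⟨i, congrArg Subtype.val hi⟩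

/-- commutators with a coprime element of `E` which lie in the module lie in `[W, E]` -/
theorem comm_mem_w1 (hE : IsBlk p E) {r f : G} (hf : f ∈ E) (hco : (orderOf f).Coprime p)
    (h : ⁅f, r⁆ ∈ wOf p E) : ⁅f, r⁆ ∈ w1Of p E := by
  obtain ⟨a, ha, z, hz, haz⟩ := decompose hE h
  have hfn : f ∈ normalizer (E : Set G) := le_normalizer hf
  have hfr : f * r * f⁻¹ = a * z * r := by rw [← haz, commutatorElement_def]; group
  have hfz : Commute f z := mem_centralizer_iff.1 (mem_inf.1 hz).2 f hf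
  have hit : ∀ k : ℕ, ∃ a' ∈ w1Of p E, f ^ k * r * (f ^ k)⁻¹ = a' * z ^ k * r := by
    intro k
    induction k with
    | zero => exact ⟨1, one_mem _, by simp⟩
    | succ k ih =>
      obtain ⟨a', ha', e⟩ := ih
      refine ⟨f * a' * f⁻¹ * a, mul_mem (conj_w1_self hE hfn ha') ha, ?_⟩
      have hza : Commute (z ^ k) a := (wOf_comm E (mem_inf.1 hz).1 (w1_le_wOf hE ha)).pow_left k
      calc f ^ (k + 1) * r * (f ^ (k + 1))⁻¹ = f * (f ^ k * r * (f ^ k)⁻¹) * f⁻¹ := by rw [pow_succ']; group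
        _ = (f * a' * f⁻¹) * (f * z ^ k * f⁻¹) * (f * r * f⁻¹) := by rw [e]; group
        _ = (f * a' * f⁻¹) * (z ^ k * a) * z * r := by
          rw [(hfz.pow_right k).eq, mul_inv_cancel_right, hfr]; group
        _ = f * a' * f⁻¹ * a * z ^ (k + 1) * r := by rw [hza.eq, pow_succ]; group
  obtain ⟨a', ha', e⟩ := hit (orderOf f)
  rw [pow_orderOf_eq_one, one_mul, inv_one, mul_one, eq_comm, mul_eq_right] at e
  have hz1 : z ^ orderOf f ∈ w1Of p E := by
    rw [eq_inv_of_mul_eq_one_right e]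
    exact inv_mem ha'
  have hzp : z ^ p = 1 := wOf_pow E (mem_inf.1 hz).1
  obtain ⟨k, hk⟩ := exists_pow_eq_self_of_coprime (x := z)
    (hco.coprime_dvd_right (orderOf_dvd_of_pow_eq_one hzp))
  have hzmem : z ∈ w1Of p E := hk ▸ pow_mem hz1 k
  rw [haz]
  exact mul_mem ha hzmem

/-- elements acting trivially on the module -/
def kOne (p : ℕ) (E : Subgroup G) : Subgroup G := normalizer (E : Set G) ⊓ centralizer (w1Of p E : Set G)

theorem mem_kOne {k : G} :
    k ∈ kOne p E ↔ k ∈ normalizer (E : Set G) ∧ ∀ u ∈ w1Of p E, Commute k u :=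
  ⟨fun h => ⟨(mem_inf.1 h).1, fun u hu => (mem_centralizer_iff.1 (mem_inf.1 h).2 u hu).symm⟩,
    fun h => mem_inf.2 ⟨h.1, mem_centralizer_iff.2 fun u hu => (h.2 u hu).eq.symm⟩⟩

theorem mem_kOne_of_trivMod (hE : IsBlk p E) {k : G} (h : TrivMod p E k) : k ∈ kOne p E :=
  mem_kOne.2 ⟨h.1, (h.exact hE).1⟩

theorem trivMod_of_mem_kOne (hE : IsBlk p E) {k : G} (h : k ∈ kOne p E) : TrivMod p E k :=
  trivMod_of_commute hE (mem_kOne.1 h).1 (mem_kOne.1 h).2

theorem conj_kOne (hE : IsBlk p E) {t k : G} (ht : t ∈ normalizer (E : Set G)) (hk : k ∈ kOne p E) :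
    t * k * t⁻¹ ∈ kOne p E := by
  obtain ⟨h1, h2⟩ := mem_kOne.1 hk
  refine mem_kOne.2 ⟨mul_mem (mul_mem ht h1) (inv_mem ht), fun u hu => ?_⟩
  have hu' : t⁻¹ * u * t⁻¹⁻¹ ∈ w1Of p E := conj_w1_self hE (inv_mem ht) hu
  calc t * k * t⁻¹ * u = t * (k * (t⁻¹ * u * t⁻¹⁻¹)) * t⁻¹ := by group
    _ = t * ((t⁻¹ * u * t⁻¹⁻¹) * k) * t⁻¹ := by rw [(h2 _ hu').eq]
    _ = u * (t * k * t⁻¹) := by group

theorem conj_qOf {g : G} (hg : g ∈ normalizer (E : Set G)) {u : G} (hu : u ∈ qOf p E) :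
    g * u * g⁻¹ ∈ qOf p E := by
  have h : (qOf p E).map (MulAut.conj g).toMonoidHom = qOf p E := by
    rw [map_pCoreOf]
    congr 1
    exact mem_normalizer_iff_map_conj_eq.1 hg
  rw [← h]
  exact ⟨u, hu, rfl⟩

/-- elements of `E ⊔ K` -/
theorem exists_of_mem_sup {K : Subgroup G} (hK : K ≤ normalizer (E : Set G)) {x : G} (hx : x ∈ E ⊔ K) :
    ∃ e ∈ E, ∃ k ∈ K, x = e * k := by
  obtain ⟨e, he, k, hk, h⟩ := (Cfsg.Lib.Coprime.mem_sup_of_le_normalizer hK).1 hx
  exact ⟨e, he, k, hk, h.symm⟩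

/-- over a prime field the action is linear -/
theorem prime_matrix {K : Type} [Field K] (hK : ∀ x : K, ∃ n : ℕ, (n : K) = x) (β : (Fin 2 → K) → Fin 2 → K)
    (hadd : ∀ v w, β (v + w) = β v + β w) : ∃ M : Matrix (Fin 2) (Fin 2) K, ∀ v, β v = M *ᵥ v := by
  let f : (Fin 2 → K) →+ (Fin 2 → K) := AddMonoidHom.mk' β hadd
  have hsmul : ∀ (x : K) (v : Fin 2 → K), f (x • v) = x • f v := by
    intro x v
    obtain ⟨n, rfl⟩ := hK x
    rw [Nat.cast_smul_eq_nsmul, Nat.cast_smul_eq_nsmul, map_nsmul]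
  refine ⟨Matrix.of fun i j => f (Pi.single j 1) i, fun v => ?_⟩
  show f v = _
  have hv : v = v 0 • Pi.single 0 1 + v 1 • Pi.single 1 1 := by
    funext i; fin_cases i <;> simp
  conv_lhs => rw [hv, map_add, hsmul, hsmul]
  funext i
  simp [Matrix.mulVec, dotProduct, Fin.sum_univ_two, mul_comm]

theorem natCast_surj {K : Type} [Field K] [Fintype K] (h : (Fintype.card K).Prime) (x : K) : ∃ n : ℕ, (n : K) = x := by
  haveI := Fact.mk h
  let e : ZMod (Fintype.card K) ≃+* K := ZMod.ringEquivOfPrime K h rfl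
  refine ⟨(e.symm x).val, ?_⟩
  rw [← map_natCast e, ZMod.natCast_zmod_val, RingEquiv.apply_symm_apply]

end Cfsg.Lib.BlockPair
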