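/-
The coprime elements of the normalizer of a symmetric block act as even permutations.
-/
import Cfsg.Agent.BlockPair.Tools

set_option autoImplicit false

namespace Cfsg.Lib.BlockPair

set_option linter.style.haveILetI false
set_option linter.unusedSectionVars false

open Subgroup
open scoped commutatorElement

universe u

theorem zmod2_cases : ∀ x : ZMod 2, x = 0 ∨ x = 1 := by decide

theorem pr_val_left {n : ℕ} {i j : Fin n} (h : i ≠ j) : pr i j i = 1 := by simp [pr, Pi.single_apply, h]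

theorem pr_val_right {n : ℕ} {i j : Fin n} (h : i ≠ j) : pr i j j = 1 := by simp [pr, Pi.single_apply, h.symm]

theorem pr_val_other {n : ℕ} {i j a : Fin n} (hi : a ≠ i) (hj : a ≠ j) : pr i j a = 0 := by
  simp [pr, Pi.single_apply, hi, hj]

theorem pr_self {n : ℕ} (i : Fin n) : pr i i = 0 := funext fun _ => CharTwo.add_self_eq_zero _

theorem mem_of_pr_val {n : ℕ} {i j a : Fin n} (h : pr i j a = 1) : a = i ∨ a = j := by
  by_contra hno
  rw [not_or] at hno
  rw [pr_val_other hno.1 hno.2] at h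
  exact zero_ne_one h

theorem pr_eq_of_vals {n : ℕ} {i j a b : Fin n} (hab : a ≠ b) (ha : pr i j a = 1) (hb : pr i j b = 1) :
    pr i j = pr a b := by
  rcases mem_of_pr_val ha with rfl | rfl <;> rcases mem_of_pr_val hb with rfl | rfl
  · exact absurd rfl hab
  · rfl
  · exact pr_comm _ _
  · exact absurd rfl hab

theorem pr_sum_even {n : ℕ} (i j : Fin n) : ∑ a, pr i j a = 0 := by
  simp [pr, Finset.sum_add_distrib, CharTwo.add_self_eq_zero]

theorem even_decompose {n : ℕ} [NeZero n] (v : Fin n → ZMod 2) (hv : ∑ i, v i = 0) :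
    v = ∑ a, v a • pr 0 a := by
  funext b
  simp only [pr, Finset.sum_apply, Pi.smul_apply, Pi.add_apply, smul_eq_mul, mul_add, Finset.sum_add_distrib,
    ← Finset.sum_mul, hv, zero_mul, zero_add]
  simp [Pi.single_apply, mul_ite, Finset.sum_ite_eq]

/-- image of the even vectors under `1 + σ` -/
theorem tc_image {n : ℕ} {i j k : Fin n} (hij : i ≠ j) (hjk : j ≠ k) (hik : i ≠ k) (v : Fin n → ZMod 2) :
    (v + fun a => v ((tc i j k)⁻¹ a)) = 0 ∨ (v + fun a => v ((tc i j k)⁻¹ a)) = pr i j ∨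
      (v + fun a => v ((tc i j k)⁻¹ a)) = pr j k ∨ (v + fun a => v ((tc i j k)⁻¹ a)) = pr i k := by
  obtain ⟨v1, v2, v3, v4⟩ := tc_vals hij hjk hik
  have hi : (tc i j k)⁻¹ i = k := by rw [Equiv.Perm.inv_def, Equiv.symm_apply_eq, v3]
  have hj : (tc i j k)⁻¹ j = i := by rw [Equiv.Perm.inv_def, Equiv.symm_apply_eq, v1]
  have hk : (tc i j k)⁻¹ k = j := by rw [Equiv.Perm.inv_def, Equiv.symm_apply_eq, v2]
  have ho : ∀ a, a ≠ i → a ≠ j → a ≠ k → (tc i j k)⁻¹ a = a := fun a h1 h2 h3 => by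
    rw [Equiv.Perm.inv_def, Equiv.symm_apply_eq, v4 a h1 h2 h3]
  set w := v + fun a => v ((tc i j k)⁻¹ a) with hw
  have wi : w i = v i + v k := by rw [hw, Pi.add_apply, hi]
  have wj : w j = v j + v i := by rw [hw, Pi.add_apply, hj]
  have wk : w k = v k + v j := by rw [hw, Pi.add_apply, hk]
  have wo : ∀ a, a ≠ i → a ≠ j → a ≠ k → w a = 0 := fun a h1 h2 h3 => by
    rw [hw, Pi.add_apply, ho a h1 h2 h3, CharTwo.add_self_eq_zero]
  have ext' : ∀ u : Fin n → ZMod 2, w i = u i → w j = u j → w k = u k →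
      (∀ a, a ≠ i → a ≠ j → a ≠ k → u a = 0) → w = u := by
    intro u h1 h2 h3 h4
    funext a
    by_cases a1 : a = i
    · rw [a1, h1]
    by_cases a2 : a = j
    · rw [a2, h2]
    by_cases a3 : a = k
    · rw [a3, h3]
    rw [wo a a1 a2 a3, h4 a a1 a2 a3]
  rcases zmod2_cases (v i) with a | a <;> rcases zmod2_cases (v j) with b | b <;>
    rcases zmod2_cases (v k) with c | c <;> rw [a, c] at wi <;> rw [b, a] at wj <;> rw [c, b] at wk <;>
    simp only [show (1 : ZMod 2) + 1 = 0 from rfl, add_zero, zero_add] at wi wj wk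
  all_goals first
    | (refine Or.inl (ext' 0 ?_ ?_ ?_ fun _ _ _ _ => rfl) <;> simp [wi, wj, wk]; done)
    | (refine Or.inr (Or.inl (ext' _ ?_ ?_ ?_ fun _ h1 h2 _ => pr_val_other h1 h2)) <;>
        simp [wi, wj, wk, pr_val_left hij, pr_val_right hij, pr_val_other hik.symm hjk.symm]; done)
    | (refine Or.inr (Or.inr (Or.inl (ext' _ ?_ ?_ ?_ fun _ _ h2 h3 => pr_val_other h2 h3))) <;>
        simp [wi, wj, wk, pr_val_left hjk, pr_val_right hjk, pr_val_other hij hik]; done)
    | (refine Or.inr (Or.inr (Or.inr (ext' _ ?_ ?_ ?_ fun _ h1 _ h3 => pr_val_other h1 h3))) <;>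
        simp [wi, wj, wk, pr_val_left hik, pr_val_right hik, pr_val_other hij.symm hjk]; done)

/-- a permutation of order three with small image is a three-cycle -/
theorem eq_tc {n : ℕ} {σ : Equiv.Perm (Fin n)} (h3 : σ ^ 3 = 1) (h1 : σ ≠ 1) (S : Finset (Fin n → ZMod 2))
    (hS : S.card ≤ 4) (him : ∀ v : Fin n → ZMod 2, ∑ i, v i = 0 → (v + fun a => v (σ⁻¹ a)) ∈ S) :
    ∃ a b c, a ≠ b ∧ b ≠ c ∧ a ≠ c ∧ σ = tc a b c := by
  classical
  have hcyc : ∀ x, σ (σ (σ x)) = x := fun x => by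
    have := Equiv.congr_fun h3 x
    simpa [pow_succ, pow_two, Equiv.Perm.mul_apply] using this
  have hne : ∀ x, σ x ≠ x → σ x ≠ σ (σ x) ∧ x ≠ σ (σ x) := fun x hx =>
    ⟨fun e => hx (σ.injective e.symm), fun e => hx (by
      have := congrArg σ e
      rwa [hcyc] at this)⟩
  have hT : ∀ x y, (pr x y + fun a => pr x y (σ⁻¹ a)) = pr x y + pr (σ x) (σ y) := fun x y => by rw [pr_perm]
  obtain ⟨a, ha⟩ : ∃ a, σ a ≠ a := by
    by_contra hno
    push Not at hno
    exact h1 (Equiv.ext hno)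
  obtain ⟨hbc, hac⟩ := hne a ha
  refine ⟨a, σ a, σ (σ a), ha.symm, hbc, hac, Equiv.ext fun o => ?_⟩
  obtain ⟨v1, v2, v3, v4⟩ := tc_vals ha.symm hbc hac
  by_cases o1 : o = a
  · rw [o1, v1]
  by_cases o2 : o = σ a
  · rw [o2, v2]
  by_cases o3 : o = σ (σ a)
  · rw [o3, v3, hcyc]
  rw [v4 o o1 o2 o3]
  by_contra ho
  obtain ⟨hop, hoq⟩ := hne o ho
  have hout : ∀ y, (y = a ∨ y = σ a ∨ y = σ (σ a)) → σ y = a ∨ σ y = σ a ∨ σ y = σ (σ a) := by
    rintro y (rfl | rfl | rfl)
    · exact Or.inr (Or.inl rfl)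
    · exact Or.inr (Or.inr rfl)
    · exact Or.inl (hcyc a)
  have hp : ∀ y, y = a ∨ y = σ a ∨ y = σ (σ a) → σ o ≠ y := by
    intro y hy e
    have h := hout (σ y) (hout y hy)
    rw [← e, hcyc] at h
    rcases h with h | h | h
    · exact o1 h
    · exact o2 h
    · exact o3 h
  have hq : ∀ y, y = a ∨ y = σ a ∨ y = σ (σ a) → σ (σ o) ≠ y := by
    intro y hy e
    have h := hout y hy
    rw [← e, hcyc] at h
    rcases h with h | h | h
    · exact o1 h
    · exact o2 h
    · exact o3 h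
  set b := σ a
  set c := σ b
  set p := σ o
  set q := σ p
  have m1 : pr a c ∈ S := by
    have := him _ (pr_sum_even a b)
    rwa [hT, pr_add] at this
  have m2 : pr b a ∈ S := by
    have := him _ (pr_sum_even b c)
    rwa [hT, show σ c = a from hcyc a, show σ b = c from rfl, pr_add] at this
  have m3 : pr o q ∈ S := by
    have := him _ (pr_sum_even o p)
    rwa [hT, pr_add] at this
  have m4 : pr p o ∈ S := by
    have := him _ (pr_sum_even p q)
    rwa [hT, show σ q = o from hcyc o, show σ p = q from rfl, pr_add] at this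
  have m0 : (0 : Fin n → ZMod 2) ∈ S := by
    have := him 0 (by simp)
    rwa [show ((0 : Fin n → ZMod 2) + fun a => (0 : Fin n → ZMod 2) (σ⁻¹ a)) = 0 from
      funext fun _ => (add_zero (0 : ZMod 2) :)] at this
  have ev : ∀ {u w : Fin n → ZMod 2} (y : Fin n), u y = 1 → w y = 0 → u ≠ w := fun y h h' e => by
    rw [e, h'] at h; exact zero_ne_one h
  have hab : a ≠ b := ha.symm
  have hp' := fun y hy => (hp y hy).symm
  have hq' := fun y hy => (hq y hy).symm
  have n1 : pr a c ≠ 0 := ev a (pr_val_left hac) rfl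
  have n2 : pr b a ≠ 0 := ev a (pr_val_right hab.symm) rfl
  have n3 : pr o q ≠ 0 := ev o (pr_val_left hoq) rfl
  have n4 : pr p o ≠ 0 := ev o (pr_val_right ho) rfl
  have n12 : pr a c ≠ pr b a := ev c (pr_val_right hac) (pr_val_other hbc.symm hac.symm)
  have n13 : pr a c ≠ pr o q := ev a (pr_val_left hac) (pr_val_other (Ne.symm o1) (hq' a (Or.inl rfl)))
  have n14 : pr a c ≠ pr p o := ev a (pr_val_left hac) (pr_val_other (hp' a (Or.inl rfl)) (Ne.symm o1))
  have n23 : pr b a ≠ pr o q := ev a (pr_val_right hab.symm) (pr_val_other (Ne.symm o1) (hq' a (Or.inl rfl)))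
  have n24 : pr b a ≠ pr p o := ev a (pr_val_right hab.symm) (pr_val_other (hp' a (Or.inl rfl)) (Ne.symm o1))
  have n34 : pr o q ≠ pr p o := ev q (pr_val_right hoq) (pr_val_other hop.symm hoq.symm)
  have h5 : ({0, pr a c, pr b a, pr o q, pr p o} : Finset (Fin n → ZMod 2)).card = 5 := by
    rw [Finset.card_insert_of_notMem, Finset.card_insert_of_notMem, Finset.card_insert_of_notMem,
      Finset.card_insert_of_notMem, Finset.card_singleton] <;>
      simp only [Finset.mem_insert, Finset.mem_singleton, not_or]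
    · exact n34
    · exact ⟨n23, n24⟩
    · exact ⟨n12, n13, n14⟩
    · exact ⟨n1.symm, n2.symm, n3.symm, n4.symm⟩
  have hsub : ({0, pr a c, pr b a, pr o q, pr p o} : Finset (Fin n → ZMod 2)) ⊆ S := by
    intro x hx
    simp only [Finset.mem_insert, Finset.mem_singleton] at hx
    rcases hx with rfl | rfl | rfl | rfl | rfl <;> assumption
  have := Finset.card_le_card hsub
  omega

theorem edge_share {n : ℕ} {a b c d e g : Fin n} (hab : a ≠ b) (hcd : c ≠ d) (h : pr a b + pr c d = pr e g) :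
    a = c ∨ a = d ∨ b = c ∨ b = d := by
  by_contra hno
  simp only [not_or] at hno
  obtain ⟨hac, had, hbc, hbd⟩ := hno
  have va : pr e g a = 1 := by rw [← h, Pi.add_apply, pr_val_left hab, pr_val_other hac had, add_zero]
  have vb : pr e g b = 1 := by rw [← h, Pi.add_apply, pr_val_right hab, pr_val_other hbc hbd, add_zero]
  have vc : pr e g c = 1 := by
    rw [← h, Pi.add_apply, pr_val_left hcd, pr_val_other (Ne.symm hac) (Ne.symm hbc), zero_add]
  rw [pr_eq_of_vals hab va vb] at vc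
  exact hno' hac hbc (mem_of_pr_val vc)
where
  hno' {n : ℕ} {a b c : Fin n} (h1 : a ≠ c) (h2 : b ≠ c) (h : c = a ∨ c = b) : False :=
    h.elim (fun e => h1 e.symm) (fun e => h2 e.symm)

/-- a map of edges respecting triangles is induced by a permutation -/
theorem perm_of_edges {n : ℕ} (hn : 3 ≤ n) (φ : Fin n → Fin n → Fin n → ZMod 2)
    (hedge : ∀ i j, i ≠ j → ∃ a b, a ≠ b ∧ φ i j = pr a b)
    (hsymm : ∀ i j, φ i j = φ j i)
    (hadd : ∀ i j k, i ≠ j → j ≠ k → i ≠ k → φ i j + φ j k = φ i k)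
    (hinj : ∀ i j k l, i ≠ j → k ≠ l → φ i j = φ k l → i = k ∨ i = l) :
    ∃ π : Equiv.Perm (Fin n), ∀ i j, i ≠ j → φ i j = pr (π i) (π j) := by
  classical
  have third : ∀ i j : Fin n, ∃ k, k ≠ i ∧ k ≠ j := by
    intro i j
    obtain ⟨k, -, hk⟩ := Finset.exists_mem_notMem_of_card_lt_card (s := ({i, j} : Finset (Fin n)))
      (t := Finset.univ) (lt_of_le_of_lt Finset.card_le_two (by simp; omega))
    simp only [Finset.mem_insert, Finset.mem_singleton, not_or] at hk
    exact ⟨k, hk.1, hk.2⟩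
  have star : ∀ i, ∃ v, ∀ j, j ≠ i → φ i j v = 1 := by
    intro i
    obtain ⟨j0, hj0, -⟩ := third i i
    obtain ⟨k0, hk0, hk0j⟩ := third i j0
    obtain ⟨a, b, hab, hab'⟩ := hedge i j0 (Ne.symm hj0)
    obtain ⟨c, d, hcd, hcd'⟩ := hedge i k0 (Ne.symm hk0)
    obtain ⟨e, g, heg, heg'⟩ := hedge j0 k0 (Ne.symm hk0j)
    have hsum : pr a b + pr c d = pr e g := by
      rw [← hab', ← hcd', ← heg', hsymm i j0]
      exact hadd j0 i k0 hj0 (Ne.symm hk0) (Ne.symm hk0j)
    obtain ⟨v, x, y, hvx, hvy, h1, h2, hxy⟩ : ∃ v x y, v ≠ x ∧ v ≠ y ∧ φ i j0 = pr v x ∧ φ i k0 = pr v y ∧ x ≠ y := by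
      have hne : φ i j0 ≠ φ i k0 := by
        intro h
        have h1 : pr e g = 0 := by rw [← hsum, ← hab', ← hcd', h]; exact funext fun _ => CharTwo.add_self_eq_zero _
        have h2 := congrFun h1 e
        rw [pr_val_left heg] at h2
        exact one_ne_zero h2
      have fin : ∀ v x y, v ≠ x → v ≠ y → φ i j0 = pr v x → φ i k0 = pr v y →
          ∃ v x y, v ≠ x ∧ v ≠ y ∧ φ i j0 = pr v x ∧ φ i k0 = pr v y ∧ x ≠ y :=
        fun v x y q1 q2 q3 q4 => ⟨v, x, y, q1, q2, q3, q4, fun e => hne (by rw [q3, q4, e])⟩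
      rcases edge_share hab hcd hsum with rfl | rfl | rfl | rfl
      · exact fin a b d hab hcd hab' hcd'
      · exact fin a b c hab hcd.symm hab' (hcd'.trans (pr_comm _ _))
      · exact fin b a d hab.symm hcd (hab'.trans (pr_comm _ _)) hcd'
      · exact fin b a c hab.symm hcd.symm (hab'.trans (pr_comm _ _)) (hcd'.trans (pr_comm _ _))
    refine ⟨v, fun j hj => ?_⟩
    by_cases hj1 : j = j0
    · rw [hj1, h1]; exact pr_val_left hvx
    by_cases hj2 : j = k0
    · rw [hj2, h2]; exact pr_val_left hvy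
    obtain ⟨s, t, hst, hst'⟩ := hedge i j (Ne.symm hj)
    by_contra hv
    rw [hst'] at hv
    have hvs : v ≠ s := fun e => hv (by rw [e]; exact pr_val_left hst)
    have hvt : v ≠ t := fun e => hv (by rw [e]; exact pr_val_right hst)
    have share : ∀ k x, k ≠ i → k ≠ j → v ≠ x → φ i k = pr v x → pr s t x = 1 := by
      intro k x hki hkj hvx h
      obtain ⟨e', g', -, he'⟩ := hedge k j hkj
      have hs : pr v x + pr s t = pr e' g' := by
        rw [← h, ← hst', ← he', hsymm i k]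
        exact hadd k i j hki (Ne.symm hj) hkj
      rcases edge_share hvx hst hs with h' | h' | h' | h'
      · exact absurd h' hvs
      · exact absurd h' hvt
      · rw [h']; exact pr_val_left hst
      · rw [h']; exact pr_val_right hst
    have e1 := share j0 x hj0 (Ne.symm hj1) hvx h1
    have e2 := share k0 y hk0 (Ne.symm hj2) hvy h2
    have h3 : φ i j = φ j0 k0 := by
      rw [← hadd j0 i k0 hj0 (Ne.symm hk0) (Ne.symm hk0j), hsymm j0 i, h1, h2, hst', pr_eq_of_vals hxy e1 e2,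
        pr_comm v x, pr_add]
    rcases hinj i j j0 k0 (Ne.symm hj) (Ne.symm hk0j) h3 with e' | e'
    · exact hj0 e'.symm
    · exact hk0 e'.symm
  choose v hv using star
  have hvinj : Function.Injective v := by
    intro i i' h
    by_contra hne
    obtain ⟨j, hji, hji'⟩ := third i i'
    have h0 := congrFun (hadd i j i' (Ne.symm hji) hji' hne) (v i)
    rw [Pi.add_apply, hv i j hji, hsymm j i', h, hv i' j hji', ← h, hv i i' (Ne.symm hne)] at h0
    exact absurd h0 (by decide)
  refine ⟨Equiv.ofBijective v ⟨hvinj, Finite.surjective_of_injective hvinj⟩, fun i j hij => ?_⟩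
  obtain ⟨a, b, -, hab'⟩ := hedge i j hij
  rw [hab']
  refine pr_eq_of_vals (hvinj.ne hij) ?_ ?_
  · rw [← hab']; exact hv i j hij.symm
  · rw [← hab', hsymm]; exact hv j i hij

variable {G : Type u} [Group G] [Finite G] {E : Subgroup G} [Fact (Nat.Prime 2)] {m : ℕ}

theorem AltMod.crd_eq_iff (D : AltMod E m) (a b : ↥(wOf 2 E)) :
    D.crd a = D.crd b ↔ (a : G)⁻¹ * b ∈ zOf 2 E := by
  rw [← Subgroup.coe_inv, ← Subgroup.coe_mul, ← D.kerψ, map_mul, map_inv, inv_mul_eq_one]
  exact Multiplicative.toAdd.injective.eq_iff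

/-- the coprime elements act as even permutations -/
theorem AltMod.coprime_inner (D : AltMod E m) (hE : IsBlk 2 E) {f : G} (hf : f ∈ normalizer (E : Set G))
    (hco : (orderOf f).Coprime 2) : ∃ e ∈ E, TrivMod 2 E (e⁻¹ * f) := by
  classical
  have hwell : ∀ a b : ↥(wOf 2 E), D.crd a = D.crd b → D.crd (conjW hf a) = D.crd (conjW hf b) := by
    intro a b h
    have := conj_zOf hf ((D.crd_eq_iff a b).1 h)
    rw [D.crd_eq_iff]
    show (f * (a : G) * f⁻¹)⁻¹ * (f * (b : G) * f⁻¹) ∈ zOf 2 E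
    rw [show (f * (a : G) * f⁻¹)⁻¹ * (f * (b : G) * f⁻¹) = f * ((a : G)⁻¹ * b) * f⁻¹ by group]
    exact this
  have hconjmul : ∀ a b : ↥(wOf 2 E), conjW hf (a * b) = conjW hf a * conjW hf b := fun a b => Subtype.ext (by
    show f * ((a : G) * b) * f⁻¹ = (f * a * f⁻¹) * (f * b * f⁻¹)
    group)
  have hzero : ∀ a : ↥(wOf 2 E), D.crd (conjW hf a) = 0 → D.crd a = 0 := by
    intro a h
    have h1 : f * (a : G) * f⁻¹ ∈ zOf 2 E := (D.kerψ (conjW hf a)).1 (Multiplicative.toAdd.injective h)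
    have h2 := conj_zOf (inv_mem hf) h1
    rw [show f⁻¹ * (f * (a : G) * f⁻¹) * f⁻¹⁻¹ = a by group] at h2
    show Multiplicative.toAdd (D.ψ a) = 0
    rw [(D.kerψ a).2 h2]; rfl
  choose r hr using fun i j : Fin (2 * m + 1) => D.surj (pr i j) (pr_sum_even i j)
  have hr' : ∀ i j, D.crd (r i j) = pr i j := hr
  let φ : Fin (2 * m + 1) → Fin (2 * m + 1) → Fin (2 * m + 1) → ZMod 2 := fun i j => D.crd (conjW hf (r i j))
  have hm := D.pos
  have hedge : ∀ i j, i ≠ j → ∃ a b, a ≠ b ∧ φ i j = pr a b := by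
    intro i j hij
    obtain ⟨k, -, hk⟩ := Finset.exists_mem_notMem_of_card_lt_card (s := ({i, j} : Finset (Fin (2 * m + 1))))
      (t := Finset.univ) (lt_of_le_of_lt Finset.card_le_two (by simp; omega))
    simp only [Finset.mem_insert, Finset.mem_singleton, not_or] at hk
    obtain ⟨⟨x, hx⟩, hρ⟩ : ∃ x, D.ρ x = tc i j k := by
      have := tc_mem (k := k) hij (Ne.symm hk.2)
      rw [← D.range] at this
      exact this
    have hx' : f * x * f⁻¹ ∈ E := (mem_normalizer_iff.1 hf x).1 hx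
    set σ := D.ρ ⟨f * x * f⁻¹, hx'⟩ with hσ
    have hq : ∀ y ∈ qOf 2 E, f⁻¹ * y * f ∈ qOf 2 E := fun y hy => by
      have := conj_qOf (inv_mem hf) hy
      rwa [inv_inv] at this
    have hσ3 : σ ^ 3 = 1 := by
      rw [hσ, ← map_pow]
      refine (D.kerρ _).2 ?_
      show (f * x * f⁻¹) ^ 3 ∈ qOf 2 E
      rw [conj_pow]
      exact conj_qOf hf (D.tc_sq_mem hij (Ne.symm hk.2) (Ne.symm hk.1) hx hρ)
    have hσ1 : σ ≠ 1 := by
      intro h
      have h1 := hq _ ((D.kerρ _).1 h)
      rw [show f⁻¹ * (f * x * f⁻¹) * f = x by group] at h1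
      have h2 := (D.kerρ ⟨x, hx⟩).2 h1
      rw [hρ] at h2
      have h3 := Equiv.congr_fun h2 i
      rw [(tc_vals hij (Ne.symm hk.2) (Ne.symm hk.1)).1, Equiv.Perm.one_apply] at h3
      exact hij h3.symm
    let S : Finset (Fin (2 * m + 1) → ZMod 2) := {0, φ i j, φ j k, φ i k}
    have hS : ∀ u : ↥(wOf 2 E), (D.crd u + fun a => D.crd u (σ⁻¹ a)) ∈ S := by
      intro u
      have hf' := inv_mem hf
      obtain ⟨d, hd1, hd2⟩ := D.crd_comm hE (conjW hf' u) ⟨x, hx⟩
      obtain ⟨d', hd'1, hd'2⟩ := D.crd_comm hE u ⟨f * x * f⁻¹, hx'⟩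
      rw [← hd'2]
      have e : d' = conjW hf d := Subtype.ext (by
        show (d' : G) = f * (d : G) * f⁻¹
        rw [hd1, hd'1]
        show ⁅(u : G), f * x * f⁻¹⁆ = f * ⁅f⁻¹ * (u : G) * f⁻¹⁻¹, x⁆ * f⁻¹
        simp only [commutatorElement_def]; group)
      rw [e]
      rw [hρ] at hd2
      rcases tc_image hij (Ne.symm hk.2) (Ne.symm hk.1) (D.crd (conjW hf' u)) with h | h | h | h <;>
        rw [h] at hd2 <;> simp only [S, Finset.mem_insert, Finset.mem_singleton]
      · left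
        rw [hwell d 1 (by rw [hd2]; simp [AltMod.crd]),
          show conjW hf (1 : ↥(wOf 2 E)) = 1 from Subtype.ext (by simp [conjW])]
        simp [AltMod.crd]
      · exact Or.inr (Or.inl (hwell _ _ (hd2.trans (hr' i j).symm)))
      · exact Or.inr (Or.inr (Or.inl (hwell _ _ (hd2.trans (hr' j k).symm))))
      · exact Or.inr (Or.inr (Or.inr (hwell _ _ (hd2.trans (hr' i k).symm))))
    obtain ⟨a, b, c, hab, hbc, hac, habc⟩ := eq_tc hσ3 hσ1 S Finset.card_le_four fun v hv => by
      obtain ⟨u, hu⟩ := D.surj v hv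
      have := hS u
      rwa [show D.crd u = v from hu] at this
    obtain ⟨w, hw⟩ := D.surj (pr j k) (pr_sum_even j k)
    obtain ⟨d, hd1, hd2⟩ := D.crd_comm hE w ⟨x, hx⟩
    have hd : D.crd d = pr i j := by
      rw [hd2, show D.crd w = pr j k from hw, hρ, pr_perm]
      obtain ⟨v1, v2, v3, -⟩ := tc_vals hij (Ne.symm hk.2) (Ne.symm hk.1)
      rw [v2, v3, pr_add, pr_comm]
    obtain ⟨d', hd'1, hd'2⟩ := D.crd_comm hE (conjW hf w) ⟨f * x * f⁻¹, hx'⟩
    have e : d' = conjW hf d := Subtype.ext (by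
      show (d' : G) = f * (d : G) * f⁻¹
      rw [hd1, hd'1]
      show ⁅f * (w : G) * f⁻¹, f * x * f⁻¹⁆ = f * ⁅(w : G), x⁆ * f⁻¹
      simp only [commutatorElement_def]; group)
    have hne : φ i j ≠ 0 := fun h => by
      have h1 := hzero _ h
      rw [hr' i j] at h1
      have h2 := congrFun h1 i
      rw [pr_val_left hij] at h2
      exact one_ne_zero h2
    have hφ : φ i j = D.crd (conjW hf w) + fun a' => D.crd (conjW hf w) ((tc a b c)⁻¹ a') := by
      show D.crd (conjW hf (r i j)) = _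
      rw [hwell _ _ ((hr' i j).trans hd.symm), ← e, hd'2, ← habc]
    rcases tc_image hab hbc hac (D.crd (conjW hf w)) with h | h | h | h
    · exact absurd (hφ.trans h) hne
    · exact ⟨a, b, hab, hφ.trans h⟩
    · exact ⟨b, c, hbc, hφ.trans h⟩
    · exact ⟨a, c, hac, hφ.trans h⟩
  obtain ⟨π, hπ⟩ := perm_of_edges (by omega) φ hedge
    (fun i j => hwell _ _ (by rw [hr', hr', pr_comm]))
    (fun i j k _ _ _ => by
      show D.crd _ + D.crd _ = D.crd _
      rw [← D.crd_mul, ← hconjmul]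
      exact hwell _ _ (by rw [D.crd_mul, hr', hr', hr', pr_add]))
    (fun i j k l hij hkl h => by
      have h1 : D.crd (conjW hf (r i j * r k l)) = 0 := by
        rw [hconjmul, D.crd_mul]
        show φ i j + φ k l = 0
        rw [h, CharTwo.add_self_eq_zero]
      have h2 := hzero _ h1
      rw [D.crd_mul, hr', hr', CharTwo.add_eq_zero] at h2
      exact mem_of_pr_val (h2 ▸ pr_val_left hij))
  have hall : ∀ u : ↥(wOf 2 E), D.crd (conjW hf u) = fun a => D.crd u (π⁻¹ a) := by
    let H : Subgroup ↥(wOf 2 E) :=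
      { carrier := {u | D.crd (conjW hf u) = fun a => D.crd u (π⁻¹ a)}
        one_mem' := by
          show D.crd (conjW hf 1) = _
          rw [show conjW hf (1 : ↥(wOf 2 E)) = 1 from Subtype.ext (by simp [conjW])]
          simp [AltMod.crd]; rfl
        mul_mem' := fun {a b} ha hb => by
          show D.crd (conjW hf (a * b)) = _
          rw [hconjmul, D.crd_mul, ha, hb, D.crd_mul]
          rfl
        inv_mem' := fun {a} ha => by
          show D.crd (conjW hf a⁻¹) = _
          rw [show conjW hf a⁻¹ = (conjW hf a)⁻¹ from Subtype.ext (by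
            show f * (a : G)⁻¹ * f⁻¹ = (f * a * f⁻¹)⁻¹
            group)]
          have h' : ∀ b : ↥(wOf 2 E), D.crd b⁻¹ = D.crd b := fun b => by
            funext q
            simp [AltMod.crd, CharTwo.neg_eq]
          rw [h', ha, h'] }
    intro u
    letI : CommGroup ↥(wOf 2 E) :=
      { (inferInstance : Group ↥(wOf 2 E)) with mul_comm := fun a b => Subtype.ext (wOf_comm E a.2 b.2).eq }
    have hgen : ∀ a, r 0 a ∈ H := by
      intro a
      show D.crd (conjW hf (r 0 a)) = _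
      rw [hr']
      by_cases h : (0 : Fin (2 * m + 1)) = a
      · rw [← h, hwell (r 0 0) 1 (by rw [hr', pr_self]; simp [AltMod.crd]),
          show conjW hf (1 : ↥(wOf 2 E)) = 1 from Subtype.ext (by simp [conjW]), pr_self]
        simp [AltMod.crd]; rfl
      · rw [pr_perm]; exact hπ 0 a h
    have hmem : (∏ a, r 0 a ^ (D.crd u a).val) ∈ H := Subgroup.prod_mem _ fun a _ => Subgroup.pow_mem _ (hgen a) _
    have hc : D.crd (∏ a, r 0 a ^ (D.crd u a).val) = D.crd u := by
      conv_rhs => rw [even_decompose (D.crd u) (D.even u)]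
      show Multiplicative.toAdd (D.ψ (∏ a, r 0 a ^ (D.crd u a).val)) = _
      rw [map_prod, toAdd_prod]
      refine Finset.sum_congr rfl fun a _ => ?_
      rw [map_pow, toAdd_pow]
      show (D.crd u a).val • D.crd (r 0 a) = _
      rw [hr']
      funext q
      rw [Pi.smul_apply, Pi.smul_apply, nsmul_eq_mul, ZMod.natCast_zmod_val, smul_eq_mul]
    have h1 := hwell _ _ hc
    rw [show D.crd (conjW hf (∏ a, r 0 a ^ (D.crd u a).val)) = _ from hmem, hc] at h1
    exact h1.symm
  -- the permutation is even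
  have hsign : π ∈ alternatingGroup (Fin (2 * m + 1)) := by
    have hit : ∀ (k : ℕ) (hk : f ^ k ∈ normalizer (E : Set G)) (u : ↥(wOf 2 E)),
        D.crd (conjW hk u) = fun a => D.crd u ((π ^ k)⁻¹ a) := by
      intro k
      induction k with
      | zero =>
        intro hk u
        rw [show conjW hk u = u from Subtype.ext (by simp [conjW])]
        simp
      | succ k ih =>
        intro hk u
        rw [show conjW hk u = conjW hf (conjW (pow_mem hf k) u) from Subtype.ext (by
          show f ^ (k + 1) * (u : G) * (f ^ (k + 1))⁻¹ = f * (f ^ k * u * (f ^ k)⁻¹) * f⁻¹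
          rw [pow_succ']; group), hall, ih]
        funext a
        rw [pow_succ', _root_.mul_inv_rev, Equiv.Perm.mul_apply]
    have hN : π ^ orderOf f = 1 := by
      refine Equiv.ext fun i => ?_
      set τ := π ^ orderOf f
      have hfix : ∀ j, j ≠ i → pr (τ i) (τ j) = pr i j := by
        intro j hj
        have h1 := hit (orderOf f) (pow_mem hf _) (r i j)
        rw [show conjW (pow_mem hf (orderOf f)) (r i j) = r i j from Subtype.ext (by
          simp [conjW, pow_orderOf_eq_one]), hr'] at h1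
        rw [← pr_perm]
        exact h1.symm
      obtain ⟨j, -, hj⟩ := Finset.exists_mem_notMem_of_card_lt_card (s := ({i} : Finset (Fin (2 * m + 1))))
        (t := Finset.univ) (by simp; omega)
      obtain ⟨l, -, hl⟩ := Finset.exists_mem_notMem_of_card_lt_card (s := ({i, j} : Finset (Fin (2 * m + 1))))
        (t := Finset.univ) (lt_of_le_of_lt Finset.card_le_two (by simp; omega))
      simp only [Finset.mem_insert, Finset.mem_singleton, not_or] at hj hl
      have e1 : pr i j (τ i) = 1 := (hfix j hj) ▸ pr_val_left (τ.injective.ne (Ne.symm hj))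
      have e2 : pr i l (τ i) = 1 := (hfix l hl.1) ▸ pr_val_left (τ.injective.ne (Ne.symm hl.1))
      rcases mem_of_pr_val e1 with h | h
      · simpa using h
      rcases mem_of_pr_val e2 with h' | h'
      · simpa using h'
      exact absurd (h.symm.trans h') (Ne.symm hl.2)
    rw [Equiv.Perm.mem_alternatingGroup]
    have h := congrArg Equiv.Perm.sign hN
    rw [map_pow, map_one, Int.units_pow_eq_pow_mod_two, Nat.odd_iff.1 (Nat.coprime_two_right.1 hco), pow_one] at h
    exact h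
  obtain ⟨e, he⟩ : ∃ e, D.ρ e = π := by
    rw [← D.range] at hsign
    exact hsign
  refine ⟨e, e.2, mul_mem (inv_mem (le_normalizer e.2)) hf, fun u hu => ?_⟩
  obtain ⟨w, hw1, hw2⟩ := D.act e⁻¹ (conjW hf ⟨u, hu⟩)
  have h1 : D.crd w = D.crd ⟨u, hu⟩ := by
    funext a
    show Multiplicative.toAdd (D.ψ w) a = _
    rw [hw2]
    show D.crd (conjW hf ⟨u, hu⟩) _ = _
    rw [hall, map_inv, inv_inv, he]
    simp
  have h2 := (mem_normalizer_iff.1 (w1_normalizer_zOf hE le_rfl hu) _).1 ((D.crd_eq_iff _ _).1 h1)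
  have e' : u * ((w : G)⁻¹ * u) * u⁻¹ = ⁅u, (e : G)⁻¹ * f⁆ := by
    rw [hw1]
    show u * ((((e⁻¹ : ↥E) : G) * (f * u * f⁻¹) * ((e⁻¹ : ↥E) : G)⁻¹)⁻¹ * u) * u⁻¹ = _
    rw [Subgroup.coe_inv, commutatorElement_def]; group
  exact e' ▸ h2

end Cfsg.Lib.BlockPair
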