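/-
A block normalizing a subnormal block acts on its module as a part of it.
-/
import Cfsg.Agent.BlockPair.Perm

set_option autoImplicit false

namespace Cfsg.Lib.BlockPair

set_option linter.style.haveILetI false
set_option linter.unusedSectionVars false

open Subgroup Matrix
open scoped commutatorElement MatrixGroups

universe u

variable {G : Type u} [Group G] [Finite G] {p : ℕ} [hp : Fact p.Prime] {E F : Subgroup G}

/-- membership in a normal subgroup of index a power of `p` -/
theorem coprime_mem_normal {H : Type*} [Group H] [Finite H] {N : Subgroup H} [N.Normal] {k : ℕ}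
    (hk : N.index = p ^ k) {g : H} {n : ℕ} (hn : n.Coprime p) (hg : g ^ n = 1) : g ∈ N := by
  rw [← QuotientGroup.eq_one_iff, ← orderOf_eq_one_iff]
  refine Nat.eq_one_of_dvd_coprimes (hn.pow_right k) (orderOf_dvd_of_pow_eq_one ?_) ?_
  · rw [← QuotientGroup.mk_pow, hg, QuotientGroup.mk_one]
  · rw [← hk, Subgroup.index_eq_card]
    exact orderOf_dvd_natCard _

theorem index_commutator_small {K : Type} [Field K] [Fintype K] (h : Fintype.card K = 2 ∨ Fintype.card K = 3) :
    (commutator SL(2, K)).index = Fintype.card K := by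
  have h6 : Nat.card SL(2, K) = Fintype.card K * (Fintype.card K ^ 2 - 1) := by
    rw [Cfsg.Lib.Classical.SLTwoTori.card_SL2]
  have hcomp := (commutator SL(2, K)).card_mul_index
  rcases h with h | h
  · rw [h] at h6 ⊢
    norm_num at h6
    haveI := Fact.mk Nat.prime_three
    obtain ⟨x, hx⟩ := exists_prime_orderOf_dvd_card' (G := SL(2, K)) 3 (by rw [h6]; norm_num)
    have hi : (zpowers x).index = 2 := by
      have := (zpowers x).card_mul_index
      rw [Nat.card_zpowers, hx, h6] at this
      omega
    haveI := Subgroup.normal_of_index_eq_two hi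
    have hle : commutator SL(2, K) ≤ zpowers x := by
      rw [_root_.commutator_def, commutator_le]
      intro a _ b _
      rw [← QuotientGroup.eq_one_iff, ← QuotientGroup.mk'_apply, map_commutatorElement,
        commutatorElement_eq_one_iff_mul_comm]
      haveI : IsCyclic (SL(2, K) ⧸ zpowers x) :=
        isCyclic_of_prime_card (p := 2) (by rw [← Subgroup.index_eq_card, hi])
      letI := IsCyclic.commGroup (α := SL(2, K) ⧸ zpowers x)
      exact mul_comm _ _
    have hne : commutator SL(2, K) ≠ ⊥ := by
      intro hbot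
      have hc : ⁅(Line.uni (1 : K)), (Line.wel : SL(2, K))⁆ ∈ commutator SL(2, K) :=
        commutator_mem_commutator (mem_top _) (mem_top _)
      rw [hbot, Subgroup.mem_bot, commutatorElement_eq_one_iff_mul_comm] at hc
      have h1 := congrArg (fun g : SL(2, K) => ((g : Matrix (Fin 2) (Fin 2) K) *ᵥ Line.ax 1) 0) hc
      simp only [← sl_mulVec, Line.wel_mulVec] at h1
      rw [show Line.ax (1 : K) = ![1, 0] from rfl, Line.uni_mulVec, Line.uni_mulVec] at h1
      simp at h1
      have h2 := congrFun (Line.wel_mulVec (1 : K)) 0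
      simp [Line.ax] at h1 h2
      rw [h2] at h1
      exact one_ne_zero h1
    have hd := card_dvd_of_le hle
    rw [Nat.card_zpowers, hx, Nat.dvd_prime Nat.prime_three] at hd
    rcases hd with hd | hd
    · exact absurd (card_eq_one.1 hd) hne
    · rw [hd, h6] at hcomp; omega
  · rw [h] at h6 ⊢
    norm_num at h6
    let e : K ≃+* ZMod 3 := FiniteField.ringEquivOfCardEq (by rw [h, ZMod.card])
    let E3 : SL(2, ZMod 3) ≃* SL(2, K) :=
      MonoidHom.toMulEquiv (Matrix.SpecialLinearGroup.map e.symm.toRingHom)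
        (Matrix.SpecialLinearGroup.map e.toRingHom) (by ext x i j; simp) (by ext x i j; simp)
    have he : (commutator SL(2, ZMod 3)).map E3.toMonoidHom = commutator SL(2, K) := by
      rw [_root_.commutator_def, _root_.commutator_def, map_commutator,
        map_top_of_surjective E3.toMonoidHom E3.surjective]
    have h8 : Nat.card (commutator SL(2, K)) = 2 ^ 3 := by
      rw [← he,
        Nat.card_congr ((commutator SL(2, ZMod 3)).equivMapOfInjective E3.toMonoidHom E3.injective).toEquiv.symm]
      exact Cfsg.Agent.S2427.result.2.2.1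
    rw [h8, h6] at hcomp
    omega

variable {K : Type} [Field K] [Fintype K]

theorem LinMod.small_card (D : LinMod p E K) (h : ¬ 4 ≤ Fintype.card K) :
    (Fintype.card K = 2 ∨ Fintype.card K = 3) ∧ Fintype.card K = p := by
  have h1 := Fintype.one_lt_card (α := K)
  have hq : Fintype.card K = 2 ∨ Fintype.card K = 3 := by omega
  have hpr : (Fintype.card K).Prime := by rcases hq with e | e <;> rw [e] <;> norm_num
  refine ⟨hq, ?_⟩
  have h2 := D.card
  rw [h2] at hpr ⊢
  rw [hpr.eq_one_of_pow, pow_one]

/-- over a small field every normalizing element acts linearly -/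
theorem LinMod.exists_lin (D : LinMod p E K) (h : ¬ 4 ≤ Fintype.card K) {t : G} (ht : t ∈ normalizer (E : Set G)) :
    ∃ M : Matrix (Fin 2) (Fin 2) K, ∀ v, D.act' ht v = M *ᵥ v := by
  refine prime_matrix (natCast_surj ?_) _ fun v w => map_add (D.beta ht) v w
  rcases (D.small_card h).1 with e | e <;> rw [e] <;> norm_num

/-- coprime elements of the derived group of the normalizer are inner over a small field -/
theorem LinMod.coprime_inner (D : LinMod p E K) (hE : IsBlk p E) (h : ¬ 4 ≤ Fintype.card K) {f : G}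
    (hf : f ∈ ⁅normalizer (E : Set G), normalizer (E : Set G)⁆) (hco : (orderOf f).Coprime p) :
    ∃ e ∈ E, TrivMod p E (e⁻¹ * f) := by
  classical
  set N := normalizer (E : Set G) with hN
  choose M hM using fun t : ↥N => D.exists_lin h t.2
  let Θ : ↥N →* Matrix (Fin 2) (Fin 2) K :=
    { toFun := M
      map_one' := by
        refine Matrix.ext_iff_mulVec.mpr fun v => ?_
        rw [← hM, one_mulVec]
        exact D.act'_one _ v
      map_mul' := fun a b => by
        refine Matrix.ext_iff_mulVec.mpr fun v => ?_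
        rw [← hM, ← Matrix.mulVec_mulVec, ← hM, ← hM]
        exact D.act'_mul a.2 b.2 v }
  let δ : ↥N →* Kˣ := ((Matrix.detMonoidHom).comp Θ).toHomUnits
  have hfN : f ∈ N := (commutator_le.2 fun a ha b hb => mul_mem (mul_mem (mul_mem ha hb) (inv_mem ha)) (inv_mem hb) : ⁅N, N⁆ ≤ N) hf
  have hker : (⟨f, hfN⟩ : ↥N) ∈ δ.ker := by
    have h1 : ⁅N, N⁆ = (commutator ↥N).map N.subtype := by
      rw [_root_.commutator_def, map_commutator, ← MonoidHom.range_eq_map, range_subtype]
    rw [h1] at hf
    obtain ⟨y, hy, hyf⟩ := hf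
    rw [show (⟨f, hfN⟩ : ↥N) = y from Subtype.ext hyf.symm]
    exact Abelianization.commutator_subset_ker δ hy
  have hdet : (M ⟨f, hfN⟩).det = 1 := by
    have := congrArg Units.val (MonoidHom.mem_ker.1 hker)
    exact this
  let g : SL(2, K) := ⟨M ⟨f, hfN⟩, hdet⟩
  have hg : g ^ orderOf f = 1 := by
    apply Subtype.ext
    show (Θ ⟨f, hfN⟩) ^ orderOf f = 1
    rw [← map_pow, show (⟨f, hfN⟩ : ↥N) ^ orderOf f = 1 from Subtype.ext (pow_orderOf_eq_one f), map_one]
  obtain ⟨hq, hqp⟩ := D.small_card h
  haveI : (commutator SL(2, K)).Normal := inferInstance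
  have hmem : g ∈ commutator SL(2, K) :=
    coprime_mem_normal (p := p) (k := 1) (by rw [index_commutator_small hq, hqp, pow_one]) hco hg
  rw [← D.range] at hmem
  obtain ⟨e, he⟩ := hmem
  refine ⟨e, e.2, D.exists_inner hE hfN e fun v => ?_⟩
  rw [hM ⟨f, hfN⟩, he]

/-- coprime elements of the derived group of the normalizer, or of the Baumann subgroup, are inner -/
theorem bg_inner (hG : centralizer (Cfsg.pCore p G : Set G) ≤ Cfsg.pCore p G) (hE : IsBlk p E) (hEs : E.IsSubnormal)
    {K : Type} [Field K] [Fintype K] (D : LinMod p E K) (h4 : 4 ≤ Fintype.card K) :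
    Cfsg.baumannSubgroup p G ≤ E ⊔ kOne p E := by
  refine iSup_le fun T b hb => ?_
  obtain ⟨e, he, hk⟩ := D.baumann_inner hG hE h4 T (baumann_normalizes hG hE hEs T) hb
  rw [← mul_inv_cancel_left e b]
  exact mul_mem (mem_sup_left he) (mem_sup_right (mem_kOne_of_trivMod hE hk))

theorem block_le_bg (hF : IsBlk p F) : F ≤ Cfsg.baumannSubgroup p G := le_bg hF

/-- every block acts on the module of a subnormal block as a part of it -/
theorem block_inner (hG : centralizer (Cfsg.pCore p G : Set G) ≤ Cfsg.pCore p G) (hE : IsBlk p E)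
    (hEs : E.IsSubnormal) (hF : IsBlk p F) : F ≤ E ⊔ kOne p E := by
  have hBN := bg_normalizes hG hE hEs
  have hFd : F ≤ ⁅normalizer (E : Set G), normalizer (E : Set G)⁆ := by
    obtain ⟨T, hT⟩ := hF
    conv_lhs => rw [← hT.2.1]
    exact commutator_mono ((block_le_bg ⟨T, hT⟩).trans hBN) ((bt_le T).trans hBN)
  have hall : ∀ f ∈ F, (orderOf f).Coprime p → ∃ e ∈ E, TrivMod p E (e⁻¹ * f) := by
    intro f hf hco
    rcases shape hE with ⟨K, iK, iKt, ⟨D⟩⟩ | ⟨rfl, -, m, ⟨D⟩⟩
    · by_cases h4 : 4 ≤ Fintype.card K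
      · obtain ⟨e, he, k, hk, rfl⟩ := exists_of_mem_sup (inf_le_left : kOne p E ≤ normalizer (E : Set G))
          (bg_inner hG hE hEs D h4 (block_le_bg hF hf))
        exact ⟨e, he, by rw [inv_mul_cancel_left]; exact trivMod_of_mem_kOne hE hk⟩
      · exact D.coprime_inner hE h4 (hFd hf) hco
    · exact D.coprime_inner hE (hBN (block_le_bg hF hf)) hco
  rw [← Cfsg.Lib.BlockBasic.closure_coprime_elements (res hF), closure_le]
  rintro f ⟨hf, hco⟩
  obtain ⟨e, he, hk⟩ := hall f hf hco
  rw [← mul_inv_cancel_left e f]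
  exact mul_mem (mem_sup_left he) (mem_sup_right (mem_kOne_of_trivMod hE hk))

end Cfsg.Lib.BlockPair
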