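/-
The top section of an exceptional block.
-/
import Cfsg.Agent.BlockPair.InnerAll

set_option autoImplicit false

namespace Cfsg.Lib.BlockPair

set_option linter.style.haveILetI false
set_option linter.unusedSectionVars false

open Subgroup Matrix
open scoped commutatorElement MatrixGroups

universe u

variable {G : Type u} [Group G] [Finite G] {p : ℕ} [hp : Fact p.Prime] {E F : Subgroup G}

/-- data of an exceptional block -/
structure ExcMod (p : ℕ) [Fact p.Prime] (E : Subgroup G) (K : Type) [Field K] [Fintype K] where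
  /-- the module -/
  D : LinMod p E K
  /-- the representation on the top section -/
  ρ' : ↥E →* SL(2, K)
  /-- coordinates on the top section -/
  ψ' : ↥(qOf p E) →* Multiplicative (Fin 2 → K)
  surj' : Function.Surjective ψ'
  kerψ' : ∀ u : ↥(qOf p E), ψ' u = 1 ↔ (u : G) ∈ wOf p E
  act₂ : ∀ (e : ↥E) (u : ↥(qOf p E)), ∃ w : ↥(qOf p E), (w : G) = (e : G) * (u : G) * (e : G)⁻¹ ∧
    Multiplicative.toAdd (ψ' w) =
      ((ρ' e : SL(2, K)) : Matrix (Fin 2) (Fin 2) K).mulVec (Multiplicative.toAdd (ψ' u))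
  range' : ρ'.range = commutator SL(2, K)
  three : p = 3
  comm : ⁅qOf p E, qOf p E⁆ = zOf p E
  cen : E ⊓ centralizer (E : Set G) = zOf p E
  /-- the Sylow subgroup -/
  T : Sylow p G
  hEB : ⁅E, Cfsg.baumannSubgroupOf p (T : Subgroup G)⁆ = E
  h9 : ∀ b : G, b ∈ Cfsg.baumannSubgroupOf p (T : Subgroup G) → b ∉ centralizer (wOf p E : Set G) →
    ¬ ⁅⁅qOf p E, zpowers b⁆, zpowers b⁆ ≤ E ⊓ centralizer (E : Set G)

theorem exc_shape (hE : IsBlk p E) (hne : qOf p E ≠ wOf p E) :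
    ∃ (K : Type) (_ : Field K) (_ : Fintype K), Nonempty (ExcMod p E K) := by
  have hfaith := (block_shape hE).2.1
  obtain ⟨T, hres, hEB, hQE, hne', hcase⟩ := id hE
  have hQtriv : ∀ x : ↥E, (x : G) ∈ qOf p E → ∀ u ∈ wOf p E, (x : G) * u * (x : G)⁻¹ = u := fun x hx u hu => by
    rw [mem_centralizer_iff.1 (mem_inf.1 (wOf_le E hu)).2 x hx, mul_inv_cancel_right]
  rcases hcase with ⟨K, iK, iKt, n, hF, -, ⟨-, -, ρ, ψ, hρ, hψs, hψ, hact⟩, hex⟩ | ⟨-, m, -, -, hQW⟩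
  swap
  · exact absurd hQW hne
  rcases hex with hex | ⟨h3, ⟨-, -, ρ', ψ', hρ', hψs', hψ', hact'⟩, h5, -, h7, -, h9⟩
  · exact absurd hex hne
  refine ⟨K, iK, iKt, ⟨⟨⟨n, hF, ρ, ψ, hψs, hψ, hact, hρ, fun x => ⟨fun hx => hfaith x x.2 fun u hu => ?_,
      fun hx => ?_⟩⟩, ρ', ψ', hψs', hψ', hact', hρ', h3, h5, h7, T, hEB, h9⟩⟩⟩
  · obtain ⟨w, hw1, hw2⟩ := hact x ⟨u, hu⟩
    rw [hx] at hw2
    replace hw2 : Multiplicative.toAdd (ψ w) = Multiplicative.toAdd (ψ ⟨u, hu⟩) := hw2.trans (one_mulVec _)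
    have h1 := (hψ (w * ⟨u, hu⟩⁻¹)).1 (by
      rw [map_mul, map_inv, mul_inv_eq_one]; exact Multiplicative.toAdd.injective hw2)
    rw [Subgroup.coe_mul, Subgroup.coe_inv, hw1] at h1
    exact h1
  · refine Subtype.ext (Matrix.ext_iff_mulVec.mpr fun v => ?_)
    obtain ⟨u, hu⟩ := hψs (Multiplicative.ofAdd v)
    obtain ⟨w, hw1, hw2⟩ := hact x u
    rw [Subtype.ext (hw1.trans (hQtriv x hx u u.2)), hu] at hw2
    simpa using hw2.symm

theorem wOf_le_qOf (E : Subgroup G) : wOf p E ≤ qOf p E := (wOf_le E).trans inf_le_left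

theorem commutator_qq_le (hE : IsBlk p E) : ⁅qOf p E, qOf p E⁆ ≤ wOf p E := by
  rcases top_kind hE with h | ⟨-, -, h, -⟩
  · rw [h, commutator_le]
    intro a ha b hb
    rw [commutatorElement_eq_one_iff_mul_comm.2 (wOf_comm E ha hb).eq]
    exact one_mem _
  · rw [h]; exact inf_le_left

variable {K : Type} [Field K] [Fintype K]

/-- coordinates on the top section -/
def ExcMod.crd (X : ExcMod p E K) (u : ↥(qOf p E)) : Fin 2 → K := Multiplicative.toAdd (X.ψ' u)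

theorem ExcMod.crd_mul (X : ExcMod p E K) (a b : ↥(qOf p E)) : X.crd (a * b) = X.crd a + X.crd b := by
  simp only [ExcMod.crd, map_mul, toAdd_mul]

theorem ExcMod.crd_eq_iff (X : ExcMod p E K) (a b : ↥(qOf p E)) :
    X.crd a = X.crd b ↔ (a : G)⁻¹ * b ∈ wOf p E := by
  rw [← Subgroup.coe_inv, ← Subgroup.coe_mul, ← X.kerψ', map_mul, map_inv, inv_mul_eq_one]
  exact Multiplicative.toAdd.injective.eq_iff

theorem ExcMod.exists_crd (X : ExcMod p E K) (v : Fin 2 → K) : ∃ u : ↥(qOf p E), X.crd u = v := by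
  obtain ⟨u, hu⟩ := X.surj' (Multiplicative.ofAdd v)
  exact ⟨u, by rw [ExcMod.crd, hu]; rfl⟩

/-- conjugation on `O_p(E)` -/
def conjQ {t : G} (ht : t ∈ normalizer (E : Set G)) (u : ↥(qOf p E)) : ↥(qOf p E) :=
  ⟨t * u * t⁻¹, conj_qOf ht u.2⟩

/-- the action on the top section -/
noncomputable def ExcMod.act' (X : ExcMod p E K) {t : G} (ht : t ∈ normalizer (E : Set G)) (v : Fin 2 → K) :
    Fin 2 → K :=
  X.crd (conjQ ht (X.exists_crd v).choose)

theorem ExcMod.act'_crd (X : ExcMod p E K) {t : G} (ht : t ∈ normalizer (E : Set G)) (u : ↥(qOf p E)) :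
    X.act' ht (X.crd u) = X.crd (conjQ ht u) := by
  refine (X.crd_eq_iff _ _).2 ?_
  set w := (X.exists_crd (X.crd u)).choose
  have h := conj_wOf ht ((X.crd_eq_iff w u).1 (X.exists_crd (X.crd u)).choose_spec)
  show (t * (w : G) * t⁻¹)⁻¹ * (t * (u : G) * t⁻¹) ∈ wOf p E
  rw [show (t * (w : G) * t⁻¹)⁻¹ * (t * (u : G) * t⁻¹) = t * ((w : G)⁻¹ * u) * t⁻¹ by group]
  exact h

theorem ExcMod.act'_mul (X : ExcMod p E K) {a b : G} (ha : a ∈ normalizer (E : Set G))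
    (hb : b ∈ normalizer (E : Set G)) (v : Fin 2 → K) :
    X.act' (mul_mem ha hb) v = X.act' ha (X.act' hb v) := by
  obtain ⟨u, rfl⟩ := X.exists_crd v
  rw [X.act'_crd, X.act'_crd, X.act'_crd]
  congr 1
  apply Subtype.ext
  show a * b * (u : G) * (a * b)⁻¹ = a * (b * (u : G) * b⁻¹) * a⁻¹
  group

theorem ExcMod.act'_congr (X : ExcMod p E K) {a b : G} (h : a = b) (ha : a ∈ normalizer (E : Set G))
    (hb : b ∈ normalizer (E : Set G)) (v : Fin 2 → K) : X.act' ha v = X.act' hb v := by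
  subst h; rfl

theorem ExcMod.act'_one (X : ExcMod p E K) (h : (1 : G) ∈ normalizer (E : Set G)) (v : Fin 2 → K) :
    X.act' h v = v := by
  obtain ⟨u, rfl⟩ := X.exists_crd v
  rw [X.act'_crd]
  congr 1
  exact Subtype.ext (by simp [conjQ])

theorem ExcMod.act'_add (X : ExcMod p E K) {t : G} (ht : t ∈ normalizer (E : Set G)) (v w : Fin 2 → K) :
    X.act' ht (v + w) = X.act' ht v + X.act' ht w := by
  obtain ⟨a, rfl⟩ := X.exists_crd v
  obtain ⟨b, rfl⟩ := X.exists_crd w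
  rw [← X.crd_mul, X.act'_crd, X.act'_crd, X.act'_crd, ← X.crd_mul]
  congr 1
  apply Subtype.ext
  show t * ((a : G) * b) * t⁻¹ = (t * (a : G) * t⁻¹) * (t * (b : G) * t⁻¹)
  group

theorem ExcMod.act'_elem (X : ExcMod p E K) (e : ↥E) (v : Fin 2 → K) :
    X.act' (le_normalizer e.2) v = ((X.ρ' e : SL(2, K)) : Matrix (Fin 2) (Fin 2) K) *ᵥ v := by
  obtain ⟨u, rfl⟩ := X.exists_crd v
  obtain ⟨w, hw1, hw2⟩ := X.act₂ e u
  rw [X.act'_crd, show conjQ (le_normalizer e.2) u = w from Subtype.ext hw1.symm]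
  exact hw2

theorem ExcMod.act'_qOf (X : ExcMod p E K) (hE : IsBlk p E) {s : G} (hs : s ∈ qOf p E)
    (hsn : s ∈ normalizer (E : Set G)) (v : Fin 2 → K) : X.act' hsn v = v := by
  obtain ⟨u, rfl⟩ := X.exists_crd v
  rw [X.act'_crd, X.crd_eq_iff]
  show (s * (u : G) * s⁻¹)⁻¹ * u ∈ wOf p E
  rw [show (s * (u : G) * s⁻¹)⁻¹ * u = ⁅s, (u : G)⁻¹⁆ by simp only [commutatorElement_def]; group]
  exact commutator_qq_le hE (commutator_mem_commutator hs (inv_mem u.2))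

theorem ExcMod.wel_j (X : ExcMod p E K) (h : Fintype.card K = 3) :
    (Line.wel : SL(2, K)) ∈ X.ρ'.range ∧ ∃ j : SL(2, K),
      (j : Matrix (Fin 2) (Fin 2) K) = !![1, 1; 1, -1] ∧ j ∈ X.ρ'.range := by
  haveI := ringChar.charP K
  have hidx := index_commutator_small (K := K) (Or.inr h)
  have h30 : (3 : K) = 0 := by
    have := FiniteField.cast_card_eq_zero K
    rw [h] at this
    exact_mod_cast this
  haveI := Fact.mk Nat.prime_three
  have hmem : ∀ g : SL(2, K), g ^ 4 = 1 → g ∈ X.ρ'.range := by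
    intro g hg
    rw [X.range']
    exact coprime_mem_normal (p := 3) (k := 1) (by rw [hidx, h, pow_one]) (n := 4) (by norm_num) hg
  have four : ∀ g : SL(2, K), (∀ v, (g : Matrix (Fin 2) (Fin 2) K) *ᵥ ((g : Matrix (Fin 2) (Fin 2) K) *ᵥ v) = -v) →
      g ^ 4 = 1 := by
    intro g hg
    refine Subtype.ext (Matrix.ext_iff_mulVec.mpr fun v => ?_)
    rw [show g ^ 4 = g * (g * (g * g)) by simp [pow_succ, mul_assoc], ← sl_mulVec, ← sl_mulVec, ← sl_mulVec, hg v, Matrix.mulVec_neg,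
      Matrix.mulVec_neg, hg, neg_neg]
    exact (one_mulVec v).symm
  refine ⟨hmem _ (four _ fun v => ?_), ⟨!![1, 1; 1, -1], by simp [det_fin_two]; linear_combination -h30⟩, rfl,
    hmem _ (four _ fun v => ?_)⟩
  · funext i
    fin_cases i <;> simp [Line.wel, Matrix.mulVec, dotProduct, Fin.sum_univ_two]
  · funext i
    fin_cases i <;> simp [Matrix.mulVec, dotProduct, Fin.sum_univ_two]
    · linear_combination v 0 * h30
    · linear_combination v 1 * h30

/-- elements acting trivially on the module act as scalars on the top section -/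
theorem ExcMod.scalar (X : ExcMod p E K) (hE : IsBlk p E) {k : G} (hk : k ∈ kOne p E) :
    ∃ lam : K, ∀ v, X.act' (mem_kOne.1 hk).1 v = lam • v := by
  have hkn := (mem_kOne.1 hk).1
  have hs := ((trivMod_of_mem_kOne hE hk).exact hE).2
  have hc : ∀ g ∈ X.ρ'.range, ∀ v, X.act' hkn ((g : Matrix (Fin 2) (Fin 2) K) *ᵥ v) =
      (g : Matrix (Fin 2) (Fin 2) K) *ᵥ X.act' hkn v := by
    rintro _ ⟨e, rfl⟩ v
    rw [← X.act'_elem, ← X.act'_elem, ← X.act'_mul, ← X.act'_mul]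
    have he' : k * e = (k * e * k⁻¹ * (e : G)⁻¹) * ((e : G) * k) := by group
    have hsE : k * e * k⁻¹ * (e : G)⁻¹ ∈ qOf p E := hs e e.2
    rw [X.act'_congr he' _ (mul_mem (le_normalizer (qOf_le E hsE)) (mul_mem (le_normalizer e.2) hkn)),
      X.act'_mul, X.act'_qOf hE hsE]
    exact le_normalizer (qOf_le E hsE)
  by_cases h4 : 4 ≤ Fintype.card K
  · have htop : ∀ g : SL(2, K), g ∈ X.ρ'.range := fun g => by
      rw [X.range', Cfsg.Lib.Known.sl2_commutator_eq_top K h4]; exact mem_top g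
    set lam := X.act' hkn (Line.ax 1) 0
    have hfix : ∀ l, X.act' hkn (Line.ax l) 1 = 0 := by
      intro l
      have h := hc _ (htop (Line.uni 1)) (Line.ax l)
      rw [Line.uni_mulVec, Line.uni_mulVec] at h
      have h0 := congrFun h 0
      simp at h0
      exact h0
    have hsnd : ∀ l, X.act' hkn ![0, l] = ![0, X.act' hkn (Line.ax l) 0] := by
      intro l
      rw [← Line.wel_mulVec, hc _ (htop _), ← Line.wel_mulVec]
      congr 1
      funext i; fin_cases i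
      · rfl
      · exact hfix l
    have hax : ∀ a, X.act' hkn (Line.ax a) = Line.ax (a * lam) := by
      intro a
      have h := hc _ (htop (Line.uni a)) ![0, 1]
      rw [Line.uni_mulVec, Line.uni_mulVec, hsnd] at h
      simp only [Matrix.cons_val_zero, Matrix.cons_val_one, mul_one, zero_add] at h
      have e : (![a, 1] : Fin 2 → K) = Line.ax a + ![0, 1] := by funext i; fin_cases i <;> simp
      rw [e, X.act'_add, hsnd] at h
      have h0 := congrFun h 0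
      simp at h0
      funext i; fin_cases i
      · simpa using h0
      · exact hfix a
    refine ⟨lam, fun v => ?_⟩
    rw [show v = Line.ax (v 0) + ![0, v 1] by funext i; fin_cases i <;> simp, X.act'_add, hax, hsnd, hax]
    funext i; fin_cases i <;> simp [mul_comm]
  have h3 : Fintype.card K = 3 := (X.D.small_card h4).2.trans X.three
  obtain ⟨M, hM⟩ := prime_matrix (natCast_surj (by rw [h3]; norm_num)) _ (X.act'_add hkn)
  obtain ⟨hw, j, hj, hjr⟩ := X.wel_j h3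
  have e1 := hc _ hw (Line.ax 1)
  have e2 := hc _ hw ![0, 1]
  have e3 := hc _ hjr (Line.ax 1)
  rw [hM, hM] at e1 e2 e3
  rw [hj] at e3
  have a0 := congrFun e1 0
  have a1 := congrFun e1 1
  have b0 := congrFun e3 0
  simp [Line.wel, Matrix.mulVec, dotProduct, Fin.sum_univ_two] at a0 a1 b0
  haveI := ringChar.charP K
  have h2ne : (2 : K) ≠ 0 := by
    intro h2
    have h30 : (3 : K) = 0 := by
      have := FiniteField.cast_card_eq_zero K
      rw [h3] at this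
      exact_mod_cast this
    exact one_ne_zero (α := K) (by linear_combination h30 - h2)
  have h10 : M 1 0 = 0 := (mul_eq_zero.1 (show (2 : K) * M 1 0 = 0 by linear_combination a0 - b0 - a0 + a0)).resolve_left h2ne
  refine ⟨M 0 0, fun v => ?_⟩
  rw [hM]
  funext i
  fin_cases i <;> simp [Matrix.mulVec, dotProduct, Fin.sum_univ_two]
  · left; linear_combination a0 - h10
  · rw [h10, a1]; ring

/-- the kernel on the top section -/
def kZero (hE : IsBlk p E) : Subgroup G where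
  carrier := {k | k ∈ kOne p E ∧ ∀ q ∈ qOf p E, k * q * k⁻¹ * q⁻¹ ∈ wOf p E}
  one_mem' := ⟨one_mem _, fun q _ => by simp [one_mem]⟩
  mul_mem' := by
    rintro a b ⟨ha, ha'⟩ ⟨hb, hb'⟩
    refine ⟨mul_mem ha hb, fun q hq => ?_⟩
    rw [show a * b * q * (a * b)⁻¹ * q⁻¹ = a * (b * q * b⁻¹ * q⁻¹) * a⁻¹ * (a * q * a⁻¹ * q⁻¹) by group]
    exact mul_mem (conj_wOf (mem_kOne.1 ha).1 (hb' q hq)) (ha' q hq)
  inv_mem' := by
    rintro a ⟨ha, ha'⟩
    refine ⟨inv_mem ha, fun q hq => ?_⟩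
    rw [show a⁻¹ * q * a⁻¹⁻¹ * q⁻¹ = a⁻¹ * (a * q * a⁻¹ * q⁻¹)⁻¹ * a⁻¹⁻¹ by group]
    exact conj_wOf (inv_mem (mem_kOne.1 ha).1) (inv_mem (ha' q hq))

theorem mem_kZero (hE : IsBlk p E) {k : G} :
    k ∈ kZero hE ↔ k ∈ kOne p E ∧ ∀ q ∈ qOf p E, k * q * k⁻¹ * q⁻¹ ∈ wOf p E := Iff.rfl

theorem kZero_le (hE : IsBlk p E) : kZero hE ≤ normalizer (E : Set G) :=
  fun _ h => (mem_kOne.1 ((mem_kZero hE).1 h).1).1

/-- elements of the extended block act linearly on both sections -/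
theorem ExcMod.exists_lin (X : ExcMod p E K) (hE : IsBlk p E) {b : G} (hb : b ∈ normalizer (E : Set G))
    (h : 4 ≤ Fintype.card K → b ∈ E ⊔ kOne p E) :
    (∃ M : Matrix (Fin 2) (Fin 2) K, ∀ v, X.D.act' hb v = M *ᵥ v) ∧
      ∃ M : Matrix (Fin 2) (Fin 2) K, ∀ v, X.act' hb v = M *ᵥ v := by
  by_cases h4 : 4 ≤ Fintype.card K
  · obtain ⟨e, he, k, hk, rfl⟩ := exists_of_mem_sup (inf_le_left : kOne p E ≤ normalizer (E : Set G)) (h h4)
    have hkn := (mem_kOne.1 hk).1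
    obtain ⟨lam, hl⟩ := X.scalar hE hk
    refine ⟨⟨((X.D.ρ ⟨e, he⟩ : SL(2, K)) : Matrix (Fin 2) (Fin 2) K), fun v => ?_⟩,
      ⟨lam • ((X.ρ' ⟨e, he⟩ : SL(2, K)) : Matrix (Fin 2) (Fin 2) K), fun v => ?_⟩⟩
    · obtain ⟨u, rfl⟩ := X.D.exists_crd v
      rw [← X.D.crd_act, X.D.act'_crd]
      rw [X.D.crd_eq_iff]
      show (e * k * (u : G) * (e * k)⁻¹)⁻¹ * (e * u * e⁻¹) ∈ zOf p E
      have h1 := (trivMod_of_mem_kOne hE hk).2 _ u.2
      have h2 := conj_zOf (le_normalizer he) ((mem_normalizer_iff.1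
        (w1_normalizer_zOf hE le_rfl (inv_mem u.2)) _).1 (inv_mem h1))
      have h3 : (e * k * (u : G) * (e * k)⁻¹)⁻¹ * (e * u * e⁻¹) =
          (e * ((u : G)⁻¹ * ⁅(u : G), k⁆⁻¹ * (u : G)⁻¹⁻¹) * e⁻¹)⁻¹ := by
        simp only [commutatorElement_def]; group
      rw [h3]
      exact inv_mem h2
    · rw [X.act'_mul (le_normalizer he) hkn, hl, Matrix.smul_mulVec]
      rw [show X.act' (le_normalizer he) (lam • v) = _ from X.act'_elem ⟨e, he⟩ (lam • v), Matrix.mulVec_smul]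
  · obtain ⟨M, hM⟩ := X.D.exists_lin h4 hb
    refine ⟨⟨M, hM⟩, prime_matrix (natCast_surj ?_) _ (X.act'_add hb)⟩
    rcases (X.D.small_card h4).1 with e | e <;> rw [e] <;> norm_num

theorem ExcMod.comm_kZero (X : ExcMod p E K) (hE : IsBlk p E) {k b : G} (hk : k ∈ kOne p E)
    (hb : b ∈ normalizer (E : Set G)) (h : 4 ≤ Fintype.card K → b ∈ E ⊔ kOne p E) :
    ⁅k, b⁆ ∈ kZero hE := by
  have hkn := (mem_kOne.1 hk).1
  obtain ⟨-, M, hM⟩ := X.exists_lin hE hb h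
  obtain ⟨lam, hl⟩ := X.scalar hE hk
  have hc : ⁅k, b⁆ ∈ kOne p E := by
    rw [commutatorElement_def, show k * b * k⁻¹ * b⁻¹ = k * (b * k⁻¹ * b⁻¹) by group]
    exact mul_mem hk (conj_kOne hE hb (inv_mem hk))
  refine (mem_kZero hE).2 ⟨hc, fun q hq => ?_⟩
  have hcn := (mem_kOne.1 hc).1
  have hcomm : ∀ w, X.act' (mul_mem hkn hb) w = X.act' (mul_mem hb hkn) w := fun w => by
    rw [X.act'_mul hkn hb, X.act'_mul hb hkn, hl, hl, hM, hM, Matrix.mulVec_smul]
  obtain ⟨w, hw⟩ : ∃ w, X.act' (mul_mem hb hkn) w = X.crd ⟨q, hq⟩ := by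
    refine ⟨X.act' (inv_mem (mul_mem hb hkn)) (X.crd ⟨q, hq⟩), ?_⟩
    rw [← X.act'_mul (mul_mem hb hkn) (inv_mem (mul_mem hb hkn)),
      X.act'_congr (mul_inv_cancel _) _ (one_mem _), X.act'_one]
  have h1 : X.act' hcn (X.crd ⟨q, hq⟩) = X.crd ⟨q, hq⟩ := by
    rw [← hw, ← X.act'_mul hcn (mul_mem hb hkn),
      X.act'_congr (show ⁅k, b⁆ * (b * k) = k * b by rw [commutatorElement_def]; group) _ (mul_mem hkn hb), hcomm]
  rw [X.act'_crd, X.crd_eq_iff] at h1
  have h2 := conj_wOf (le_normalizer (qOf_le E hq)) (inv_mem h1)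
  have e : q * (((conjQ hcn ⟨q, hq⟩ : ↥(qOf p E)) : G)⁻¹ * q)⁻¹ * q⁻¹ = ⁅k, b⁆ * q * ⁅k, b⁆⁻¹ * q⁻¹ := by
    show q * ((⁅k, b⁆ * q * ⁅k, b⁆⁻¹)⁻¹ * q)⁻¹ * q⁻¹ = _
    group
  exact e ▸ h2

/-- every block lies in the product of a subnormal block and the kernel on both sections -/
theorem block_kZero (hG : centralizer (Cfsg.pCore p G : Set G) ≤ Cfsg.pCore p G) (hE : IsBlk p E)
    (hEs : E.IsSubnormal) (hF : IsBlk p F) : F ≤ E ⊔ kZero hE := by
  have hF1 := block_inner hG hE hEs hF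
  by_cases hlin : qOf p E = wOf p E
  · refine hF1.trans (sup_le le_sup_left fun k hk => mem_sup_right ((mem_kZero hE).2 ⟨hk, fun q hq => ?_⟩))
    rw [hlin] at hq
    exact mul_mem (conj_wOf (mem_kOne.1 hk).1 hq) (inv_mem hq)
  obtain ⟨K, iK, iKt, ⟨X⟩⟩ := exc_shape hE hlin
  obtain ⟨T, hT⟩ := hF
  conv_lhs => rw [← hT.2.1]
  rw [commutator_le]
  intro f hf b hb
  obtain ⟨e, he, k, hk, rfl⟩ := exists_of_mem_sup (inf_le_left : kOne p E ≤ normalizer (E : Set G)) (hF1 hf)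
  have hbN := baumann_normalizes hG hE hEs T hb
  have e1 : ⁅e * k, b⁆ = e * ⁅k, b⁆ * e⁻¹ * ⁅e, b⁆ := by simp only [commutatorElement_def]; group
  rw [e1]
  refine mul_mem (mul_mem (mul_mem (mem_sup_left he) (mem_sup_right ?_)) (mem_sup_left (inv_mem he)))
    (mem_sup_left ?_)
  · exact X.comm_kZero hE hk hbN fun h4 => bg_inner hG hE hEs X.D h4 (bt_le T hb)
  · rw [commutatorElement_def, show e * b * e⁻¹ * b⁻¹ = e * (b * e⁻¹ * b⁻¹) by group]
    exact mul_mem he ((mem_normalizer_iff.1 hbN _).1 (inv_mem he))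

end Cfsg.Lib.BlockPair
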