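/-
An exceptional block above a linear subnormal one is impossible.
-/
import Cfsg.Agent.BlockPair.Excep

set_option autoImplicit false

namespace Cfsg.Lib.BlockPair

set_option linter.style.haveILetI false
set_option linter.unusedSectionVars false

open Subgroup Matrix
open scoped commutatorElement MatrixGroups

universe u

/-- a unipotent two by two matrix is quadratic -/
theorem mat_quad {K : Type} [Field K] {p : ℕ} [Fact p.Prime] [CharP K p] {M : Matrix (Fin 2) (Fin 2) K} {i : ℕ}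
    (h : M ^ p ^ i = 1) : (M - 1) * (M - 1) = 0 := by
  haveI : CharP (Matrix (Fin 2) (Fin 2) K) p := inferInstance
  set N := M - 1 with hN
  have hnil : N ^ p ^ i = 0 := by
    rw [hN, sub_pow_char_pow_of_commute (p := p) (n := i) (Commute.one_right M), h, one_pow, sub_self]
  have hne : p ^ i ≠ 0 := pow_ne_zero _ (Fact.out : p.Prime).ne_zero
  have hdet : N.det = 0 := by
    have := congrArg Matrix.det hnil
    rw [Matrix.det_pow, Matrix.det_zero] at this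
    exact eq_zero_of_pow_eq_zero this
  rw [det_fin_two] at hdet
  have hsq : N * N = (N 0 0 + N 1 1) • N := by
    ext a b
    fin_cases a <;> fin_cases b <;> simp [Matrix.mul_apply, Fin.sum_univ_two] <;>
      first | linear_combination -hdet | ring
  have hk : ∀ k : ℕ, N ^ (k + 1) = (N 0 0 + N 1 1) ^ k • N := by
    intro k
    induction k with
    | zero => simp
    | succ k ih => rw [pow_succ, ih, Matrix.smul_mul, hsq, smul_smul, ← pow_succ]
  obtain ⟨k, hk'⟩ : ∃ k, p ^ i = k + 1 := ⟨p ^ i - 1, by omega⟩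
  rw [hk', hk, smul_eq_zero] at hnil
  rcases hnil with h' | h'
  · rw [hsq, eq_zero_of_pow_eq_zero h', zero_smul]
  · rw [h', mul_zero]

variable {G : Type u} [Group G] [Finite G] {p : ℕ} [hp : Fact p.Prime] {E F : Subgroup G}
variable {K : Type} [Field K] [Fintype K]

theorem LinMod.neg_one_inverts (D : LinMod p E K) (hE : IsBlk p E) (hodd : p ≠ 2) {z : G} (hzE : z ∈ E)
    (hz : D.ρ ⟨z, hzE⟩ = -1) : ∀ u ∈ w1Of p E, z * u * z⁻¹ = u⁻¹ := by
  refine (inf_of_inverted hE hodd hzE (fun w hw => ?_) fun e he => ?_).1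
  · obtain ⟨v, hv1, hv2⟩ := D.act ⟨z, hzE⟩ ⟨w, hw⟩
    have h := (D.kerψ (v * ⟨w, hw⟩)).1 (by
      apply Multiplicative.toAdd.injective
      rw [map_mul, toAdd_mul, hv2, hz, toAdd_one, neg_one_mulVec', neg_add_cancel])
    rwa [Subgroup.coe_mul, hv1] at h
  · refine (D.kerρ (⟨z, hzE⟩ * ⟨e, he⟩ * ⟨z, hzE⟩⁻¹ * ⟨e, he⟩⁻¹)).1 ?_
    rw [map_mul, map_mul, map_mul, map_inv, map_inv, hz]
    have : ∀ a : SL(2, K), (-1) * a * (-1)⁻¹ = a := by
      intro a; rw [neg_one_mul, inv_neg, inv_one, mul_neg, neg_mul, mul_one, neg_neg]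
    rw [this, mul_inv_cancel]

theorem eq_one_of_sq {u : G} (h : u ^ 3 = 1) (h2 : u * u = 1) : u = 1 := by
  rw [pow_succ, pow_two, h2, one_mul] at h
  exact h

/-- an element of `SL₂` of order at most two is central -/
theorem sl_sq_eq_one {M : SL(2, K)} (h : M * M = 1) (h2 : (2 : K) ≠ 0) : M = 1 ∨ M = -1 := by
  have hinv : M⁻¹ = M := inv_eq_of_mul_eq_one_right h
  have he : (M : Matrix (Fin 2) (Fin 2) K).adjugate = (M : Matrix (Fin 2) (Fin 2) K) := by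
    exact congrArg Subtype.val hinv
  rw [adjugate_fin_two] at he
  have e00 := congrFun (congrFun he 0) 0
  have e01 := congrFun (congrFun he 0) 1
  have e10 := congrFun (congrFun he 1) 0
  simp at e00 e01 e10
  have h01 : (M : Matrix (Fin 2) (Fin 2) K) 0 1 = 0 := (mul_eq_zero.1
    (show (2 : K) * (M : Matrix (Fin 2) (Fin 2) K) 0 1 = 0 by linear_combination -e01)).resolve_left h2
  have h10 : (M : Matrix (Fin 2) (Fin 2) K) 1 0 = 0 := (mul_eq_zero.1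
    (show (2 : K) * (M : Matrix (Fin 2) (Fin 2) K) 1 0 = 0 by linear_combination -e10)).resolve_left h2
  have hd : (M : Matrix (Fin 2) (Fin 2) K).det = 1 := M.2
  rw [det_fin_two, e00, h01, zero_mul, sub_zero] at hd
  rcases mul_self_eq_one_iff.1 hd with h' | h'
  · refine Or.inl (Subtype.ext (Matrix.ext fun a b => ?_))
    fin_cases a <;> fin_cases b <;> simp [h01, h10, h', e00]
  · refine Or.inr (Subtype.ext (Matrix.ext fun a b => ?_))
    fin_cases a <;> fin_cases b <;> simp [h01, h10, h', e00]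

theorem exists_mem_notMem_centralizer (hF : IsBlk p F) {B : Subgroup G} (hEB : ⁅F, B⁆ = F) :
    ∃ b ∈ B, b ∉ centralizer (wOf p F : Set G) := by
  by_contra hno
  push Not at hno
  apply (irr_module hF).2.1
  refine le_antisymm (fun u hu => mem_inf.2 ⟨hu, ?_⟩) inf_le_left
  have hFW : F ≤ centralizer (wOf p F : Set G) := by
    conv_lhs => rw [← hEB]
    rw [commutator_le]
    intro x hx c hc
    rw [commutatorElement_def]
    refine mul_mem ?_ (inv_mem (hno c hc))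
    rw [mem_centralizer_iff]
    intro w hw
    have hw' : x⁻¹ * w * x⁻¹⁻¹ ∈ wOf p F := conj_wOf (inv_mem (le_normalizer hx)) hw
    have h1 := mem_centralizer_iff.mp (hno c hc) _ hw'
    calc w * (x * c * x⁻¹) = x * ((x⁻¹ * w * x⁻¹⁻¹) * c) * x⁻¹ := by group
      _ = x * (c * (x⁻¹ * w * x⁻¹⁻¹)) * x⁻¹ := by rw [h1]
      _ = x * c * x⁻¹ * w := by group
  exact mem_centralizer_iff.mpr fun x hx => (mem_centralizer_iff.mp (hFW hx) u hu).symm

/-- elements of a block modulo the kernel of its module -/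
theorem no_linear_exc (hG : centralizer (Cfsg.pCore p G : Set G) ≤ Cfsg.pCore p G) (hE : IsBlk p E)
    (hEs : E.IsSubnormal) (hlin : qOf p E = wOf p E) {L : Type} [Field L] [Fintype L] (DE : LinMod p E L)
    (hF : IsBlk p F) (X : ExcMod p F K) (hQR : qOf p F ≤ Cfsg.pCore p G)
    (hW : w1Of p F ≤ w1Of p E) (hFE : F ≤ E ⊔ kZero hE) (hY : ⁅w1Of p E, F⁆ ≤ wOf p F) : False := by
  have hp3 := X.three
  subst hp3
  have hU : qOf 3 E = w1Of 3 E := by
    conv_lhs => rw [← commutator_qOf hE, hlin]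
  have hU3 : ∀ u ∈ w1Of 3 E, u ^ 3 = 1 := fun u hu => wOf_pow E (w1_le_wOf hE hu)
  have hUc : ∀ u ∈ w1Of 3 E, ∀ r ∈ Cfsg.pCore 3 G, Commute r u := fun u hu r hr =>
    core_commute (w1_le_vOf hG hE hu) hr
  -- the involution
  obtain ⟨⟨x, hxF⟩, hx⟩ : ∃ x, X.D.ρ x = -1 := by
    have := neg_one_mem_commutator (F := K) (by rw [X.D.ringChar_eq]; norm_num)
    rw [← X.D.range] at this
    exact this
  obtain ⟨i, m, hm, hxm⟩ := Nat.exists_eq_pow_mul_and_not_dvd (orderOf_pos x).ne' 3 (by norm_num)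
  set z := x ^ 3 ^ i with hz
  have hzF : z ∈ F := pow_mem hxF _
  have hzρ : X.D.ρ ⟨z, hzF⟩ = -1 := by
    rw [show (⟨z, hzF⟩ : ↥F) = ⟨x, hxF⟩ ^ 3 ^ i from Subtype.ext (by simp [hz]), map_pow, hx]
    exact Odd.neg_one_pow (Odd.pow (by decide))
  have hzco : (orderOf z).Coprime 3 := by
    refine Nat.Coprime.coprime_dvd_left (orderOf_dvd_of_pow_eq_one (n := m) ?_)
      ((Nat.prime_three.coprime_iff_not_dvd.2 hm).symm)
    rw [hz, ← pow_mul, ← hxm, pow_orderOf_eq_one]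
  have hinvF := X.D.neg_one_inverts hF (by norm_num) hzF hzρ
  obtain ⟨e0, he0, k0, hk0, hzek⟩ := exists_of_mem_sup (kZero_le hE) (hFE hzF)
  have hk0U := (mem_kOne.1 ((mem_kZero hE).1 hk0).1).2
  have hconj : ∀ u ∈ w1Of 3 E, z * u * z⁻¹ = e0 * u * e0⁻¹ := by
    intro u hu
    rw [hzek, show e0 * k0 * u * (e0 * k0)⁻¹ = e0 * (k0 * u) * k0⁻¹ * e0⁻¹ by group, (hk0U u hu).eq]
    group
  have hd : ∀ u ∈ w1Of 3 E, z * u * z⁻¹ * u⁻¹ ∈ w1Of 3 F := by
    intro u hu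
    have h1 : ⁅z, u⁆ ∈ wOf 3 F := by
      rw [← commutatorElement_inv u z]
      exact inv_mem (hY (commutator_mem_commutator hu hzF))
    exact comm_mem_w1 hF hzF hzco h1
  have hsq : ∀ u ∈ w1Of 3 E, Commute (e0 * e0) u := by
    intro u hu
    have hu' : e0 * u * e0⁻¹ ∈ w1Of 3 E := conj_w1_self hE (le_normalizer he0) hu
    have h1 : z * (z * u * z⁻¹) * z⁻¹ = u := by
      calc z * (z * u * z⁻¹) * z⁻¹ = (z * (z * u * z⁻¹ * u⁻¹) * z⁻¹) * (z * u * z⁻¹) := by group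
        _ = (z * u * z⁻¹ * u⁻¹)⁻¹ * (z * u * z⁻¹) := by rw [hinvF _ (hd u hu)]
        _ = u := by group
    rw [hconj u hu, hconj _ hu'] at h1
    refine mul_inv_eq_iff_eq_mul.1 ?_
    calc e0 * e0 * u * (e0 * e0)⁻¹ = e0 * (e0 * u * e0⁻¹) * e0⁻¹ := by group
      _ = u := h1
  have hρ2 : DE.ρ ⟨e0, he0⟩ * DE.ρ ⟨e0, he0⟩ = 1 := by
    rw [← map_mul]
    exact (DE.kerρ _).2 (mem_qOf_of_commute hE (mul_mem he0 he0) hsq)
  have h2L : (2 : L) ≠ 0 := by
    intro h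
    haveI : CharP L 3 := DE.ringChar_eq ▸ ringChar.charP L
    have h3 : (3 : L) = 0 := by exact_mod_cast CharP.cast_eq_zero L 3
    exact one_ne_zero (α := L) (by linear_combination h3 - h)
  rcases sl_sq_eq_one hρ2 h2L with hone | hneg
  · apply (irr_w1 hF).2.1
    have hbot : w1Of 3 F = ⊥ := by
      refine eq_bot_iff.2 fun u hu => ?_
      rw [Subgroup.mem_bot]
      have h1 := hinvF u hu
      rw [hconj u (hW hu), mem_centralizer_iff.1 (mem_inf.1 (wOf_le E (w1_le_wOf hE (hW hu)))).2 e0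
        ((DE.kerρ ⟨e0, he0⟩).1 hone), mul_inv_cancel_right] at h1
      exact eq_one_of_sq (hU3 u (hW hu)) (by nth_rw 2 [h1]; rw [mul_inv_cancel])
    rw [hbot, bot_inf_eq]
  have hinvE := DE.neg_one_inverts hE (by norm_num) he0 hneg
  have hUF : w1Of 3 E ≤ w1Of 3 F := by
    intro u hu
    have h := hd u hu
    rw [hconj u hu, hinvE u hu] at h
    have h3 := hU3 u hu
    rwa [show u⁻¹ * u⁻¹ = u from inv_mul_eq_iff_eq_mul.2 (inv_eq_of_mul_eq_one_right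
      (by rw [← mul_assoc, ← pow_three', h3]))] at h
  set C := qOf 3 F ⊓ centralizer ({e0} : Set G) with hC
  have memC : ∀ {c}, c ∈ C ↔ c ∈ qOf 3 F ∧ Commute e0 c := fun {c} =>
    ⟨fun h => ⟨(mem_inf.1 h).1, mem_centralizer_iff.1 (mem_inf.1 h).2 e0 rfl⟩,
      fun h => mem_inf.2 ⟨h.1, mem_centralizer_iff.2 fun y hy => by rw [Set.mem_singleton_iff.1 hy, h.2.eq]⟩⟩
  have hUQ : w1Of 3 E ≤ qOf 3 F := hUF.trans ((w1_le_wOf hF).trans (wOf_le_qOf F))
  have hsplit : ∀ r ∈ qOf 3 F, ∃ t ∈ w1Of 3 E, ∃ c ∈ C, r = t * c := by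
    intro r hr
    set t := ⁅e0, r⁆ with ht
    have htU : t ∈ w1Of 3 E := by
      rw [← hU, ← commutator_core hE hEs]
      exact commutator_mem_commutator he0 (hQR hr)
    refine ⟨t, htU, t * t * r, memC.2 ⟨mul_mem (mul_mem (hUQ htU) (hUQ htU)) hr, ?_⟩, ?_⟩
    · refine mul_inv_eq_iff_eq_mul.1 ?_
      have h1 : e0 * r * e0⁻¹ = t * r := by rw [ht, commutatorElement_def]; group
      have h3 := hU3 t htU
      calc e0 * (t * t * r) * e0⁻¹ = (e0 * t * e0⁻¹) * (e0 * t * e0⁻¹) * (e0 * r * e0⁻¹) := by group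
        _ = t⁻¹ * t⁻¹ * (t * r) := by rw [hinvE t htU, h1]
        _ = t⁻¹ * r := by group
        _ = t * t * r := by rw [inv_eq_of_mul_eq_one_left (by rw [← pow_three', h3] : t * t * t = 1)]
    · rw [← mul_assoc, ← mul_assoc, ← pow_three', hU3 t htU, one_mul]
  have hZC : zOf 3 F ≤ C := by
    rw [← X.comm, commutator_le]
    intro a ha a' ha'
    obtain ⟨t, ht, c, hc, rfl⟩ := hsplit a ha
    obtain ⟨t', ht', c', hc', rfl⟩ := hsplit a' ha'
    have hcR := hQR (memC.1 hc).1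
    have hcR' := hQR (memC.1 hc').1
    have h1 : ⁅t * c, t' * c'⁆ = ⁅c, c'⁆ := by
      have e1 : ∀ y ∈ Cfsg.pCore 3 G, ⁅t * c, y⁆ = ⁅c, y⁆ := by
        intro y hy
        have hty : ⁅c, y⁆ ∈ Cfsg.pCore 3 G := mul_mem (mul_mem (mul_mem hcR hy) (inv_mem hcR)) (inv_mem hy)
        calc ⁅t * c, y⁆ = t * ⁅c, y⁆ * (y * t⁻¹ * y⁻¹) := by simp only [commutatorElement_def]; group
          _ = t * ⁅c, y⁆ * t⁻¹ := by rw [(hUc _ (inv_mem ht) y hy).eq, mul_inv_cancel_right]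
          _ = ⁅c, y⁆ := by rw [← (hUc t ht _ hty).eq, mul_inv_cancel_right]
      rw [e1 _ (mul_mem (hQR (hUQ ht')) hcR')]
      calc ⁅c, t' * c'⁆ = ⁅c, t'⁆ * (t' * ⁅c, c'⁆ * t'⁻¹) := by simp only [commutatorElement_def]; group
        _ = ⁅c, c'⁆ := by
          rw [commutatorElement_eq_one_iff_mul_comm.2 (hUc t' ht' c hcR).eq, one_mul,
            ← (hUc t' ht' ⁅c, c'⁆ (mul_mem (mul_mem (mul_mem hcR hcR') (inv_mem hcR)) (inv_mem hcR'))).eq,
            mul_inv_cancel_right]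
    rw [h1]
    exact mul_mem (mul_mem (mul_mem hc hc') (inv_mem hc)) (inv_mem hc')
  have hCW : C ⊓ wOf 3 F ≤ zOf 3 F := by
    intro w hw
    obtain ⟨hwC, hwW⟩ := mem_inf.1 hw
    obtain ⟨a, ha, z0, hz0, rfl⟩ := decompose hF hwW
    have haC : a ∈ C := by simpa using mul_mem hwC (inv_mem (hZC hz0))
    have h1 := hinvE a (hW ha)
    rw [(memC.1 haC).2.eq, mul_inv_cancel_right] at h1
    rw [eq_one_of_sq (hU3 a (hW ha)) (by nth_rw 2 [h1]; rw [mul_inv_cancel]), one_mul]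
    exact hz0
  -- the element of the Baumann subgroup
  obtain ⟨b, hbB, hbW⟩ := exists_mem_notMem_centralizer hF X.hEB
  have hbF : b ∈ normalizer (F : Set G) := Cfsg.Lib.BlockBasic.baumann_le_normalizer X.hEB hbB
  have hbE : b ∈ normalizer (E : Set G) := baumann_normalizes hG hE hEs X.T hbB
  have hbC : ∀ c ∈ C, b * c * b⁻¹ ∈ C := by
    intro c hc
    obtain ⟨hcQ, hce⟩ := memC.1 hc
    have hbc : b * c * b⁻¹ ∈ qOf 3 F := conj_qOf hbF hcQ
    refine memC.2 ⟨hbc, ?_⟩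
    set e1 := b * e0 * b⁻¹ with he1
    have he1E : e1 ∈ E := (mem_normalizer_iff.1 hbE e0).1 he0
    have hs : e0⁻¹ * e1 ∈ w1Of 3 E := by
      rw [← hU]
      refine mem_qOf_of_commute hE (mul_mem (inv_mem he0) he1E) fun u hu => ?_
      have hu' : b⁻¹ * u * b⁻¹⁻¹ ∈ w1Of 3 E := conj_w1_self hE (inv_mem hbE) hu
      have h1 : e1 * u * e1⁻¹ = u⁻¹ := by
        calc e1 * u * e1⁻¹ = b * (e0 * (b⁻¹ * u * b⁻¹⁻¹) * e0⁻¹) * b⁻¹ := by rw [he1]; group
          _ = b * (b⁻¹ * u * b⁻¹⁻¹)⁻¹ * b⁻¹ := by rw [hinvE _ hu']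
          _ = u⁻¹ := by group
      refine mul_inv_eq_iff_eq_mul.1 ?_
      calc e0⁻¹ * e1 * u * (e0⁻¹ * e1)⁻¹ = e0⁻¹ * (e1 * u * e1⁻¹) * e0 := by group
        _ = e0⁻¹ * (e0 * u * e0⁻¹) * e0 := by rw [h1, hinvE u hu]
        _ = u := by group
    have c1 : Commute e1 (b * c * b⁻¹) := hce.map (MulAut.conj b).toMonoidHom
    have c2 : Commute (e0⁻¹ * e1) (b * c * b⁻¹) := (hUc _ hs _ (hQR hbc)).symm
    have := c1.mul_left c2.inv_left
    rwa [_root_.mul_inv_rev, inv_inv, mul_inv_cancel_left] at this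
  obtain ⟨⟨M1, hM1⟩, ⟨M2, hM2⟩⟩ := X.exists_lin hF hbF fun h4 => by
    obtain ⟨e, he, hk⟩ := X.D.baumann_inner hG hF h4 X.T
      (Cfsg.Lib.BlockBasic.baumann_le_normalizer X.hEB) hbB
    rw [← mul_inv_cancel_left e b]
    exact mul_mem (mem_sup_left he) (mem_sup_right (mem_kOne_of_trivMod hF hk))
  obtain ⟨j, hj⟩ := X.T.2 ⟨b, (mem_inf.1 hbB).1⟩
  have hbp : b ^ 3 ^ j = 1 := congrArg Subtype.val hj
  haveI : CharP K 3 := X.D.ringChar_eq ▸ ringChar.charP K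
  have hp1 : M1 ^ 3 ^ j = 1 := by
    have h : ∀ (n : ℕ) v, X.D.act' (pow_mem hbF n) v = M1 ^ n *ᵥ v := by
      intro n
      induction n with
      | zero =>
        intro v
        rw [X.D.act'_congr (pow_zero b) _ (one_mem _), X.D.act'_one, pow_zero, one_mulVec]
      | succ n ih =>
        intro v
        rw [X.D.act'_congr (pow_succ' b n) _ (mul_mem hbF (pow_mem hbF n)), X.D.act'_mul hbF (pow_mem hbF n), ih,
          hM1, Matrix.mulVec_mulVec, ← pow_succ']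
    refine Matrix.ext_iff_mulVec.mpr fun v => ?_
    rw [← h, X.D.act'_congr hbp _ (one_mem _), X.D.act'_one, one_mulVec]
  have hp2 : M2 ^ 3 ^ j = 1 := by
    have h : ∀ (n : ℕ) v, X.act' (pow_mem hbF n) v = M2 ^ n *ᵥ v := by
      intro n
      induction n with
      | zero =>
        intro v
        rw [X.act'_congr (pow_zero b) _ (one_mem _), X.act'_one, pow_zero, one_mulVec]
      | succ n ih =>
        intro v
        rw [X.act'_congr (pow_succ' b n) _ (mul_mem hbF (pow_mem hbF n)), X.act'_mul hbF (pow_mem hbF n), ih,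
          hM2, Matrix.mulVec_mulVec, ← pow_succ']
    refine Matrix.ext_iff_mulVec.mpr fun v => ?_
    rw [← h, X.act'_congr hbp _ (one_mem _), X.act'_one, one_mulVec]
  have hq : ∀ (M : Matrix (Fin 2) (Fin 2) K), M ^ 3 ^ j = 1 → ∀ v, (v - M *ᵥ v) - M *ᵥ (v - M *ᵥ v) = 0 := by
    intro M hM v
    have h := congrArg (fun N => N *ᵥ v) (mat_quad (p := 3) hM)
    simp only [← Matrix.mulVec_mulVec, Matrix.sub_mulVec, one_mulVec, Matrix.zero_mulVec, Matrix.mulVec_sub] at h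
    rw [Matrix.mulVec_sub]
    linear_combination (norm := abel) h
  -- quadratic on the module
  have hWquad : ∀ w ∈ wOf 3 F, ⁅⁅w, b⁆, b⁆ ∈ zOf 3 F := by
    intro w hw
    let d : ↥(wOf 3 F) → ↥(wOf 3 F) := fun y => y * (conjW hbF y)⁻¹
    have hd1 : ∀ y : ↥(wOf 3 F), ((d y : ↥(wOf 3 F)) : G) = ⁅(y : G), b⁆ := fun y => by
      show (y : G) * (b * (y : G) * b⁻¹)⁻¹ = _
      rw [commutatorElement_def]; group
    have hd2 : ∀ y, X.D.crd (d y) = X.D.crd y - M1 *ᵥ X.D.crd y := fun y => by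
      rw [← hM1, X.D.act'_crd]
      simp only [d, LinMod.crd, map_mul, map_inv, toAdd_mul, toAdd_inv, sub_eq_add_neg]
    have h : ((d (d ⟨w, hw⟩) : ↥(wOf 3 F)) : G) = ⁅⁅w, b⁆, b⁆ := by rw [hd1, hd1]
    rw [← h, ← X.D.crd_eq_zero, hd2, hd2]
    exact hq M1 hp1 _
  have hQquad : ∀ q ∈ qOf 3 F, ⁅⁅q, b⁆, b⁆ ∈ wOf 3 F := by
    intro q hq'
    let d : ↥(qOf 3 F) → ↥(qOf 3 F) := fun y => y * (conjQ hbF y)⁻¹
    have hd1 : ∀ y : ↥(qOf 3 F), ((d y : ↥(qOf 3 F)) : G) = ⁅(y : G), b⁆ := fun y => by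
      show (y : G) * (b * (y : G) * b⁻¹)⁻¹ = _
      rw [commutatorElement_def]; group
    have hd2 : ∀ y, X.crd (d y) = X.crd y - M2 *ᵥ X.crd y := fun y => by
      rw [← hM2, X.act'_crd]
      simp only [d, ExcMod.crd, map_mul, map_inv, toAdd_mul, toAdd_inv, sub_eq_add_neg]
    have h : ((d (d ⟨q, hq'⟩) : ↥(qOf 3 F)) : G) = ⁅⁅q, b⁆, b⁆ := by rw [hd1, hd1]
    rw [← h, ← X.kerψ']
    apply Multiplicative.toAdd.injective
    show X.crd (d (d ⟨q, hq'⟩)) = 0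
    rw [hd2, hd2]
    exact hq M2 hp2 _
  -- the filtration
  have hbZ : ∀ y ∈ zOf 3 F, ⁅y, b⁆ ∈ zOf 3 F := fun y hy => by
    rw [commutatorElement_def, show y * b * y⁻¹ * b⁻¹ = y * (b * y * b⁻¹)⁻¹ by group]
    exact mul_mem hy (inv_mem (conj_zOf hbF hy))
  have hQQ : ∀ a ∈ qOf 3 F, ∀ a' ∈ qOf 3 F, ⁅a, a'⁆ ∈ zOf 3 F := fun a ha a' ha' =>
    X.comm ▸ commutator_mem_commutator ha ha'
  have hQb : ∀ q ∈ qOf 3 F, ⁅q, b⁆ ∈ qOf 3 F := fun q hq => by
    rw [commutatorElement_def, show q * b * q⁻¹ * b⁻¹ = q * (b * q * b⁻¹)⁻¹ by group]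
    exact mul_mem hq (inv_mem (conj_qOf hbF hq))
  have hQZ : ∀ a ∈ qOf 3 F, ∀ y ∈ zOf 3 F, a * y * a⁻¹ ∈ zOf 3 F := fun a ha y hy =>
    conj_zOf (le_normalizer (qOf_le F ha)) hy
  -- the first layer
  let M2s : Subgroup G :=
    { carrier := {y | y ∈ qOf 3 F ∧ ⁅y, b⁆ ∈ zOf 3 F}
      one_mem' := ⟨one_mem _, by simp [one_mem]⟩
      mul_mem' := by
        rintro a a' ⟨ha, ha'⟩ ⟨hb1, hb2⟩
        refine ⟨mul_mem ha hb1, ?_⟩
        rw [show ⁅a * a', b⁆ = a * ⁅a', b⁆ * a⁻¹ * ⁅a, b⁆ by simp only [commutatorElement_def]; group]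
        exact mul_mem (hQZ a ha _ hb2) ha'
      inv_mem' := by
        rintro a ⟨ha, ha'⟩
        refine ⟨inv_mem ha, ?_⟩
        rw [show ⁅a⁻¹, b⁆ = a⁻¹ * ⁅a, b⁆⁻¹ * a⁻¹⁻¹ by simp only [commutatorElement_def]; group]
        exact hQZ _ (inv_mem ha) _ (inv_mem ha') }
  have hconjM2 : ∀ a ∈ qOf 3 F, ∀ y ∈ M2s, a * y * a⁻¹ ∈ M2s := by
    intro a ha y hy
    rw [show a * y * a⁻¹ = ⁅a, y⁆ * y by rw [commutatorElement_def]; group]
    have hy1 : y ∈ qOf 3 F := hy.1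
    exact mul_mem ⟨(wOf_le_qOf F) (mem_inf.1 (hQQ a ha y hy1)).1, hbZ _ (hQQ a ha y hy1)⟩ hy
  let M3s : Subgroup G :=
    { carrier := {y | y ∈ qOf 3 F ∧ ⁅y, b⁆ ∈ M2s}
      one_mem' := ⟨one_mem _, by simp only [commutatorElement_one_left]; exact M2s.one_mem⟩
      mul_mem' := by
        rintro a a' ⟨ha, ha'⟩ ⟨hb1, hb2⟩
        refine ⟨mul_mem ha hb1, ?_⟩
        rw [show ⁅a * a', b⁆ = a * ⁅a', b⁆ * a⁻¹ * ⁅a, b⁆ by simp only [commutatorElement_def]; group]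
        exact mul_mem (hconjM2 a ha _ hb2) ha'
      inv_mem' := by
        rintro a ⟨ha, ha'⟩
        refine ⟨inv_mem ha, ?_⟩
        rw [show ⁅a⁻¹, b⁆ = a⁻¹ * ⁅a, b⁆⁻¹ * a⁻¹⁻¹ by simp only [commutatorElement_def]; group]
        exact hconjM2 _ (inv_mem ha) _ (inv_mem ha') }
  have hall : qOf 3 F ≤ M3s := by
    intro q hq'
    obtain ⟨t, ht, c, hc, rfl⟩ := hsplit q hq'
    have h1 : t ∈ M3s := ⟨hUQ ht, hQb t (hUQ ht), hWquad t (w1_le_wOf hF (hUF ht))⟩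
    have h2 : c ∈ M3s := by
      have hbc : ∀ d ∈ C, ⁅d, b⁆ ∈ C := fun d hd => by
        rw [commutatorElement_def, show d * b * d⁻¹ * b⁻¹ = d * (b * d * b⁻¹)⁻¹ by group]
        exact mul_mem hd (inv_mem (hbC d hd))
      exact ⟨(memC.1 hc).1, hQb c (memC.1 hc).1,
        hCW (mem_inf.2 ⟨hbc _ (hbc c hc), hQquad c (memC.1 hc).1⟩)⟩
    exact mul_mem h1 h2
  -- powers
  have hbM2 : ∀ y ∈ M2s, b * y * b⁻¹ ∈ M2s := by
    rintro y ⟨hy, hy'⟩
    refine ⟨conj_qOf hbF hy, ?_⟩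
    rw [show ⁅b * y * b⁻¹, b⁆ = b * ⁅y, b⁆ * b⁻¹ by simp only [commutatorElement_def]; group]
    exact conj_zOf hbF hy'
  have hzp : ∀ (N : Subgroup G) (q : G), (∀ y ∈ N, b * y * b⁻¹ ∈ N) → ⁅q, b⁆ ∈ N → ∀ n : ℕ, ⁅q, b ^ n⁆ ∈ N := by
    intro N q hN h n
    induction n with
    | zero => simp [one_mem]
    | succ n ih =>
      rw [pow_succ', show ⁅q, b * b ^ n⁆ = ⁅q, b⁆ * (b * ⁅q, b ^ n⁆ * b⁻¹) by
        simp only [commutatorElement_def]; group]
      exact mul_mem h (hN _ ih)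
  refine X.h9 b hbB hbW ?_
  rw [X.cen]
  have hfirst : ⁅qOf 3 F, zpowers b⁆ ≤ M2s := by
    rw [commutator_le]
    intro q hq' y hy
    obtain ⟨n, rfl⟩ := mem_powers_iff_mem_zpowers.2 hy
    exact hzp M2s q hbM2 (hall hq').2 n
  rw [commutator_le]
  intro q hq' y hy
  obtain ⟨n, rfl⟩ := mem_powers_iff_mem_zpowers.2 hy
  exact hzp (zOf 3 F) q (fun y hy => conj_zOf hbF hy) (hfirst hq').2 n

end Cfsg.Lib.BlockPair
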