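/-
An arbitrary block lies in or commutes with a subnormal one.
-/
import Cfsg.Agent.BlockPair.Quad

set_option autoImplicit false

namespace Cfsg.Lib.BlockPair

set_option linter.style.haveILetI false
set_option linter.unusedSectionVars false

open Subgroup Matrix
open scoped commutatorElement MatrixGroups

universe u

variable {G : Type u} [Group G] [Finite G] {p : ℕ} [hp : Fact p.Prime] {E F : Subgroup G}

/-- coprime elements trivial on both sections centralise `O_p(E)` -/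
theorem commute_qOf (hE : IsBlk p E) {y : G} (hy : y ∈ kZero hE) (hco : (orderOf y).Coprime p) :
    ∀ q ∈ qOf p E, Commute y q := by
  obtain ⟨hy1, hy2⟩ := (mem_kZero hE).1 hy
  have hyW1 := (mem_kOne.1 hy1).2
  have hWc : ∀ w ∈ wOf p E, ∀ q ∈ qOf p E, Commute w q := fun w hw q hq =>
    (mem_centralizer_iff.1 (mem_inf.1 (wOf_le E hw)).2 q hq).symm
  have hcomm : ∀ a ∈ qOf p E, ∀ b ∈ qOf p E, Commute y ⁅a, b⁆ := by
    intro a ha b hb
    refine mul_inv_eq_iff_eq_mul.1 ?_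
    set s := y * a * y⁻¹ * a⁻¹
    set t := y * b * y⁻¹ * b⁻¹
    have hs : s ∈ wOf p E := hy2 a ha
    have ht : t ∈ wOf p E := hy2 b hb
    calc y * ⁅a, b⁆ * y⁻¹ = ⁅s * a, t * b⁆ := by simp only [s, t, commutatorElement_def]; group
      _ = s * (a * (t * b) * a⁻¹) * s⁻¹ * (t * b)⁻¹ := by simp only [commutatorElement_def]; group
      _ = (a * (t * b) * a⁻¹) * (t * b)⁻¹ := by
        rw [(hWc s hs _ (mul_mem (mul_mem ha (mul_mem (wOf_le_qOf E ht) hb)) (inv_mem ha))).eq, mul_inv_cancel_right]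
      _ = (a * t * a⁻¹) * (a * b * a⁻¹ * b⁻¹) * t⁻¹ := by group
      _ = ⁅a, b⁆ := by
        rw [← (hWc t ht a ha).eq, mul_inv_cancel_right,
          (hWc t ht _ (mul_mem (mul_mem (mul_mem ha hb) (inv_mem ha)) (inv_mem hb))).eq, mul_inv_cancel_right,
          commutatorElement_def]
  have hyW : ∀ w ∈ wOf p E, Commute y w := by
    intro w hw
    rcases top_kind hE with hlin | ⟨-, -, h5, -⟩
    · refine hyW1 w ?_
      have h : w1Of p E = qOf p E := by
        conv_rhs => rw [← commutator_qOf hE, hlin]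
      rw [h]; exact wOf_le_qOf E hw
    · obtain ⟨a, ha, z, hz, rfl⟩ := decompose hE hw
      refine (hyW1 a ha).mul_right ?_
      have hle : ⁅qOf p E, qOf p E⁆ ≤ centralizer ({y} : Set G) := by
        rw [commutator_le]
        intro a ha b hb
        exact mem_centralizer_iff.2 fun x hx => by rw [Set.mem_singleton_iff.1 hx]; exact (hcomm a ha b hb).eq
      rw [h5] at hle
      exact mem_centralizer_iff.1 (hle hz) y rfl
  intro q hq
  refine coprime_fix (s := y * q * y⁻¹ * q⁻¹) (by group) (hyW _ (hy2 q hq)) hco (i := 1) ?_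
  rw [pow_one]
  exact wOf_pow E (hy2 q hq)

/-- the stabiliser of the chain -/
def stabK (hE : IsBlk p E) : Subgroup G where
  carrier := {k | k ∈ kZero hE ∧ ∀ r ∈ Cfsg.pCore p G, k * r * k⁻¹ * r⁻¹ ∈ qOf p E}
  one_mem' := ⟨one_mem _, fun r _ => by simp [one_mem]⟩
  mul_mem' := by
    rintro a b ⟨ha, ha'⟩ ⟨hb, hb'⟩
    refine ⟨mul_mem ha hb, fun r hr => ?_⟩
    rw [show a * b * r * (a * b)⁻¹ * r⁻¹ = a * (b * r * b⁻¹ * r⁻¹) * a⁻¹ * (a * r * a⁻¹ * r⁻¹) by group]
    exact mul_mem (conj_qOf (kZero_le hE ha) (hb' r hr)) (ha' r hr)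
  inv_mem' := by
    rintro a ⟨ha, ha'⟩
    refine ⟨inv_mem ha, fun r hr => ?_⟩
    rw [show a⁻¹ * r * a⁻¹⁻¹ * r⁻¹ = a⁻¹ * (a * r * a⁻¹ * r⁻¹)⁻¹ * a⁻¹⁻¹ by group]
    exact conj_qOf (kZero_le hE (inv_mem ha)) (inv_mem (ha' r hr))

theorem isPGroup_stabK (hG : centralizer (Cfsg.pCore p G : Set G) ≤ Cfsg.pCore p G) (hE : IsBlk p E) :
    IsPGroup p (stabK hE) := by
  rintro ⟨y, hy⟩
  obtain ⟨i, m, hm, hym⟩ := Nat.exists_eq_pow_mul_and_not_dvd (orderOf_pos y).ne' p hp.out.ne_one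
  refine ⟨i, Subtype.ext ?_⟩
  show y ^ p ^ i = 1
  set z := y ^ p ^ i with hz
  have hco : (orderOf z).Coprime p := by
    refine Nat.Coprime.coprime_dvd_left (orderOf_dvd_of_pow_eq_one (n := m) ?_)
      ((hp.out.coprime_iff_not_dvd.2 hm).symm)
    rw [hz, ← pow_mul, ← hym, pow_orderOf_eq_one]
  obtain ⟨hz0, hzR⟩ : z ∈ stabK hE := pow_mem hy _
  have hzQ := commute_qOf hE hz0 hco
  have hzc : z ∈ centralizer (Cfsg.pCore p G : Set G) := mem_centralizer_iff.2 fun r hr => by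
    obtain ⟨k, hk⟩ := pow_of_pgroup (isPGroup_qOf E) (hzR r hr)
    exact (coprime_fix (by group) (hzQ _ (hzR r hr)) hco hk).eq.symm
  obtain ⟨k, hk⟩ := pow_of_pgroup (Cfsg.Lib.Components.isPGroup_pCore p) (hG hzc)
  exact orderOf_eq_one_iff.mp (Nat.eq_one_of_dvd_coprimes (hco.pow_right k) dvd_rfl (orderOf_dvd_of_pow_eq_one hk))

/-- an arbitrary block lies in or commutes with a subnormal one -/
theorem block_le_or_commute (hG : centralizer (Cfsg.pCore p G : Set G) ≤ Cfsg.pCore p G) (hE : IsBlk p E)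
    (hEs : E.IsSubnormal) (hF : IsBlk p F) : F ≤ E ∨ ⁅F, E⁆ = ⊥ := by
  haveI : (Cfsg.pCore p G).Normal := Cfsg.Lib.Components.pCore_normal' p
  have hFN : F ≤ normalizer (E : Set G) := (block_le_bg hF).trans (bg_normalizes hG hE hEs)
  have hF0 := block_kZero hG hE hEs hF
  have hFcl := Cfsg.Lib.BlockBasic.closure_coprime_elements (res hF)
  -- first alternative
  have first : (∀ f ∈ F, (orderOf f).Coprime p → ∀ u ∈ w1Of p E, Commute f u) → ⁅F, E⁆ = ⊥ := by
    intro h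
    rw [commutator_eq_bot_iff_le_centralizer]
    conv_lhs => rw [← hFcl]
    rw [closure_le]
    rintro f ⟨hf, hco⟩
    obtain ⟨e, he, k, hk, hfk⟩ := exists_of_mem_sup (kZero_le hE) (hF0 hf)
    have hk1 := ((mem_kZero hE).1 hk).1
    have he1 : ∀ u ∈ w1Of p E, Commute e u := fun u hu => by
      have := (h f hf hco u hu).mul_left ((mem_kOne.1 hk1).2 u hu).inv_left
      rwa [hfk, mul_inv_cancel_right] at this
    have heQ := mem_qOf_of_commute hE he he1
    have he0 : e ∈ kZero hE := by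
      refine (mem_kZero hE).2 ⟨mem_kOne.2 ⟨le_normalizer he, he1⟩, fun q hq => ?_⟩
      exact commutator_qq_le hE (show e * q * e⁻¹ * q⁻¹ ∈ ⁅qOf p E, qOf p E⁆ from commutator_mem_commutator heQ hq)
    have hf0 : f ∈ kZero hE := hfk ▸ mul_mem he0 hk
    have hfQ := commute_qOf hE hf0 hco
    refine mem_centralizer_iff.2 fun x hx => ?_
    have hs := ((trivMod_of_mem_kOne hE ((mem_kZero hE).1 hf0).1).exact hE).2 x hx
    obtain ⟨i, hi⟩ := pow_of_pgroup (isPGroup_qOf E) hs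
    exact (coprime_fix (by group) (hfQ _ hs) hco hi).eq.symm
  by_cases hI : ⁅w1Of p E, F⁆ = ⊥
  · refine Or.inr (first fun f hf _ u hu => ?_)
    exact mem_centralizer_iff.1 (commutator_eq_bot_iff_le_centralizer.1 hI hu) f hf
  left
  have hW1R : w1Of p E ≤ Cfsg.pCore p G := w1_le_core hE hEs
  have hRF : Cfsg.pCore p G ≤ normalizer (F : Set G) := core_le_normalizer hF
  have hRFQ : Cfsg.pCore p G ⊓ F ≤ qOf p F := by
    refine Cfsg.Lib.Large.le_pCoreOf inf_le_right ((Cfsg.Lib.Components.isPGroup_pCore p).to_le inf_le_left) ?_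
    intro x hx
    rw [mem_normalizer_iff]
    intro y
    rw [mem_inf, mem_inf]
    exact and_congr (mem_normalizer_iff.1 (le_normalizer_of_normal (mem_top x)) y)
      (mem_normalizer_iff.1 (le_normalizer hx) y)
  have hcomR : ∀ r ∈ Cfsg.pCore p G, ∀ f ∈ F, ⁅f, r⁆ ∈ Cfsg.pCore p G ⊓ F := fun r hr f hf => mem_inf.2 ⟨by
      rw [commutatorElement_def]
      exact mul_mem ((Cfsg.Lib.Components.pCore_normal' p).conj_mem _ hr f) (inv_mem hr), by
      rw [commutatorElement_def, show f * r * f⁻¹ * r⁻¹ = f * (r * f⁻¹ * r⁻¹) by group]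
      exact mul_mem hf ((mem_normalizer_iff.1 (hRF hr) _).1 (inv_mem hf))⟩
  set Yc := ⁅w1Of p E, F⁆ with hYc
  have hYW : Yc ≤ w1Of p E := by
    rw [hYc, commutator_le]
    intro a ha f hf
    rw [commutatorElement_def, show a * f * a⁻¹ * f⁻¹ = a * (f * a * f⁻¹)⁻¹ by group]
    exact mul_mem ha (inv_mem (conj_w1_self hE (hFN hf) ha))
  have hYQ : Yc ≤ qOf p F := by
    rw [hYc, commutator_le]
    intro a ha f hf
    refine hRFQ ?_
    rw [← commutatorElement_inv]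
    exact inv_mem (hcomR a (hW1R ha) f hf)
  have hYF : F ≤ normalizer (Yc : Set G) := normalizer_commutator_ge_right _ _
  have sup_inv : ∀ (A B : Subgroup G), F ≤ normalizer (A : Set G) → F ≤ normalizer (B : Set G) →
      ∀ e ∈ F, ∀ u ∈ A ⊔ B, e * u * e⁻¹ ∈ A ⊔ B := by
    intro A B hA hB e he u hu
    exact (sup_le (fun a ha => (mem_sup_left ((mem_normalizer_iff.1 (hA he) a).1 ha) : e * a * e⁻¹ ∈ A ⊔ B))
      (fun a ha => (mem_sup_right ((mem_normalizer_iff.1 (hB he) a).1 ha) : e * a * e⁻¹ ∈ A ⊔ B)) :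
      A ⊔ B ≤ (A ⊔ B).comap (MulAut.conj e).toMonoidHom) hu
  have hWn : F ≤ normalizer (wOf p F : Set G) := (irr_module hF).2.2.1
  have hYWF : Yc ≤ wOf p F := by
    rcases top_kind hF with hlinF | ⟨-, hirr, h5, hz⟩
    · exact hYQ.trans hlinF.le
    rcases hirr.2.2.2.2.1 (Yc ⊔ wOf p F) le_sup_right (sup_le hYQ (wOf_le_qOf F)) (sup_inv _ _ hYF hWn) with h | h
    · exact le_sup_left.trans h.le
    exfalso
    apply hz
    rw [← h5, ← h, commutator_eq_bot_iff_le_centralizer]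
    have hab : ∀ a ∈ Yc, ∀ b ∈ Yc, Commute a b := fun a ha b hb =>
      wOf_comm E (w1_le_wOf hE (hYW ha)) (w1_le_wOf hE (hYW hb))
    have haw : ∀ a ∈ Yc, ∀ w ∈ wOf p F, Commute a w := fun a ha w hw =>
      mem_centralizer_iff.1 (mem_inf.1 (wOf_le F hw)).2 a (hYQ ha)
    refine sup_le (le_centralizer_iff.1 (sup_le (fun a ha => mem_centralizer_iff.2 fun b hb => (hab b hb a ha).eq)
      (fun w hw => mem_centralizer_iff.2 fun b hb => (haw b hb w hw).eq)))
      (le_centralizer_iff.1 (sup_le (fun a ha => mem_centralizer_iff.2 fun w hw => (haw a ha w hw).eq.symm)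
        (fun w hw => mem_centralizer_iff.2 fun b hb => (wOf_comm F hb hw).eq)))
  have hYZ : ¬ Yc ≤ zOf p F := by
    intro h
    apply hI
    rw [hYc, commutator_eq_bot_iff_le_centralizer, le_centralizer_iff]
    conv_lhs => rw [← hFcl]
    rw [closure_le]
    rintro f ⟨hf, hco⟩
    refine mem_centralizer_iff.2 fun w hw => ?_
    have hd : f * w * f⁻¹ * w⁻¹ ∈ zOf p F := by
      have := inv_mem (h (commutator_mem_commutator hw hf))
      rwa [commutatorElement_inv, commutatorElement_def] at this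
    exact (coprime_fix (s := f * w * f⁻¹ * w⁻¹) (by group) (mem_centralizer_iff.1 (mem_inf.1 hd).2 f hf) hco (i := 1)
      (by rw [pow_one]; exact wOf_pow F (mem_inf.1 hd).1)).eq.symm
  have hWF : Yc ⊔ zOf p F = wOf p F := by
    refine ((irr_module hF).2.2.2.2.1 _ le_sup_right (sup_le hYWF inf_le_left)
      (sup_inv _ _ hYF (irr_module hF).2.2.2.1)).resolve_left fun h => hYZ (le_sup_left.trans h.le)
  have hW1 : w1Of p F ≤ w1Of p E := by
    show ⁅wOf p F, F⁆ ≤ _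
    rw [commutator_le]
    intro a ha f hf
    rw [← hWF, ← SetLike.mem_coe, coe_mul_of_left_le_normalizer_right _ _ (w1_normalizer_zOf hF hYWF)] at ha
    obtain ⟨y, hy, z, hz, rfl⟩ := Set.mem_mul.1 ha
    rw [comm_decompose hz hf, commutatorElement_def, show y * f * y⁻¹ * f⁻¹ = y * (f * y * f⁻¹)⁻¹ by group]
    exact mul_mem (hYW hy) (inv_mem (conj_w1_self hE (hFN hf) (hYW hy)))
  have hW1Q : w1Of p E ≤ qOf p E := (w1_le_wOf hE).trans (wOf_le_qOf E)
  -- commutators with `O_p(G)`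
  have hR : ∀ f ∈ F, (orderOf f).Coprime p → ∀ r ∈ Cfsg.pCore p G, ⁅f, r⁆ ∈ qOf p E := by
    have via : (∀ f ∈ F, ∀ r ∈ Cfsg.pCore p G, ⁅f, r⁆ ∈ wOf p F) →
        ∀ f ∈ F, (orderOf f).Coprime p → ∀ r ∈ Cfsg.pCore p G, ⁅f, r⁆ ∈ qOf p E :=
      fun h f hf hco r hr => hW1Q (hW1 (comm_mem_w1 hF hf hco (h f hf r hr)))
    by_cases hlinF : qOf p F = wOf p F
    · exact via fun f hf r hr => hlinF ▸ hRFQ (hcomR r hr f hf)
    obtain ⟨-, hirr, h5, -⟩ := (top_kind hF).resolve_left hlinF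
    have hQn : F ≤ normalizer (qOf p F : Set G) := normal_qOf F
    have hRn : F ≤ normalizer (Cfsg.pCore p G : Set G) := fun x _ => le_normalizer_of_normal (mem_top x)
    rcases hirr.2.2.2.2.1 ((qOf p F ⊓ Cfsg.pCore p G) ⊔ wOf p F) le_sup_right
        (sup_le inf_le_left (wOf_le_qOf F))
        (sup_inv _ _ (fun x hx => mem_normalizer_iff.2 fun y => by
          rw [mem_inf, mem_inf]
          exact and_congr (mem_normalizer_iff.1 (hQn hx) y) (mem_normalizer_iff.1 (hRn hx) y)) hWn) with h | h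
    · refine via fun f hf r hr => ?_
      rw [← h]
      exact mem_sup_left (mem_inf.2 ⟨hRFQ (hcomR r hr f hf), (mem_inf.1 (hcomR r hr f hf)).1⟩)
    have hWQ : ∀ (S : Subgroup G), S ≤ qOf p F → S ⊔ wOf p F = qOf p F → zOf p F ≤ ⁅S, S⁆ := by
      intro S hS hSW
      rw [← h5, commutator_le]
      intro a ha b hb
      have hn : S ≤ normalizer (wOf p F : Set G) := fun s hs => hWn (qOf_le F (hS hs))
      rw [← hSW, ← SetLike.mem_coe, coe_mul_of_left_le_normalizer_right _ _ hn] at ha hb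
      obtain ⟨s, hs, w, hw, rfl⟩ := Set.mem_mul.1 ha
      obtain ⟨s', hs', w', hw', rfl⟩ := Set.mem_mul.1 hb
      have hWc : ∀ {v}, v ∈ wOf p F → ∀ {x}, x ∈ qOf p F → v * x = x * v := fun hv _ hx =>
        (mem_centralizer_iff.1 (mem_inf.1 (wOf_le F hv)).2 _ hx).symm
      have e : ⁅s * w, s' * w'⁆ = ⁅s, s'⁆ := by
        simp only [commutatorElement_def]
        calc s * w * (s' * w') * (s * w)⁻¹ * (s' * w')⁻¹
            = s * (w * (s' * w')) * (w⁻¹ * s⁻¹) * (s' * w')⁻¹ := by group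
          _ = s * ((s' * w') * w) * (w⁻¹ * s⁻¹) * (s' * w')⁻¹ := by
            rw [hWc hw (mul_mem (hS hs') (wOf_le_qOf F hw'))]
          _ = s * s' * (w' * s⁻¹) * w'⁻¹ * s'⁻¹ := by group
          _ = s * s' * (s⁻¹ * w') * w'⁻¹ * s'⁻¹ := by rw [hWc hw' (inv_mem (hS hs))]
          _ = s * s' * s⁻¹ * s'⁻¹ := by group
      rw [e]
      exact commutator_mem_commutator hs hs'
    have hW1FR : w1Of p F ≤ Cfsg.pCore p G := hW1.trans hW1R
    have hWFR : wOf p F ≤ Cfsg.pCore p G := by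
      rw [← (wOf_eq_sup hF).1]
      refine sup_le hW1FR ((hWQ _ inf_le_left h).trans ?_)
      exact commutator_le.2 fun a ha b hb =>
        mul_mem (mul_mem (mul_mem (mem_inf.1 ha).2 (mem_inf.1 hb).2) (inv_mem (mem_inf.1 ha).2))
          (inv_mem (mem_inf.1 hb).2)
    have hQR : qOf p F ≤ Cfsg.pCore p G := by rw [← h]; exact sup_le inf_le_right hWFR
    have hQEn : F ≤ normalizer (qOf p E : Set G) := fun x hx => mem_normalizer_iff.2 fun y =>
      ⟨fun hy => conj_qOf (hFN hx) hy, fun hy => by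
        have := conj_qOf (inv_mem (hFN hx)) hy
        simpa [mul_assoc] using this⟩
    rcases hirr.2.2.2.2.1 ((qOf p F ⊓ qOf p E) ⊔ wOf p F) le_sup_right
        (sup_le inf_le_left (wOf_le_qOf F))
        (sup_inv _ _ (fun x hx => mem_normalizer_iff.2 fun y => by
          rw [mem_inf, mem_inf]
          exact and_congr (mem_normalizer_iff.1 (hQn hx) y) (mem_normalizer_iff.1 (hQEn hx) y)) hWn) with h' | h'
    swap
    · have hWFE : wOf p F ≤ qOf p E := by
        rw [← (wOf_eq_sup hF).1]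
        refine sup_le (hW1.trans hW1Q) ((hWQ _ inf_le_left h').trans ?_)
        exact commutator_le.2 fun a ha b hb =>
          mul_mem (mul_mem (mul_mem (mem_inf.1 ha).2 (mem_inf.1 hb).2) (inv_mem (mem_inf.1 ha).2))
            (inv_mem (mem_inf.1 hb).2)
      have hQE : qOf p F ≤ qOf p E := by rw [← h']; exact sup_le inf_le_right hWFE
      exact fun f hf _ r hr => hQE (hRFQ (hcomR r hr f hf))
    exfalso
    by_cases hlinE : qOf p E = wOf p E
    · obtain ⟨K, iK, iKt, ⟨X⟩⟩ := exc_shape hF hlinF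
      rcases shape hE with ⟨L, iL, iLt, ⟨DE⟩⟩ | ⟨h2, -, -⟩
      · exact no_linear_exc hG hE hEs hlinE DE hF X hQR hW1 hF0 hYWF
      · have := X.three
        omega
    apply hI
    obtain ⟨-, hirrE, -, -⟩ := (top_kind hE).resolve_left hlinE
    rw [hYc, commutator_eq_bot_iff_le_centralizer, le_centralizer_iff]
    conv_lhs => rw [← hFcl]
    rw [closure_le]
    rintro f ⟨hf, hco⟩
    obtain ⟨e, he, k, hk, hfk⟩ := exists_of_mem_sup (kZero_le hE) (hF0 hf)
    obtain ⟨hk1, hk2⟩ := (mem_kZero hE).1 hk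
    have hfq : ∀ q ∈ qOf p E, f * q * f⁻¹ * q⁻¹ ∈ wOf p E := by
      intro q hq
      have hqR := qOf_le_core hEs hq
      have hm : ⁅f, q⁆ ∈ wOf p F := by
        rw [← h']
        refine mem_sup_left (mem_inf.2 ⟨hRFQ (hcomR q hqR f hf), ?_⟩)
        rw [commutatorElement_def]
        exact mul_mem (conj_qOf (hFN hf) hq) (inv_mem hq)
      exact w1_le_wOf hE (hW1 (comm_mem_w1 hF hf hco hm))
    have heQ : e ∈ qOf p E := by
      refine hirrE.2.2.2.2.2 e he fun q hq => ?_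
      have hk' := hk2 _ (conj_qOf (inv_mem (mem_kOne.1 hk1).1) hq)
      have h1 := hfq _ (conj_qOf (inv_mem (mem_kOne.1 hk1).1) hq)
      have h2 : e * q * e⁻¹ * q⁻¹ ∈ wOf p E := by
        have h3 := mul_mem h1 (inv_mem hk')
        rw [hfk] at h3
        have e' : e * k * (k⁻¹ * q * k⁻¹⁻¹) * (e * k)⁻¹ * (k⁻¹ * q * k⁻¹⁻¹)⁻¹ *
            (k * (k⁻¹ * q * k⁻¹⁻¹) * k⁻¹ * (k⁻¹ * q * k⁻¹⁻¹)⁻¹)⁻¹ = e * q * e⁻¹ * q⁻¹ := by group
        rwa [e'] at h3
      rw [show ⁅q, e⁆ = (e * q * e⁻¹ * q⁻¹)⁻¹ by rw [commutatorElement_def]; group]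
      exact inv_mem h2
    refine mem_centralizer_iff.2 fun u hu => ?_
    have h1 : Commute e u := mem_centralizer_iff.1 (mem_inf.1 (wOf_le E (w1_le_wOf hE hu))).2 e heQ
    rw [hfk]
    exact (h1.mul_left ((mem_kOne.1 hk1).2 u hu)).eq.symm
  -- conclusion
  conv_lhs => rw [← hFcl]
  rw [closure_le]
  rintro f ⟨hf, hco⟩
  obtain ⟨e, he, k, hk, hfk⟩ := exists_of_mem_sup (kZero_le hE) (hF0 hf)
  refine Cfsg.Lib.PIrr.coprime_mem (isPGroup_stabK hG hE) (fun x hx => kZero_le hE hx.1) ?_ hco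
  rw [hfk]
  refine mul_mem (mem_sup_left he) (mem_sup_right (show k ∈ stabK hE from ⟨hk, fun r hr => ?_⟩))
  have h1 : f * r * f⁻¹ * r⁻¹ ∈ qOf p E := hR f hf hco r hr
  have h2 : e⁻¹ * r * e⁻¹⁻¹ * r⁻¹ ∈ qOf p E := by
    rw [← commutator_core hE hEs]
    exact commutator_mem_commutator (inv_mem he) hr
  have h3 : k * r * k⁻¹ * r⁻¹ = e⁻¹ * (f * r * f⁻¹ * r⁻¹) * e⁻¹⁻¹ * (e⁻¹ * r * e⁻¹⁻¹ * r⁻¹) := by
    rw [hfk]; group
  rw [h3]
  exact mul_mem (conj_qOf (inv_mem (le_normalizer he)) h1) h2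

end Cfsg.Lib.BlockPair
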